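import Cfsg.Agent.Lib.Nine.F

/-! Maximal invariant `3'`-subgroups. -/

set_option autoImplicit false
set_option linter.unusedSectionVars false

open Cfsg Cfsg.Agent.Char
open scoped Classical

namespace Cfsg.Agent.Nine

universe u

variable {G : Type u} [Group G]

theorem card_le_two_mul [Fintype G] {s : Finset G} {J : Subgroup G} {x : G} (h : ∀ g ∈ s, g * x⁻¹ ∈ J ∨ g * x ∈ J) :
    s.card ≤ 2 * Nat.card J := by
  have h1 : s ⊆ (Finset.univ.image fun j : J => (j : G) * x) ∪ (Finset.univ.image fun j : J => (j : G) * x⁻¹) := by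
    intro g hg
    simp only [Finset.mem_union, Finset.mem_image, Finset.mem_univ, true_and]
    exact (h g hg).imp (fun e => ⟨⟨_, e⟩, by simp⟩) fun e => ⟨⟨_, e⟩, by simp⟩
  refine (Finset.card_le_card h1).trans ((Finset.card_union_le _ _).trans ?_)
  rw [two_mul, Nat.card_eq_fintype_card]
  exact add_le_add Finset.card_image_le Finset.card_image_le

namespace H9
variable [Finite G] (h : H9 G) {q a b : ℕ} (hq : q.Prime) (hq2 : q ≠ 2)
  (hq3 : q ≠ 3) (hc : Nat.card G = 9 * 2 ^ a * q ^ b) {x : G} (hx : orderOf x = 3)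
include h hx

theorem mem_zpowers_of {D : Subgroup G} (hD : T3 D) (h1 : D ≠ ⊥) (hn : Nz x D) {g : G} (hg : g ∈ Nm D)
    (hg2 : g ∈ Cz x) : g ∈ Subgroup.zpowers x := by
  have h2 : Subgroup.zpowers x ≤ Cz x ⊓ Nm D := Subgroup.zpowers_le.2 ⟨mem_Cz.2 rfl, hn.mem_normalizer⟩
  have h3 : Nat.card (Cz x ⊓ Nm D : Subgroup G) ∣ 3 ^ 2 :=
    (Subgroup.card_dvd_of_le inf_le_left).trans (h.card x hx).dvd
  have h4 : Nat.card (Cz x ⊓ Nm D : Subgroup G) ≤ 3 := by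
    obtain ⟨i, hi, e⟩ := (Nat.dvd_prime_pow Nat.prime_three).1 h3
    interval_cases i
    · omega
    · omega
    · exact absurd (inf_eq_left.1 (Subgroup.eq_of_le_of_card_ge inf_le_left (by rw [e, h.card x hx]; norm_num)))
        (h.not_Cz_le hx hD h1)
  rw [Subgroup.eq_of_le_of_card_ge h2 (by rw [Nat.card_zpowers, hx]; exact h4)]
  exact ⟨hg2, hg⟩

omit hx in
theorem not_nine_dvd {D : Subgroup G} (hD : T3 D) (h1 : D ≠ ⊥) : ¬ 9 ∣ Nat.card (Nm D) := by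
  intro e
  have := Fact.mk Nat.prime_three
  obtain ⟨P, hP⟩ := Sylow.exists_subgroup_card_pow_prime (G := Nm D) 3 (n := 2) e
  obtain ⟨y, hy⟩ := exists_prime_orderOf_dvd_card' (G := P) 3 (by rw [hP]; norm_num)
  rw [← Subgroup.orderOf_coe, ← Subgroup.orderOf_coe] at hy
  have h2 : P.map (Nm D).subtype ≤ Cz (y : G) := by
    rintro _ ⟨z, hz, rfl⟩
    exact mem_Cz.2 (congrArg (fun t : P => ((t : Nm D) : G))
      ((IsPGroup.isMulCommutative_of_card_eq_prime_sq (p := 3) hP).is_comm.comm ⟨z, hz⟩ y))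
  refine h.not_Cz_le hy hD h1 ?_
  rw [← Subgroup.eq_of_le_of_card_ge h2 (by
    rw [h.card _ hy, Subgroup.card_map_of_injective (Nm D).subtype_injective, hP]; norm_num)]
  exact Subgroup.map_subtype_le P

include hq hq2 hq3 hc

theorem ST3 {D : Subgroup G} (hD : T3 D) (h1 : D ≠ ⊥) (hn : Nz x D)
    (hcase : MaxK x D ∨ ∃ p, (p = q ∨ (p = 2 ∧ q ≠ 5)) ∧ IsPGroup p D) :
    ∃ J : Subgroup G, Nz x J ∧ T3 J ∧ (∀ g ∈ Nm D, orderOf g = 3 → g * x⁻¹ ∈ J ∨ g * x ∈ J) ∧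
      (∀ Y ≤ Nm D, Nz x Y → T3 Y → Y ≤ J) ∧
      (Nat.card (Nm D) = 3 * Nat.card J ∨ Nat.card (Nm D) = 6 * Nat.card J) ∧ ∀ g ∈ Nm D, g ^ 6 ∈ J := by
  have hxN : x ∈ Nm D := hn.mem_normalizer
  obtain ⟨i, j, hM⟩ := card_form hq hq3 (hc ▸ Subgroup.card_subgroup_dvd_card (Nm D))
    (hx ▸ Subgroup.orderOf_dvd_natCard _ hxN) (h.not_nine_dvd hD h1)
  have hx' : orderOf (⟨x, hxN⟩ : Nm D) = 3 := by rw [← Subgroup.orderOf_coe]; exact hx
  have hC' : Nat.card (Cz (⟨x, hxN⟩ : Nm D)) = 3 := by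
    rw [← hx', ← Nat.card_zpowers]
    congr 2
    refine le_antisymm (fun y hy => ?_) (Subgroup.zpowers_le.2 (mem_Cz.2 rfl))
    obtain ⟨k, hk⟩ := Subgroup.mem_zpowers_iff.1 (h.mem_zpowers_of hx hD h1 hn y.2
      (mem_Cz.2 (congrArg Subtype.val (mem_Cz.1 hy))))
    exact Subgroup.mem_zpowers_iff.2 ⟨k, Subtype.ext hk⟩
  have mz : ∀ Y : Subgroup (Nm D), Nz ⟨x, hxN⟩ Y → Nz x (Y.map (Nm D).subtype) := by
    rintro Y hY _ ⟨v, hv, rfl⟩
    exact ⟨_, hY v hv, rfl⟩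
  have mt : ∀ Y : Subgroup (Nm D), T3 Y → T3 (Y.map (Nm D).subtype) := by
    rintro Y hY _ ⟨v, hv, rfl⟩ e
    rw [hY v hv (Subtype.ext e), map_one]
  have mt' : ∀ Y : Subgroup G, T3 Y → T3 (Y.subgroupOf (Nm D)) := fun Y hY v hv e =>
    Subtype.ext (hY v hv (congrArg Subtype.val e))
  obtain ⟨J, hJ, hJ2, hJ3, hJ4⟩ := ST_or hq hq2 hq3 hM hx' hC'
  have hDJ := hJ3 (D.subgroupOf (Nm D)) Subgroup.normal_in_normalizer (mt' D hD)
  have hJz := mz J fun k hk => hJ.conj_mem k hk _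
  rcases hJ4 with hJ4 | hJ4
  · have h5 : ∀ g ∈ Nm D, orderOf g = 3 → g * x⁻¹ ∈ J.map (Nm D).subtype ∨ g * x ∈ J.map (Nm D).subtype :=
      fun g hg e => (hJ4 ⟨g, hg⟩ (by rw [← Subgroup.orderOf_coe]; exact e)).imp (fun e => ⟨_, e, rfl⟩)
        fun e => ⟨_, e, rfl⟩
    have h6 : J.index = 3 ∨ J.index = 6 := by
      have := Fintype.ofFinite (Nm D)
      have e1 := card_cl_mul (⟨x, hxN⟩ : Nm D)
      have e2 := card_le_two_mul (s := cl (⟨x, hxN⟩ : Nm D)) fun g hg =>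
        hJ4 g ((orderOf_of_isConj (mem_cl.1 hg)).symm.trans hx')
      have e3 := J.index_mul_card
      have e4 : 3 ∣ J.index := ((Nat.Prime.dvd_mul Nat.prime_three).1 (by rw [e3, ← e1, hC']; simp)).resolve_right
        (t3_iff.1 hJ2)
      have e5 : J.index ≤ 6 := Nat.le_of_mul_le_mul_right (by rw [e3, ← e1, hC']; omega) (Nat.card_pos (α := J))
      have := J.index_ne_zero_of_finite
      omega
    refine ⟨J.map (Nm D).subtype, hJz, mt J hJ2, h5, fun Y hY hY1 hY2 y hy => ?_, ?_, fun g hg => ?_⟩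
    · have hf := h.fpf hx hY2 hY1
      rcases h5 (y * x) (mul_mem (hY hy) hxN) ((orderOf_of_isConj (hf.isConj hy)).symm.trans hx) with e | e
      · simpa using e
      · have := (h.fpf hx (mt J hJ2) hJz).cube e
        rw [mul_assoc, mul_assoc, ← pow_three, hf.x3, mul_one] at this
        rw [hY2 y hy this]; exact one_mem _
    · rw [Subgroup.card_map_of_injective (Nm D).subtype_injective, ← J.index_mul_card]
      rcases h6 with e | e <;> simp [e]
    · refine ⟨⟨g, hg⟩ ^ 6, ?_, rfl⟩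
      obtain ⟨k, hk⟩ : J.index ∣ 6 := by rcases h6 with e | e <;> simp [e]
      rw [hk, pow_mul]
      exact J.pow_mem (J.pow_index_mem _) k
  exfalso
  rcases hcase with hK | ⟨p, hp, hpD⟩
  · obtain ⟨Y, y, h2, h3, h4, h5, h6, -⟩ := hJ4 2 (Or.inl rfl)
    have := hK.eq (mz Y h3) (mt Y h4) fun d hd => ⟨⟨d, Subgroup.le_normalizer hd⟩, h2 (hDJ hd), rfl⟩
    exact h6 (hDJ (this.le ⟨y, h5, rfl⟩))
  · obtain ⟨r, hr, hpr⟩ : ∃ r, (r = 2 ∨ (r = q ∧ q ≠ 5)) ∧ r.Coprime p := by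
      rcases hp with rfl | ⟨rfl, h5⟩
      · exact ⟨2, Or.inl rfl, (Nat.coprime_primes Nat.prime_two hq).2 hq2.symm⟩
      · exact ⟨q, Or.inr ⟨rfl, h5⟩, (Nat.coprime_primes hq Nat.prime_two).2 hq2⟩
    obtain ⟨Y, y, h2, h3, h4, h5, h6, ⟨k, hk⟩, h7⟩ := hJ4 r hr
    have hf := h.fpf hx (mt Y h4) (mz Y h3)
    refine h7 ((Subgroup.centralizer (D : Set G)).subgroupOf (Nm D))
      ⟨fun c hc g => (nz_of_mem g.2).cent _ hc⟩ (Subgroup.mem_centralizer_iff.2 fun d hd => ?_)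
      (mt' _ (h.t3_cent hD h1))
    obtain ⟨l, hl⟩ := hpD ⟨d, hd⟩
    exact (hf.commute_of_coprime (a := y) ⟨y, h5, rfl⟩ ⟨⟨d, Subgroup.le_normalizer hd⟩, h2 (hDJ hd), rfl⟩
      (congrArg Subtype.val hk) (congrArg Subtype.val hl) (hpr.pow _ _)).symm

theorem ST1 {K : Subgroup G} (hK : MaxK x K) (h1 : K ≠ ⊥) :
    (∀ g ∈ Nm K, orderOf g = 3 → g * x⁻¹ ∈ K ∨ g * x ∈ K) ∧ (∀ Y ≤ Nm K, Nz x Y → T3 Y → Y ≤ K) ∧
      (Nat.card (Nm K) = 3 * Nat.card K ∨ Nat.card (Nm K) = 6 * Nat.card K) := by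
  obtain ⟨J, h2, h3, h4, h5, h6, -⟩ := h.ST3 hq hq2 hq3 hc hx hK.t3 h1 hK.nz (Or.inl hK)
  obtain rfl := hK.eq h2 h3 (h5 K Subgroup.le_normalizer hK.nz hK.t3)
  exact ⟨h4, h5, h6⟩

theorem type_cases (hF : ∀ (Q : Subgroup G) (t : G), Nat.card Q = q ^ b → t ∈ Subgroup.centralizer (Q : Set G) →
    t ^ 2 = 1 → t = 1) {K : Subgroup G} (hK : MaxK x K) : IsPGroup 2 K ∨ (Nat.card K = q ^ b ∧ IsPGroup q K) := by
  have hf := h.fpf hx hK.t3 hK.nz
  have hd : Nat.card K ∣ 2 ^ a * q ^ b := by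
    have := hc ▸ Subgroup.card_subgroup_dvd_card K
    rw [mul_assoc] at this
    exact Nat.Coprime.dvd_of_dvd_mul_left (((Nat.Prime.coprime_iff_not_dvd Nat.prime_three).2
      (t3_iff.1 hK.t3)).symm.pow_right 2) this
  obtain ⟨i, -, j, -, e⟩ := eq_pow_mul_pow hq hd
  rcases Nat.eq_zero_or_pos j with rfl | hj
  · exact Or.inl (IsPGroup.of_card (by simpa using e))
  right
  have := Fact.mk hq
  let P : Subgroup G :=
    { carrier := {k | k ∈ K ∧ ∃ i, k ^ q ^ i = 1}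
      one_mem' := ⟨one_mem _, 0, by simp⟩
      mul_mem' := by
        rintro u v ⟨hu, i, hi⟩ ⟨hv, j, hj⟩
        exact ⟨mul_mem hu hv, j + i, by rw [pow_add]; exact hf.pow_mul_eq_one hu hv hi hj⟩
      inv_mem' := by
        rintro u ⟨hu, i, hi⟩
        exact ⟨inv_mem hu, i, by rw [inv_pow, hi, inv_one]⟩ }
  have hPK : P ≤ K := fun k hk => hk.1
  have hPp : IsPGroup q P := fun k => by
    obtain ⟨-, i, hi⟩ := k.2
    exact ⟨i, Subtype.ext hi⟩
  have hPz : ∀ g, Nz g K → Nz g P := fun g hg k hk => by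
    obtain ⟨h1, i, hi⟩ := hk
    exact ⟨hg k h1, i, by rw [conj_pow, hi]; group⟩
  have hP1 : P ≠ ⊥ := by
    obtain ⟨y, hy⟩ := exists_prime_orderOf_dvd_card' (G := K) q (e ▸ (dvd_pow_self q hj.ne').mul_left _)
    rw [← Subgroup.orderOf_coe] at hy
    exact fun e => ne_one_of_orderOf hq hy (Subgroup.mem_bot.1 (e ▸ (show (y : G) ∈ P from
      ⟨y.2, 1, by rw [pow_one, orderOf_dvd_iff_pow_eq_one.1 hy.dvd]⟩)))
  obtain ⟨J, h2, h3, -, h5, -, h7⟩ := h.ST3 hq hq2 hq3 hc hx (hK.t3.mono hPK) hP1 (hPz x hK.nz)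
    (Or.inr ⟨q, Or.inl rfl, hPp⟩)
  obtain rfl := hK.eq h2 h3 (h5 K (fun k hk => (hPz k fun l hl => mul_mem (mul_mem hk hl) (inv_mem hk)).mem_normalizer)
    hK.nz hK.t3)
  obtain ⟨Q, hQ⟩ := hPp.exists_le_sylow
  have c6 : ∀ i, Nat.Coprime 6 (q ^ i) := fun i => (Nat.Coprime.mul_left (m := 2) (n := 3)
    ((Nat.coprime_primes Nat.prime_two hq).2 hq2.symm) ((Nat.coprime_primes Nat.prime_three hq).2 hq3.symm)).pow_right i
  have hPQ : P = Q := by
    by_contra e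
    obtain ⟨g, hg, hg2, hg3⟩ := exists_mem_normalizer_of_lt hq Q.2 hQ e
    obtain ⟨i, hi⟩ := Q.2 ⟨g, hg⟩
    have hi' : g ^ q ^ i = 1 := congrArg Subtype.val hi
    refine hg3 ⟨?_, i, hi'⟩
    obtain ⟨m, hm⟩ := exists_pow_eq_self_of_coprime (x := g) ((c6 i).of_dvd_right (orderOf_dvd_of_pow_eq_one hi'))
    rw [← hm]; exact pow_mem (h7 g hg2) m
  have hPc : Nat.card P = q ^ b := by
    rw [hPQ]
    refine Alt.card_sylow_of_eq Q (m := 9 * 2 ^ a) (by rw [hc]; ring) fun e => ?_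
    exact hq.one_lt.ne' (Nat.eq_one_of_dvd_coprimes (Nat.Coprime.mul_left
      ((Nat.Coprime.of_dvd_left (by norm_num : 3 ∣ 6) (c6 1)).pow_left 2)
      ((Nat.Coprime.of_dvd_left (by norm_num : 2 ∣ 6) (c6 1)).pow_left a)) e (by simp))
  have hi : i = 0 := by
    by_contra e2
    have := Fact.mk Nat.prime_two
    obtain ⟨t, ht⟩ := exists_prime_orderOf_dvd_card' (G := J) 2 (e ▸ (dvd_pow_self 2 e2).mul_right _)
    rw [← Subgroup.orderOf_coe] at ht
    have ht2 : (t : G) ^ 2 = 1 := orderOf_dvd_iff_pow_eq_one.1 ht.dvd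
    refine ne_one_of_orderOf Nat.prime_two ht (hF P t hPc (Subgroup.mem_centralizer_iff.2 fun k hk => ?_) ht2)
    obtain ⟨h1, i, hi⟩ := hk
    exact (hf.commute_of_coprime t.2 h1 ht2 hi (Nat.Coprime.of_dvd_left (by norm_num : 2 ∣ 6) (c6 i))).symm
  subst hi
  have hJp : IsPGroup q J := IsPGroup.of_card (by simpa using e)
  have : J = P := le_antisymm (fun k hk => by
    obtain ⟨i, hi⟩ := hJp ⟨k, hk⟩
    exact ⟨hk, i, congrArg Subtype.val hi⟩) hPK
  exact ⟨by rw [← hPc, ← this], hJp⟩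

theorem inf_eq_bot (hall : ∀ M, MaxK x M → IsPGroup 2 M ∨ IsPGroup q M) {p : ℕ} (hp : p = q ∨ (p = 2 ∧ q ≠ 5))
    {K L : Subgroup G} (hK : MaxK x K) (hL : MaxK x L) (hKp : IsPGroup p K) (hLp : IsPGroup p L) (hne : K ≠ L) :
    K ⊓ L = ⊥ := by
  have hp' : p.Prime := by rcases hp with rfl | ⟨rfl, -⟩; exacts [hq, Nat.prime_two]
  induction hD : K ⊓ L using WellFoundedGT.induction generalizing K L with
  | ind D ih =>
  by_contra h1
  have hDK : D ≤ K := hD ▸ inf_le_left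
  have hDL : D ≤ L := hD ▸ inf_le_right
  have hDz : Nz x D := hD ▸ hK.nz.inf hL.nz
  obtain ⟨J, h2, h3, -, h5, -⟩ := h.ST3 hq hq2 hq3 hc hx (hK.t3.mono hDK) h1 hDz (Or.inr ⟨p, hp, hKp.to_le hDK⟩)
  obtain ⟨M, hJM, hM⟩ := exists_maxK h2 h3
  have key : ∀ N, MaxK x N → IsPGroup p N → D ≤ N → D ≠ N → M = N := fun N hN hNp hDN hne => by
    obtain ⟨g, hg, hg2, hg3⟩ := exists_mem_normalizer_of_lt hp' hNp hDN hne
    have h6 : N ⊓ Nm D ≤ M := (h5 _ inf_le_right (hN.nz.inf hDz.nm) (hN.t3.mono inf_le_left)).trans hJM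
    have h7 : D ≤ M := (le_inf hDN Subgroup.le_normalizer).trans h6
    have hMp : IsPGroup p M := by
      have := Fact.mk hq
      have := Fact.mk Nat.prime_two
      have := Fact.mk hp'
      have nd : ∀ r, [Fact r.Prime] → IsPGroup r M → p = r := fun r _ hr => by
        by_contra e
        exact h1 (le_bot_iff.1 ((IsPGroup.disjoint_of_ne p r e N M hNp hr) hDN h7))
      rcases hall M hM with e | e
      · rw [nd 2 e]; exact e
      · rw [nd q e]; exact e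
    by_contra e
    have h8 : D < M ⊓ N := lt_of_le_of_ne (le_inf h7 hDN) fun e => hg3 (e ▸ ⟨h6 ⟨hg, hg2⟩, hg⟩)
    exact h1 (le_bot_iff.1 (h8.le.trans (ih _ h8 hM hN hMp hNp e rfl).le))
  refine hne ((key K hK hKp hDK fun e => ?_).symm.trans (key L hL hLp hDL fun e => ?_))
  · exact hne (hK.eq hL.nz hL.t3 (e ▸ hDL)).symm
  · exact hne (hL.eq hK.nz hK.t3 (e ▸ hDK))

theorem card_lt_index (hall : ∀ M, MaxK x M → IsPGroup 2 M ∨ IsPGroup q M) {p : ℕ} (hp : p = q ∨ (p = 2 ∧ q ≠ 5))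
    {K : Subgroup G} (hK : MaxK x K) (hKp : IsPGroup p K) (h1 : K ≠ ⊥) : Nat.card K + 1 ≤ (Nm K).index := by
  obtain ⟨r, hr, hr2⟩ := h.exists_not_zpowers hx
  have hrN : r ∉ Nm K := fun e => hr2 (h.mem_zpowers_of hx hK.t3 h1 hK.nz e hr)
  have hL := hK.cj r
  rw [mul_inv_eq_iff_eq_mul.2 (mem_Cz.1 hr)] at hL
  have h2 := h.inf_eq_bot hq hq2 hq3 hc hx hall hp hK hL hKp (hKp.map _) fun e => hrN (cj_eq_iff.1 e.symm)
  have h3 : K ⊓ Nm (cj r K) ≤ cj r K := (h.ST1 hq hq2 hq3 hc hx hL (cj_ne_bot h1)).2.1 _ inf_le_right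
    (hK.nz.inf hL.nz.nm) (hK.t3.mono inf_le_left)
  let f : Option K → G ⧸ Nm K := fun o => o.elim (1 : G) fun k => ((k : G) * r : G)
  have hf : Function.Injective f := by
    have n : ∀ k : K, f none ≠ f (some k) := fun k e => by
      have := QuotientGroup.eq.1 e
      rw [inv_one, one_mul] at this
      exact hrN ((mul_mem_cancel_left (Subgroup.le_normalizer k.2)).1 this)
    rintro (_ | k) (_ | l) e
    · rfl
    · exact absurd e (n l)
    · exact absurd e.symm (n k)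
    · have h4 := QuotientGroup.eq.1 e
      have h5 : (k : G)⁻¹ * l ∈ K ⊓ cj r K := ⟨K.mul_mem (K.inv_mem k.2) l.2, h3 ⟨K.mul_mem (K.inv_mem k.2) l.2,
        mem_Nm_cj.2 (by simpa [mul_assoc] using h4)⟩⟩
      rw [h2, Subgroup.mem_bot, inv_mul_eq_one] at h5
      rw [Subtype.ext h5]
  have := Nat.card_le_card_of_injective f hf
  rwa [Finite.card_option] at this

theorem card_conj_le [Fintype G] {y : G} (hy : IsConj x y) {K : Subgroup G} (hK : MaxK x K) (h1 : K ≠ ⊥) :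
    ((Finset.univ.filter fun g => Nz y (cj g K)).image fun g => cj g K).card * Nat.card (Nm K) ≤ 18 * Nat.card K := by
  have hy3 := (orderOf_of_isConj hy).symm.trans hx
  have h2 := Finset.mul_card_image_le_card (f := fun g => cj g K) (Finset.univ.filter fun g => Nz y (cj g K))
    (Nat.card (Nm K)) (by
      intro L hL
      obtain ⟨g, hg, rfl⟩ := Finset.mem_image.1 hL
      rw [Nat.card_eq_fintype_card, ← Finset.card_univ]
      refine Finset.card_le_card_of_injOn (fun n => g * n) (fun n _ => ?_) fun n _ m _ e => Subtype.ext (mul_left_cancel e)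
      simp only [Finset.coe_filter, Finset.mem_filter, Finset.mem_univ, true_and, Set.mem_ofPred_eq] at hg ⊢
      rw [← cj_cj, cj_eq_iff.2 n.2]
      exact ⟨hg, rfl⟩)
  have h3 := Finset.card_le_mul_card_image_of_maps_to (f := fun g => g⁻¹ * y * g)
    (s := Finset.univ.filter fun g => Nz y (cj g K)) (t := Finset.univ.filter fun g => g ∈ Nm K ∧ orderOf g = 3)
    (fun g hg => Finset.mem_filter.2 ⟨Finset.mem_univ _, mem_Nm_cj.1 (Finset.mem_filter.1 hg).2.mem_normalizer,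
      (orderOf_of_isConj (isConj_iff.2 ⟨g⁻¹, by rw [inv_inv]⟩)).symm.trans hy3⟩) 9 (by
      intro z hz
      rcases ((Finset.univ.filter fun g => Nz y (cj g K)).filter fun g => g⁻¹ * y * g = z).eq_empty_or_nonempty
        with e | ⟨g, hg⟩
      · rw [e]; simp
      rw [← h.card y hy3, Nat.card_eq_fintype_card, Fintype.card_subtype]
      refine Finset.card_le_card_of_injOn (fun n => n * g⁻¹) (fun n hn => ?_) fun n _ m _ e => mul_right_cancel e
      have e1 := (Finset.mem_filter.1 hg).2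
      have e2 := (Finset.mem_filter.1 hn).2
      simp only [Finset.coe_filter, Finset.mem_univ, true_and, Set.mem_ofPred_eq, mem_Cz]
      calc n * g⁻¹ * y = n * (g⁻¹ * y * g) * g⁻¹ := by group
        _ = _ := by rw [e1, ← e2]; group)
  have h4 := card_le_two_mul (s := Finset.univ.filter fun g => g ∈ Nm K ∧ orderOf g = 3) fun g hg =>
    (h.ST1 hq hq2 hq3 hc hx hK h1).1 g (Finset.mem_filter.1 hg).2.1 (Finset.mem_filter.1 hg).2.2
  rw [mul_comm]
  omega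

end H9

end Cfsg.Agent.Nine
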