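import Cfsg.Agent.Lib.Nine.G1

/-! Maximal invariant `2`-subgroups. -/

set_option autoImplicit false
set_option linter.unusedSectionVars false

open Cfsg Cfsg.Agent.Char
open scoped Classical

namespace Cfsg.Agent.Nine

universe u

variable {G : Type u} [Group G]

theorem idx_two [Finite G] {K T : Subgroup G} (h : K ≤ T) (hc : Nat.card T = Nat.card K ∨ Nat.card T = 2 * Nat.card K)
    {a b : G} (ha : a ∈ T) (hb : b ∈ T) (ha' : a ∉ K) (hb' : b ∉ K) : a * b ∈ K := by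
  rcases hc with hc | hc
  · exact absurd (Subgroup.eq_of_le_of_card_ge h hc.le ▸ ha) ha'
  · have h1 : (K.subgroupOf T).index = 2 := by
      have := (K.subgroupOf T).index_mul_card
      rw [FG.card_subgroupOf, inf_eq_right.2 h, hc] at this
      exact Nat.eq_of_mul_eq_mul_right Nat.card_pos this
    exact (Subgroup.mul_mem_iff_of_index_two h1 (a := ⟨a, ha⟩) (b := ⟨b, hb⟩)).2 (iff_of_false ha' hb')

theorem prod_of_cube {x k : G} (h0 : x ^ 3 = 1) (h1 : (k * x) ^ 3 = 1) :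
    k * (x * k * x⁻¹) * (x⁻¹ * k * x) = 1 := by
  have e0 := inv_eq_sq h0
  rw [← h1]
  calc k * (x * k * x⁻¹) * (x⁻¹ * k * x) = k * x * k * (x * x)⁻¹ * k * x := by group
    _ = _ := by rw [← e0, pow_three]; group

theorem card_le_of_subset [Finite G] {K : Subgroup G} (s : Finset G) (h : ∀ g ∈ s, g ∈ K) : s.card ≤ Nat.card K := by
  have := Fintype.ofFinite G
  rw [Nat.card_eq_fintype_card, Fintype.card_subtype]
  exact Finset.card_le_card fun g hg => Finset.mem_filter.2 ⟨Finset.mem_univ _, h g hg⟩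

theorem commute_conj {a b : G} (g : G) (h : Commute a b) : Commute (g * a * g⁻¹) (g * b * g⁻¹) := by
  simpa using h.map (MulAut.conj g)

theorem small_count [Fintype G] {x z : G} (hx : x ^ 3 = 1) (hC : Nat.card (Cz x) = 9) (hz : z ^ 2 = 1) (hz1 : z ≠ 1) :
    (Finset.univ.filter fun t => IsConj z t ∧ (t * x) ^ 3 = 1 ∧
      Nat.card (Cz t ⊓ Cz (x * t * x⁻¹) : Subgroup G) = 4).card ≤ 35 := by
  let r : G → G → Prop := fun x t => (t * x) ^ 3 = 1 ∧ Nat.card (Cz t ⊓ Cz (x * t * x⁻¹) : Subgroup G) = 4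
  have hr : ∀ g x t, r x (g * t * g⁻¹) → r (g⁻¹ * x * g) t := fun g x t h => by
    refine ⟨?_, ?_⟩
    · rw [show t * (g⁻¹ * x * g) = g⁻¹ * (g * t * g⁻¹ * x) * g⁻¹⁻¹ by group, conj_pow, h.1]; group
    · rw [← h.2, ← card_cj g]
      congr 2
      ext y
      simp only [mem_cj, Subgroup.mem_inf, mem_Cz]
      refine and_congr ⟨fun e => ?_, fun e => ?_⟩ ⟨fun e => ?_, fun e => ?_⟩
      · have := commute_conj g e; simpa [mul_assoc] using this.eq
      · have := commute_conj g⁻¹ e; simpa [mul_assoc] using this.eq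
      · have := commute_conj g e; simpa [mul_assoc] using this.eq
      · have := commute_conj g⁻¹ e; simpa [mul_assoc] using this.eq
  have h1 := Finset.mul_card_image_le_card (f := fun g => g * z * g⁻¹) (Finset.univ.filter fun g => r x (g * z * g⁻¹))
    (Nat.card (Cz z)) (by
      intro t ht
      obtain ⟨g, hg, rfl⟩ := Finset.mem_image.1 ht
      rw [Nat.card_eq_fintype_card, ← Finset.card_univ]
      refine Finset.card_le_card_of_injOn (fun n => g * n) (fun n _ => ?_) fun n _ m _ e => Subtype.ext (mul_left_cancel e)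
      have e : g * n * z * (g * n)⁻¹ = g * z * g⁻¹ := by rw [mul_assoc g, mem_Cz.1 n.2]; group
      simp only [Finset.coe_filter, Finset.mem_filter, Finset.mem_univ, true_and, Set.mem_ofPred_eq, e] at hg ⊢
      exact ⟨hg, trivial⟩)
  have h2 := Finset.card_le_mul_card_image_of_maps_to (f := fun g => g⁻¹ * x * g)
    (s := Finset.univ.filter fun g => r x (g * z * g⁻¹)) (t := Finset.univ.filter fun y => y ^ 3 = 1 ∧ r y z)
    (fun g hg => Finset.mem_filter.2 ⟨Finset.mem_univ _, by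
      rw [show g⁻¹ * x * g = g⁻¹ * x * g⁻¹⁻¹ by group, conj_pow, hx]; group, hr _ _ _ (Finset.mem_filter.1 hg).2⟩) 9 (by
      intro y hy
      rcases ((Finset.univ.filter fun g => r x (g * z * g⁻¹)).filter fun g => g⁻¹ * x * g = y).eq_empty_or_nonempty
        with e | ⟨g, hg⟩
      · rw [e]; simp
      rw [← hC, Nat.card_eq_fintype_card, Fintype.card_subtype]
      refine Finset.card_le_card_of_injOn (fun n => n * g⁻¹) (fun n hn => ?_) fun n _ m _ e => mul_right_cancel e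
      have e1 := (Finset.mem_filter.1 hg).2
      have e2 := (Finset.mem_filter.1 hn).2
      simp only [Finset.coe_filter, Finset.mem_univ, true_and, Set.mem_ofPred_eq, mem_Cz]
      calc n * g⁻¹ * x = n * (g⁻¹ * x * g) * g⁻¹ := by group
        _ = _ := by rw [e1, ← e2]; group)
  have hzi : z⁻¹ = z := by rw [inv_eq_iff_mul_eq_one, ← sq, hz]
  have h3 := Finset.card_le_mul_card_image_of_maps_to (f := fun y => y * z * y⁻¹)
    (s := Finset.univ.filter fun y => y ^ 3 = 1 ∧ r y z) (t := (Finset.univ.filter fun v => v ∈ Cz z).erase 1)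
    (fun y hy => by
      obtain ⟨-, e1, e2, -⟩ := Finset.mem_filter.1 hy
      refine Finset.mem_erase.2 ⟨by simpa [mul_inv_eq_iff_eq_mul] using hz1, Finset.mem_filter.2
        ⟨Finset.mem_univ _, mem_Cz.2 (commute_of_cubes e1 e2 ?_).eq.symm⟩⟩
      rw [show z * y⁻¹ = z * (z⁻¹ * y)⁻¹ * z⁻¹ by group, conj_pow, hzi, inv_pow, e2]
      simpa [sq] using hz) 4 (by
      intro v hv
      rcases ((Finset.univ.filter fun y => y ^ 3 = 1 ∧ r y z).filter fun y => y * z * y⁻¹ = v).eq_empty_or_nonempty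
        with e | ⟨g, hg⟩
      · rw [e]; simp
      obtain ⟨e0, e1⟩ := Finset.mem_filter.1 hg
      obtain ⟨-, e2, e3, e4⟩ := Finset.mem_filter.1 e0
      refine le_of_le_of_eq ?_ e4
      rw [Nat.card_eq_fintype_card, Fintype.card_subtype]
      refine Finset.card_le_card_of_injOn (fun n => n * g⁻¹) (fun n hn => ?_) fun n _ m _ e => mul_right_cancel e
      obtain ⟨e5, e6⟩ := Finset.mem_filter.1 hn
      obtain ⟨-, e7, e8, -⟩ := Finset.mem_filter.1 e5
      have e9 : g⁻¹ * z * g = n⁻¹ * z * n := by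
        rw [eq_inv_of_mul_eq_one_right (prod_of_cube e2 e3), eq_inv_of_mul_eq_one_right (prod_of_cube e7 e8), e1, e6]
      simp only [Finset.coe_filter, Finset.mem_univ, true_and, Set.mem_ofPred_eq, Subgroup.mem_inf, mem_Cz]
      constructor
      · calc n * g⁻¹ * z = n * (g⁻¹ * z * g) * g⁻¹ := by group
          _ = _ := by rw [e9]; group
      · calc n * g⁻¹ * (g * z * g⁻¹) = (n * z * n⁻¹) * (n * g⁻¹) := by group
          _ = _ := by rw [e6, e1])
  rw [Finset.card_erase_of_mem (by simp), ← Fintype.card_subtype fun v => v ∈ Cz z, ← Nat.card_eq_fintype_card] at h3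
  have h4 : (Finset.univ.filter fun t => IsConj z t ∧ r x t) ⊆
      (Finset.univ.filter fun g => r x (g * z * g⁻¹)).image fun g => g * z * g⁻¹ := fun t ht => by
    obtain ⟨-, e1, e2⟩ := Finset.mem_filter.1 ht
    obtain ⟨g, rfl⟩ := isConj_iff.1 e1
    exact Finset.mem_image.2 ⟨g, Finset.mem_filter.2 ⟨Finset.mem_univ _, e2⟩, rfl⟩
  have h5 := Finset.card_le_card h4
  have h6 : 0 < Nat.card (Cz z) := Nat.card_pos
  change (Finset.univ.filter fun t => IsConj z t ∧ r x t).card ≤ 35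
  by_contra h7
  have := ((Nat.mul_le_mul_left (Nat.card (Cz z)) ((not_le.1 h7).trans_le h5)).trans h1).trans
    (h2.trans (Nat.mul_le_mul_left 9 h3))
  change Nat.card (Cz z) * 36 ≤ 9 * (4 * (Nat.card (Cz z) - 1)) at this
  omega

namespace H9
variable [Finite G] (h : H9 G) {q a b : ℕ} (hq : q.Prime) (hq2 : q ≠ 2)
  (hq3 : q ≠ 3) (hc : Nat.card G = 9 * 2 ^ a * q ^ b) {x : G} (hx : orderOf x = 3)
include h hx

theorem eq_Cz_inf {K : Subgroup G} (hK : MaxK x K) {z : G} (hz : z ∈ K) (hz1 : z ≠ 1) (hc : ∀ k ∈ K, Commute k z) :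
    K = Cz z ⊓ Cz (x * z * x⁻¹) := by
  have hf := h.fpf hx hK.t3 hK.nz
  refine (hK.eq (L := Cz z ⊓ Cz (x * z * x⁻¹)) (fun y hy => ⟨mem_Cz.2 ?_, mem_Cz.2 (commute_conj x (mem_Cz.1 hy.1))⟩)
    ((h.t3_Cz fun e => hz1 (hK.t3 z hz e)).mono inf_le_left) fun k hk => ⟨mem_Cz.2 (hc k hk), mem_Cz.2 ?_⟩).symm
  · have h1 : Commute y (x⁻¹ * z * x) := by
      rw [eq_inv_of_mul_eq_one_right (hf.prod hz)]
      exact ((show Commute y z from mem_Cz.1 hy.1).mul_right (mem_Cz.1 hy.2)).inv_right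
    simpa [mul_assoc] using (commute_conj x h1).eq
  · simpa [mul_assoc] using (commute_conj x (hc _ (hf.nz' hk))).eq

include hq hq2 hq3 hc

theorem lemU {y : G} (hy : orderOf y = 3) {K L T : Subgroup G} (hK : MaxK x K) (hL : MaxK y L) (hKT : K ≤ T)
    (hLT : L ≤ T) (cK : Nat.card T = Nat.card K ∨ Nat.card T = 2 * Nat.card K)
    (cL : Nat.card T = Nat.card L ∨ Nat.card T = 2 * Nat.card L) {z : G} (hzK : z ∈ K) (hzL : z ∈ L) (hz : z ^ 2 = 1)
    (hz1 : z ≠ 1) (hzc : ∀ t ∈ T, Commute t z) : K = L ∨ Nat.card K ≤ 4 := by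
  have hf := h.fpf hx hK.t3 hK.nz
  have hg := h.fpf hy hL.t3 hL.nz
  have e1 := h.eq_Cz_inf hy hL hzL hz1 fun k hk => hzc k (hLT hk)
  have hv : y * z * y⁻¹ ∈ L := hL.nz z hzL
  have hv2 : (y * z * y⁻¹) ^ 2 = 1 := by rw [conj_pow, hz]; group
  generalize y * z * y⁻¹ = v at e1 hv hv2
  have H : ∀ a ∈ K, ∀ b ∈ K, ¬ Commute a v → ¬ Commute b v → Commute (a * b) v := fun a ha b hb h1 h2 =>
    mem_Cz.1 (e1.le (idx_two hLT cL (hKT ha) (hKT hb) (fun e => h1 (mem_Cz.1 (e1.le e).2))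
      fun e => h2 (mem_Cz.1 (e1.le e).2))).2
  by_cases hvK : v ∈ K
  · refine Or.inl (Subgroup.eq_of_le_of_card_ge (fun k hk => e1.ge ⟨mem_Cz.2 (hzc k (hKT hk)),
      mem_Cz.2 (hf.central hvK H hk)⟩) ?_)
    have := hf.card_mod
    have := hg.card_mod
    omega
  right
  have hK1 : K ≠ ⊥ := fun e => hz1 (Subgroup.mem_bot.1 (e ▸ hzK))
  have hvN : v ∈ Nm K := Nz.mem_normalizer fun k hk => idx_two hKT cK (mul_mem (hLT hv) (hKT hk)) (inv_mem (hLT hv))
    (fun e => hvK ((mul_mem_cancel_right hk).1 e)) fun e => hvK (inv_mem_iff.1 e)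
  have hxN := hK.nz.mem_normalizer
  rcases (h.ST1 hq hq2 hq3 hc hx hK hK1).1 (v * x * v⁻¹) (mul_mem (mul_mem hvN hxN) (inv_mem hvN))
    ((orderOf_of_isConj (isConj_iff.2 ⟨v, rfl⟩)).symm.trans hx) with e | e
  · exfalso
    obtain ⟨c, hc1, hc2⟩ := hf.surj e
    have h1 := h.mem_zpowers_of hx hK.t3 hK1 hK.nz (mul_mem (Subgroup.le_normalizer hc1) hvN) (mem_Cz.2 (by
      calc c * v * x = c * (v * x * v⁻¹ * x⁻¹ * x) * v := by group
        _ = _ := by rw [hc2]; group))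
    have h3 : v ^ 3 = 1 → False := fun e => hvK (by
      rw [pow_succ, hv2, one_mul] at e; rw [e]; exact one_mem _)
    rcases mem_zpowers_three hf.x3 h1 with e | e | e
    · exact hvK (by rw [eq_inv_of_mul_eq_one_right e]; exact inv_mem hc1)
    · exact h3 (by rw [eq_inv_mul_of_mul_eq e]; exact hf.cube (inv_mem hc1))
    · exact h3 (by rw [eq_inv_mul_of_mul_eq e]; exact hf.inv.cube (inv_mem hc1))
  have hvi : v⁻¹ = v := by rw [inv_eq_iff_mul_eq_one, ← sq, hv2]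
  have h1 := hf.mul e
  rw [show v * x * v⁻¹ * x * x = v * (x * v * x⁻¹) by rw [hvi, inv_eq_sq hf.x3]; group] at h1
  have H' : ∀ a ∈ K, ∀ b ∈ K, ¬ Commute a (x * v * x⁻¹) → ¬ Commute b (x * v * x⁻¹) →
      Commute (a * b) (x * v * x⁻¹) := fun a ha b hb h1 h2 => by
    have := commute_conj x (H _ (hf.nz' ha) _ (hf.nz' hb) (fun e => h1 (by simpa [mul_assoc] using commute_conj x e))
      fun e => h2 (by simpa [mul_assoc] using commute_conj x e))
    simpa [mul_assoc] using this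
  have key : ∀ w, (∀ a ∈ K, ∀ b ∈ K, ¬ Commute a w → ¬ Commute b w → Commute (a * b) w) →
      ∀ k l : K, (Commute k.1 w ↔ Commute l.1 w) → Commute (k.1⁻¹ * l.1) w := fun w hw k l e => by
    by_cases e1 : Commute k.1 w
    · exact e1.inv_left.mul_left (e.1 e1)
    · exact hw _ (inv_mem k.2) _ l.2 (fun e => e1 (by simpa using e.inv_left)) fun e2 => e1 (e.2 e2)
  have := Nat.card_le_card_of_injective (fun k : K => (Commute k.1 v, Commute k.1 (x * v * x⁻¹))) fun k l e => by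
    rw [Prod.ext_iff] at e
    have := h1.fpf _ (mul_mem (inv_mem k.2) l.2)
      ((key v H k l (iff_of_eq e.1)).symm.mul_left (key _ H' k l (iff_of_eq e.2)).symm)
    exact Subtype.ext (inv_mul_eq_one.1 this)
  simpa using this

theorem cent_le {K : Subgroup G} (hK : MaxK x K) (h1 : K ≠ ⊥) : Subgroup.centralizer (K : Set G) ≤ K :=
  (h.ST1 hq hq2 hq3 hc hx hK h1).2.1 _ (Subgroup.centralizer_le_normalizer _) hK.nz.cent (h.t3_cent hK.t3 h1)

omit h hx hq3 in
theorem card_sylow_two (S : Sylow 2 G) : Nat.card S = 2 ^ a := by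
  have := Fact.mk Nat.prime_two
  refine Alt.card_sylow_of_eq S (m := 9 * q ^ b) (by rw [hc]; ring) fun e => ?_
  rcases (Nat.Prime.dvd_mul Nat.prime_two).1 e with e | e
  · omega
  · exact hq2 ((Nat.prime_dvd_prime_iff_eq Nat.prime_two hq).1 (Nat.prime_two.dvd_of_dvd_pow e)).symm

theorem two_cases {K : Subgroup G} (hK : MaxK x K) (h1 : K ≠ ⊥) (hp : IsPGroup 2 K) :
    ∃ S : Sylow 2 G, K ≤ S ∧ (Nat.card K ≤ 4 ∨ ((2 ^ a = Nat.card K ∨ 2 ^ a = 2 * Nat.card K) ∧
      Nat.card (Nm K) = 3 * 2 ^ a)) := by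
  have := Fact.mk Nat.prime_two
  obtain ⟨T0, hT0⟩ := (hp.comap_subtype (K := Nm K)).exists_le_sylow
  obtain ⟨S, hS⟩ := (T0.2.map (Nm K).subtype).exists_le_sylow
  have hKT : K ≤ (T0 : Subgroup (Nm K)).map (Nm K).subtype := fun k hk => ⟨⟨k, Subgroup.le_normalizer hk⟩, hT0 hk, rfl⟩
  have hT : (T0 : Subgroup (Nm K)).map (Nm K).subtype = (S : Subgroup G) ⊓ Nm K := by
    rw [← T0.3 (S.2.comap_subtype (K := Nm K)) (Subgroup.map_le_iff_le_comap.1 hS), Subgroup.map_comap_eq,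
      Subgroup.range_subtype, inf_comm]
  have hTc := Subgroup.card_map_of_injective (K := (T0 : Subgroup (Nm K))) (Nm K).subtype_injective
  rw [hT] at hKT hTc
  have hKS : K ≤ S := hKT.trans inf_le_left
  obtain ⟨n, hn⟩ := IsPGroup.iff_card.1 hp
  have hS2 := card_sylow_two hq hq2 hc S
  refine ⟨S, hKS, ?_⟩
  rcases (h.ST1 hq hq2 hq3 hc hx hK h1).2.2 with e | e
  · rw [Alt.card_sylow_of_eq T0 (k := n) (m := 3) (by rw [e, hn]; ring) (by norm_num), ← hn] at hTc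
    have h2 := Subgroup.eq_of_le_of_card_ge hKT hTc.le
    have h3 : K = S := by
      by_contra e
      obtain ⟨g, hg, hg2, hg3⟩ := exists_mem_normalizer_of_lt Nat.prime_two S.2 hKS e
      exact hg3 (h2.ge ⟨hg, hg2⟩)
    have h4 : 2 ^ a = Nat.card K := by rw [← hS2, ← h3]
    exact Or.inr ⟨Or.inl h4, by rw [e, h4]⟩
  rw [Alt.card_sylow_of_eq T0 (k := n + 1) (m := 3) (by rw [e, hn]; ring) (by norm_num), pow_succ', ← hn] at hTc
  by_cases e2 : (S : Subgroup G) ⊓ Nm K = S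
  · rw [e2, hS2] at hTc
    exact Or.inr ⟨Or.inr hTc, by rw [e, hTc]; ring⟩
  obtain ⟨s, hs, hs2, hs3⟩ := exists_mem_normalizer_of_lt Nat.prime_two S.2 inf_le_left e2
  obtain ⟨z, hz, hz2, hz3⟩ := SL2.exists_central_of_isPGroup S.2 fun e => h1 (le_bot_iff.1 (e ▸ hKS))
  have hzK : z ∈ K := h.cent_le hq hq2 hq3 hc hx hK h1 (Subgroup.mem_centralizer_iff.2 fun k hk => hz3 k (hKS hk))
  refine Or.inl ((h.lemU hq hq2 hq3 hc hx ((orderOf_of_isConj (isConj_iff.2 ⟨s, rfl⟩)).symm.trans hx) hK (hK.cj s)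
    hKT ((cj_mono hKT).trans (cj_eq_iff.2 hs2).le) (Or.inr hTc) (Or.inr (by rw [card_cj, hTc])) hzK
    (mem_cj.2 (by rw [mul_assoc, ← hz3 s hs]; simpa using hzK)) (hz2 ▸ pow_orderOf_eq_one z)
    (ne_one_of_orderOf Nat.prime_two hz2) fun t ht => hz3 t ht.1).resolve_left fun e => hs3 ⟨hs, cj_eq_iff.1 e.symm⟩)

theorem big_conj {K L : Subgroup G} (hK : MaxK x K) (hL : MaxK x L) (hKp : IsPGroup 2 K) (hLp : IsPGroup 2 L)
    (hK4 : 4 < Nat.card K) (hL4 : 4 < Nat.card L) : ∃ g, L = cj g K := by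
  have := Fact.mk Nat.prime_two
  have nb : ∀ {M : Subgroup G}, 4 < Nat.card M → M ≠ ⊥ := fun e1 e2 => by rw [e2] at e1; simp at e1
  obtain ⟨S, hS, e1⟩ := h.two_cases hq hq2 hq3 hc hx hK (nb hK4) hKp
  obtain ⟨T, hT, e2⟩ := h.two_cases hq hq2 hq3 hc hx hL (nb hL4) hLp
  obtain ⟨g, -, hg⟩ := Alt.exists_conj_le_sylow T le_top le_top S.2
  have h1 : cj g K ≤ T := by
    rintro _ ⟨k, hk, rfl⟩
    exact hg k (hS hk)
  have hy := (orderOf_of_isConj (isConj_iff.2 ⟨g, rfl⟩)).symm.trans hx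
  obtain ⟨z, hz, hz2, hz3⟩ := SL2.exists_central_of_isPGroup T.2 fun e => nb hL4 (le_bot_iff.1 (e ▸ hT))
  have hT2 := card_sylow_two hq hq2 hc T
  refine ⟨g, (h.lemU hq hq2 hq3 hc hx hy hL (hK.cj g) hT h1 (by omega) (by rw [card_cj]; omega)
    (h.cent_le hq hq2 hq3 hc hx hL (nb hL4) (Subgroup.mem_centralizer_iff.2 fun k hk => hz3 k (hT hk)))
    (h.cent_le hq hq2 hq3 hc hy (hK.cj g) (cj_ne_bot (nb hK4))
      (Subgroup.mem_centralizer_iff.2 fun k hk => hz3 k (h1 hk))) (hz2 ▸ pow_orderOf_eq_one z)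
    (ne_one_of_orderOf Nat.prime_two hz2) hz3).resolve_right (by omega)⟩

theorem small_elt {K : Subgroup G} (hK : MaxK x K) (hKp : IsPGroup 2 K) (hK4 : Nat.card K ≤ 4) (S : Sylow 2 G)
    {z : G} (hz : z ∈ (S : Subgroup G)) (hz1 : z ≠ 1) (hzc : ∀ s ∈ (S : Subgroup G), s * z = z * s) {t : G} (ht : t ∈ K)
    (ht1 : t ≠ 1) : IsConj z t ∧ (t * x) ^ 3 = 1 ∧ Nat.card (Cz t ⊓ Cz (x * t * x⁻¹) : Subgroup G) = 4 := by
  have := Fact.mk Nat.prime_two
  have hf := h.fpf hx hK.t3 hK.nz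
  have h1 : K ≠ ⊥ := fun e => ht1 (Subgroup.mem_bot.1 (e ▸ ht))
  have h4 : Nat.card K = 4 := by
    have := hf.card_mod
    have := (Subgroup.one_lt_card_iff_ne_bot K).2 h1
    omega
  refine ⟨?_, hf.cube ht, ?_⟩
  · obtain ⟨g, -, hg⟩ := Alt.exists_conj_le_sylow S le_top le_top hKp
    have h2 : g⁻¹ * z * g ∈ K := h.cent_le hq hq2 hq3 hc hx hK h1 (Subgroup.mem_centralizer_iff.2 fun k hk => by
      simpa [mul_assoc] using (commute_conj g⁻¹ (hzc _ (hg k hk))).eq)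
    have h3 : IsConj z (g⁻¹ * z * g) := isConj_iff.2 ⟨g⁻¹, by rw [inv_inv]⟩
    have h5 : g⁻¹ * z * g ≠ 1 := fun e => hz1 (isConj_one_left.1 (e ▸ h3))
    generalize g⁻¹ * z * g = w at h2 h3 h5
    by_contra e
    have n1 : t ≠ w := fun e1 => e (e1 ▸ h3)
    have n2 : t ≠ x * w * x⁻¹ := fun e1 => e (h3.trans (isConj_iff.2 ⟨x, e1.symm⟩))
    have n3 : t ≠ x⁻¹ * w * x := fun e1 => e (h3.trans (isConj_iff.2 ⟨x⁻¹, by rw [inv_inv, e1]⟩))
    have n4 : w ≠ x * w * x⁻¹ := fun e1 => h5 (hf.fpf w h2 (eq_mul_inv_iff_mul_eq.1 e1).symm)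
    have n5 : w ≠ x⁻¹ * w * x := fun e1 => n4 (by nth_rewrite 2 [e1]; group)
    have n6 : x * w * x⁻¹ ≠ x⁻¹ * w * x := fun e1 => n5 (by
      calc w = x⁻¹ * (x * w * x⁻¹) * x := by group
        _ = (x⁻¹ * x⁻¹) * w * (x * x) := by rw [e1]; group
        _ = _ := by rw [inv_sq hf.x3, ← inv_eq_sq hf.x3, e1])
    have n7 : x * w * x⁻¹ ≠ 1 := by simpa [mul_inv_eq_iff_eq_mul] using h5
    have n8 : x⁻¹ * w * x ≠ 1 := fun e1 => h5 (by
      calc w = x * (x⁻¹ * w * x) * x⁻¹ := by group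
        _ = _ := by rw [e1]; group)
    have := card_le_of_subset (K := K) {t, w, x * w * x⁻¹, x⁻¹ * w * x, 1} (by
      simp only [Finset.mem_insert, Finset.mem_singleton]
      rintro _ (rfl | rfl | rfl | rfl | rfl)
      exacts [ht, h2, hK.nz _ h2, hf.nz' h2, one_mem _])
    rw [Finset.card_insert_of_notMem (by simp only [Finset.mem_insert, Finset.mem_singleton]; tauto),
      Finset.card_insert_of_notMem (by simp only [Finset.mem_insert, Finset.mem_singleton]; tauto),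
      Finset.card_insert_of_notMem (by simp only [Finset.mem_insert, Finset.mem_singleton]; tauto),
      Finset.card_pair n8] at this
    omega
  · rw [← h.eq_Cz_inf hx hK ht ht1 fun k hk => congrArg Subtype.val
      ((IsPGroup.isMulCommutative_of_card_eq_prime_sq (p := 2) h4).is_comm.comm (⟨k, hk⟩ : K) ⟨t, ht⟩), h4]

theorem not_small (ha : 3 ≤ a) {K L : Subgroup G} (hK : MaxK x K) (hKp : IsPGroup 2 K) (hK4 : Nat.card K ≤ 4)
    (h1 : K ≠ ⊥) (hL : MaxK x L) (hLp : IsPGroup 2 L) (hLc : 2 ^ a = Nat.card L) : False := by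
  have := Fact.mk Nat.prime_two
  obtain ⟨S, hS⟩ := hLp.exists_le_sylow
  obtain rfl : L = S := Subgroup.eq_of_le_of_card_ge hS (by rw [card_sylow_two hq hq2 hc S, hLc])
  have h8 : 8 ≤ 2 ^ a := Nat.pow_le_pow_right two_pos ha
  obtain ⟨g, -, hg⟩ := Alt.exists_conj_le_sylow S le_top le_top hKp
  have hKS : cj g K ≤ S := by
    rintro _ ⟨k, hk, rfl⟩
    exact hg k hk
  have hy := (orderOf_of_isConj (isConj_iff.2 ⟨g, rfl⟩)).symm.trans hx
  have hc1 := h.cent_le hq hq2 hq3 hc hy (hK.cj g) (cj_ne_bot h1)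
  obtain ⟨z, hz, hz2, hz3⟩ := SL2.exists_central_of_isPGroup S.2 fun e => by rw [e] at hLc; simp at hLc; omega
  have hz1 := ne_one_of_orderOf Nat.prime_two hz2
  have hf := h.fpf hx hL.t3 hL.nz
  have h2 : ∀ w ∈ Subgroup.centralizer ((S : Subgroup G) : Set G), w ∈ cj g K ⊓ Subgroup.centralizer
      ((S : Subgroup G) : Set G) := fun w hw => ⟨hc1 (Subgroup.centralizer_le hKS hw), hw⟩
  have hz4 : z ∈ Subgroup.centralizer ((S : Subgroup G) : Set G) := Subgroup.mem_centralizer_iff.2 hz3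
  have h3 := card_le_of_subset (K := cj g K ⊓ Subgroup.centralizer ((S : Subgroup G) : Set G))
    ({z, x * z * x⁻¹, 1} : Finset G) (by
    simp only [Finset.mem_insert, Finset.mem_singleton]
    rintro _ (rfl | rfl | rfl)
    exacts [h2 _ hz4, h2 _ (hL.nz.cent _ hz4), one_mem _])
  have n4 : z ≠ x * z * x⁻¹ := fun e1 => hz1 (hf.fpf z hz (eq_mul_inv_iff_mul_eq.1 e1).symm)
  rw [Finset.card_insert_of_notMem (by simp only [Finset.mem_insert, Finset.mem_singleton]; tauto),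
    Finset.card_pair (by simpa [mul_inv_eq_iff_eq_mul] using hz1)] at h3
  have h4 : Nat.card K = 2 ^ 2 := by
    have := (h.fpf hx hK.t3 hK.nz).card_mod
    have := (Subgroup.one_lt_card_iff_ne_bot K).2 h1
    omega
  have h5 := Subgroup.card_dvd_of_le (inf_le_left : cj g K ⊓ Subgroup.centralizer ((S : Subgroup G) : Set G) ≤ _)
  rw [card_cj, h4] at h5
  obtain ⟨i, hi, e⟩ := (Nat.dvd_prime_pow Nat.prime_two).1 h5
  have h6 := inf_eq_left.1 (Subgroup.eq_of_le_of_card_ge (inf_le_left : cj g K ⊓ Subgroup.centralizer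
    ((S : Subgroup G) : Set G) ≤ _) (by rw [card_cj, h4, e]; interval_cases i <;> omega))
  have h7 := Subgroup.card_le_of_le ((Subgroup.le_centralizer_iff.1 h6).trans hc1)
  rw [card_cj] at h7
  omega

end H9

end Cfsg.Agent.Nine
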