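import Cfsg.Agent.Lib.Nine.G2

/-! Bound for the number of `(3,3,3)` triples. -/

set_option autoImplicit false
set_option linter.unusedSectionVars false

open Cfsg Cfsg.Agent.Char
open scoped Classical

namespace Cfsg.Agent.Nine

universe u

variable {G : Type u} [Group G]

namespace H9
variable [Fintype G] (h : H9 G) {q a b : ℕ} (hq : q.Prime) (hq2 : q ≠ 2)
  (hq3 : q ≠ 3) (hc : Nat.card G = 9 * 2 ^ a * q ^ b) {x : G} (hx : orderOf x = 3)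
include h hx

theorem tri_le : ((cl x).filter fun l => IsConj x (x * l)).card ≤
    7 + (Finset.univ.filter fun t => t ≠ 1 ∧ ∃ M, MaxK x M ∧ t ∈ M).card := by
  have hx1 := ne_one_of_orderOf Nat.prime_three hx
  have h1 : ((cl x).filter fun l => IsConj x (x * l)) ⊆ (((Finset.univ.filter fun l => l ∈ Cz x).erase 1).erase x⁻¹) ∪
      (Finset.univ.filter fun t => t ≠ 1 ∧ ∃ M, MaxK x M ∧ t ∈ M).image fun t => x * t := fun l hl => by
    obtain ⟨e1, e2⟩ := Finset.mem_filter.1 hl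
    have o1 := (orderOf_of_isConj (mem_cl.1 e1)).symm.trans hx
    have o2 := (orderOf_of_isConj e2).symm.trans hx
    by_cases hc : Commute x l
    · refine Finset.mem_union_left _ (Finset.mem_erase.2 ⟨?_, Finset.mem_erase.2
        ⟨ne_one_of_orderOf Nat.prime_three o1, Finset.mem_filter.2 ⟨Finset.mem_univ _, mem_Cz.2 hc.eq.symm⟩⟩⟩)
      rintro rfl
      simp at o2
    · obtain ⟨A, h1, h2, h3⟩ := (h.tri hx (o1 ▸ pow_orderOf_eq_one l) (o2 ▸ pow_orderOf_eq_one _)).resolve_left hc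
      obtain ⟨M, h4, h5⟩ := exists_maxK h2 h3
      refine Finset.mem_union_right _ (Finset.mem_image.2 ⟨x⁻¹ * l, Finset.mem_filter.2 ⟨Finset.mem_univ _,
        fun e => hc ?_, M, h5, h4 h1⟩, by simp⟩)
      rw [← inv_mul_eq_one.1 e]
  refine (Finset.card_le_card h1).trans ((Finset.card_union_le _ _).trans (add_le_add ?_ Finset.card_image_le))
  rw [Finset.card_erase_of_mem (by simp [hx1, mem_Cz]), Finset.card_erase_of_mem (by simp),
    ← Fintype.card_subtype fun v => v ∈ Cz x, ← Nat.card_eq_fintype_card, h.card x hx]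

include hq hq2 hq3 hc

theorem union_le {K : Subgroup G} (hK : MaxK x K) (h1 : K ≠ ⊥) {c : ℕ} (hN : Nat.card (Nm K) * c = 18 * Nat.card K)
    {s : Finset G} (hs : ∀ t ∈ s, t ≠ 1 ∧ ∃ g, Nz x (cj g K) ∧ t ∈ cj g K) : s.card ≤ c * (Nat.card K - 1) := by
  have h2 := h.card_conj_le hq hq2 hq3 hc hx (IsConj.refl x) hK h1
  rw [← hN, mul_comm] at h2
  have h3 := Nat.le_of_mul_le_mul_left h2 Nat.card_pos
  refine le_trans (Finset.card_le_card (t := ((Finset.univ.filter fun g => Nz x (cj g K)).image fun g => cj g K).biUnion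
    fun L => (Finset.univ.filter fun t => t ∈ L).erase 1) fun t ht => ?_)
    ((Finset.card_biUnion_le_card_mul _ _ (Nat.card K - 1) fun L hL => ?_).trans (Nat.mul_le_mul_right _ h3))
  · obtain ⟨e, g, e1, e2⟩ := hs t ht
    exact Finset.mem_biUnion.2 ⟨_, Finset.mem_image.2 ⟨g, Finset.mem_filter.2 ⟨Finset.mem_univ _, e1⟩, rfl⟩,
      Finset.mem_erase.2 ⟨e, Finset.mem_filter.2 ⟨Finset.mem_univ _, e2⟩⟩⟩
  · obtain ⟨g, -, rfl⟩ := Finset.mem_image.1 hL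
    rw [Finset.card_erase_of_mem (by simp), ← Fintype.card_subtype fun v => v ∈ cj g K, ← Nat.card_eq_fintype_card,
      card_cj]

variable (hF : ∀ (Q : Subgroup G) (t : G), Nat.card Q = q ^ b → t ∈ Subgroup.centralizer (Q : Set G) →
    t ^ 2 = 1 → t = 1)
include hF

theorem q_bound [Fact q.Prime] (hb : 1 ≤ b) (hcl : ∀ g : G, orderOf g = 3 → IsConj x g) :
    let U := (Finset.univ.filter fun t => t ≠ 1 ∧ ∃ M, MaxK x M ∧ t ∈ M ∧ Nat.card M = q ^ b ∧ IsPGroup q M).card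
    let n := Nat.card (Sylow q G)
    (U = 0 ∧ 9 ∣ n) ∨ (q ^ b % 3 = 1 ∧ q ^ b + 1 ≤ n ∧ ((U ≤ 6 * (q ^ b - 1) ∧ n = 3 * 2 ^ a) ∨
      (U ≤ 3 * (q ^ b - 1) ∧ 2 * n = 3 * 2 ^ a))) := by
  intro U n
  have hall : ∀ M, MaxK x M → IsPGroup 2 M ∨ IsPGroup q M := fun M hM =>
    (h.type_cases hq hq2 hq3 hc hx hF hM).imp_right And.right
  have hq1 : 1 < q ^ b := Nat.one_lt_pow (by omega) hq.one_lt
  have nq : ¬ q ∣ 9 * 2 ^ a := fun e => ((Nat.Prime.dvd_mul hq).1 e).elim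
    (fun e => hq3 ((Nat.prime_dvd_prime_iff_eq hq Nat.prime_three).1 (hq.dvd_of_dvd_pow (n := 2) e)))
    fun e => hq2 ((Nat.prime_dvd_prime_iff_eq hq Nat.prime_two).1 (hq.dvd_of_dvd_pow e))
  have hQc : ∀ Q : Sylow q G, Nat.card Q = q ^ b := fun Q =>
    Alt.card_sylow_of_eq Q (m := 9 * 2 ^ a) (by rw [hc]; ring) nq
  by_cases hex : ∃ M, MaxK x M ∧ Nat.card M = q ^ b ∧ IsPGroup q M
  · obtain ⟨K, hK, hKc, hKp⟩ := hex
    have h1 : K ≠ ⊥ := (Subgroup.one_lt_card_iff_ne_bot K).1 (by omega)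
    obtain ⟨Q, hQ⟩ := hKp.exists_le_sylow
    obtain rfl : K = Q := Subgroup.eq_of_le_of_card_ge hQ (by rw [hQc, hKc])
    have hn : n = (Nm (Q : Subgroup G)).index := Q.card_eq_index_normalizer
    have h2 := (Nm (Q : Subgroup G)).index_mul_card
    have h3 := h.card_lt_index hq hq2 hq3 hc hx hall (Or.inl rfl) hK hKp h1
    have hs : ∀ t ∈ (Finset.univ.filter fun t => t ≠ 1 ∧ ∃ M, MaxK x M ∧ t ∈ M ∧ Nat.card M = q ^ b ∧ IsPGroup q M),
        t ≠ 1 ∧ ∃ g, Nz x (cj g (Q : Subgroup G)) ∧ t ∈ cj g (Q : Subgroup G) := fun t ht => by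
      obtain ⟨-, e, M, e1, e2, e3, e4⟩ := Finset.mem_filter.1 ht
      obtain ⟨g, -, hg⟩ := Alt.exists_conj_le_sylow Q le_top le_top e4
      have e5 : M = cj g⁻¹ Q := Subgroup.eq_of_le_of_card_ge (fun k hk => mem_cj.2 (by simpa using hg k hk))
        (by rw [card_cj, e3, hKc])
      exact ⟨e, g⁻¹, e5 ▸ e1.nz, e5 ▸ e2⟩
    refine Or.inr ⟨hKc ▸ (h.fpf hx hK.t3 hK.nz).card_mod, by omega, ?_⟩
    rw [← hn, hc] at h2
    rcases (h.ST1 hq hq2 hq3 hc hx hK h1).2.2 with e | e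
    · refine Or.inl ⟨hKc ▸ h.union_le hq hq2 hq3 hc hx hK h1 (by rw [e]; ring) hs, ?_⟩
      rw [e, hKc] at h2
      exact Nat.eq_of_mul_eq_mul_right (by omega : 0 < 3 * q ^ b) (by rw [h2]; ring)
    · refine Or.inr ⟨hKc ▸ h.union_le hq hq2 hq3 hc hx hK h1 (by rw [e]; ring) hs, ?_⟩
      rw [e, hKc] at h2
      exact Nat.eq_of_mul_eq_mul_right (by omega : 0 < 3 * q ^ b) (by linear_combination h2)
  · refine Or.inl ⟨Finset.card_eq_zero.2 (Finset.filter_eq_empty_iff.2 ?_), ?_⟩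
    · rintro t - ⟨-, M, e1, -, e3, e4⟩
      exact hex ⟨M, e1, e3, e4⟩
    obtain ⟨Q⟩ : Nonempty (Sylow q G) := inferInstance
    have hn : n = (Nm (Q : Subgroup G)).index := Q.card_eq_index_normalizer
    have h2 := (Nm (Q : Subgroup G)).index_mul_card
    have h3 : T3 (Nm (Q : Subgroup G)) := fun y hy e => by
      by_contra e1
      obtain ⟨g, hg⟩ := isConj_iff.1 (hcl y (orderOf_three e e1)).symm
      have hQ3 : T3 (Q : Subgroup G) := t3_iff.2 (by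
        rw [hQc]
        exact fun e => hq3 ((Nat.prime_dvd_prime_iff_eq Nat.prime_three hq).1 (Nat.prime_three.dvd_of_dvd_pow e)).symm)
      obtain ⟨M, e2, e3⟩ := exists_maxK (hg ▸ (nz_of_mem hy).cj g) (hQ3.cj g)
      rcases h.type_cases hq hq2 hq3 hc hx hF e3 with e4 | e4
      · have := Fact.mk Nat.prime_two
        have e5 := IsPGroup.disjoint_of_ne q 2 hq2 _ M (Q.2.map (MulAut.conj g).toMonoidHom) e4 le_rfl e2
        have e6 := Subgroup.card_le_of_le e5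
        rw [show Subgroup.map _ (Q : Subgroup G) = cj g Q from rfl, card_cj, hQc] at e6
        simp at e6
        omega
      · exact hex ⟨M, e3, e4⟩
    rw [← hn, hc] at h2
    exact Nat.Coprime.dvd_of_dvd_mul_right (((Nat.Prime.coprime_iff_not_dvd Nat.prime_three).2
      (t3_iff.1 h3)).pow_left 2) (by rw [h2, mul_assoc]; exact Dvd.intro _ rfl)

theorem two_bound (ha : 3 ≤ a) :
    let U := (Finset.univ.filter fun t => t ≠ 1 ∧ ∃ M, MaxK x M ∧ t ∈ M ∧ IsPGroup 2 M).card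
    U ≤ 35 ∨ (U ≤ 6 * (2 ^ a - 1) ∧ 2 ^ a % 3 = 1 ∧ (q ≠ 5 → 2 ^ a + 1 ≤ 3 * q ^ b)) ∨
      ∃ k, 2 ^ a = 2 * k ∧ U ≤ 3 * (k - 1) + 35 ∧ k % 3 = 1 ∧ (q ≠ 5 → k + 1 ≤ 3 * q ^ b) := by
  intro U
  have := Fact.mk Nat.prime_two
  have hall : ∀ M, MaxK x M → IsPGroup 2 M ∨ IsPGroup q M := fun M hM =>
    (h.type_cases hq hq2 hq3 hc hx hF hM).imp_right And.right
  obtain ⟨S⟩ : Nonempty (Sylow 2 G) := inferInstance
  have h8 : 8 ≤ 2 ^ a := Nat.pow_le_pow_right two_pos ha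
  obtain ⟨z, hz, hz2, hz3⟩ := SL2.exists_central_of_isPGroup S.2 fun e => by
    have := card_sylow_two hq hq2 hc S
    rw [e] at this; simp at this; omega
  have hz1 := ne_one_of_orderOf Nat.prime_two hz2
  have hsm : (Finset.univ.filter fun t => t ≠ 1 ∧ ∃ M, MaxK x M ∧ t ∈ M ∧ IsPGroup 2 M ∧ Nat.card M ≤ 4).card ≤ 35 := by
    refine le_trans (Finset.card_le_card fun t ht => ?_)
      (small_count (hx ▸ pow_orderOf_eq_one x) (h.card x hx) (hz2 ▸ pow_orderOf_eq_one z) hz1)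
    obtain ⟨-, e, M, e1, e2, e3, e4⟩ := Finset.mem_filter.1 ht
    exact Finset.mem_filter.2 ⟨Finset.mem_univ _, h.small_elt hq hq2 hq3 hc hx e1 e3 e4 S hz hz1 hz3 e2 e⟩
  by_cases hex : ∃ M, MaxK x M ∧ IsPGroup 2 M ∧ 4 < Nat.card M
  swap
  · refine Or.inl (le_trans (Finset.card_le_card fun t ht => ?_) hsm)
    obtain ⟨-, e, M, e1, e2, e3⟩ := Finset.mem_filter.1 ht
    exact Finset.mem_filter.2 ⟨Finset.mem_univ _, e, M, e1, e2, e3, not_lt.1 fun e4 => hex ⟨M, e1, e3, e4⟩⟩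
  obtain ⟨K, hK, hKp, hK4⟩ := hex
  have h1 : K ≠ ⊥ := (Subgroup.one_lt_card_iff_ne_bot K).1 (by omega)
  obtain ⟨-, -, e0⟩ := h.two_cases hq hq2 hq3 hc hx hK h1 hKp
  obtain ⟨e1, e2⟩ := e0.resolve_left (by omega)
  have h2 := (Nm K).index_mul_card
  rw [e2, hc] at h2
  have h3 : (Nm K).index = 3 * q ^ b := Nat.eq_of_mul_eq_mul_right (by omega : 0 < 3 * 2 ^ a) (by rw [h2]; ring)
  have h4 := fun e : q ≠ 5 => h.card_lt_index hq hq2 hq3 hc hx hall (Or.inr ⟨rfl, e⟩) hK hKp h1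
  have h5 := (h.fpf hx hK.t3 hK.nz).card_mod
  have hs : ∀ t ∈ (Finset.univ.filter fun t => t ≠ 1 ∧ ∃ M, MaxK x M ∧ t ∈ M ∧ IsPGroup 2 M ∧ 4 < Nat.card M),
      t ≠ 1 ∧ ∃ g, Nz x (cj g K) ∧ t ∈ cj g K := fun t ht => by
    obtain ⟨-, e, M, e1, e2, e3, e4⟩ := Finset.mem_filter.1 ht
    obtain ⟨g, rfl⟩ := h.big_conj hq hq2 hq3 hc hx hK e1 hKp e3 hK4 e4
    exact ⟨e, g, e1.nz, e2⟩
  rw [h3] at h4
  rcases e1 with e1 | e1
  · refine Or.inr (Or.inl ⟨le_trans (Finset.card_le_card fun t ht => ?_)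
      (e1 ▸ h.union_le hq hq2 hq3 hc hx hK h1 (by rw [e2, e1]; ring) hs), e1 ▸ h5, e1 ▸ h4⟩)
    obtain ⟨-, e, M, e3, e4, e5⟩ := Finset.mem_filter.1 ht
    exact Finset.mem_filter.2 ⟨Finset.mem_univ _, e, M, e3, e4, e5, not_le.1 fun e6 =>
      h.not_small hq hq2 hq3 hc hx ha e3 e5 e6 (fun e7 => e (Subgroup.mem_bot.1 (e7 ▸ e4))) hK hKp e1⟩
  · refine Or.inr (Or.inr ⟨_, e1, le_trans (Finset.card_le_card fun t ht => ?_) ((Finset.card_union_le _ _).trans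
      (add_le_add (h.union_le hq hq2 hq3 hc hx hK h1 (by rw [e2, e1]; ring) hs) hsm)), h5, h4⟩)
    obtain ⟨-, e, M, e3, e4, e5⟩ := Finset.mem_filter.1 ht
    rcases lt_or_ge 4 (Nat.card M) with e6 | e6
    · exact Finset.mem_union_left _ (Finset.mem_filter.2 ⟨Finset.mem_univ _, e, M, e3, e4, e5, e6⟩)
    · exact Finset.mem_union_right _ (Finset.mem_filter.2 ⟨Finset.mem_univ _, e, M, e3, e4, e5, e6⟩)

theorem tri_bound [Fact q.Prime] (ha : 3 ≤ a) (hb : 1 ≤ b) (hcl : ∀ g : G, orderOf g = 3 → IsConj x g) :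
    ∃ U V n : ℕ, n = Nat.card (Sylow q G) ∧ ((cl x).filter fun l => IsConj x (x * l)).card ≤ 7 + U + V ∧
    ((U = 0 ∧ 9 ∣ n) ∨ (q ^ b % 3 = 1 ∧ q ^ b + 1 ≤ n ∧ ((U ≤ 6 * (q ^ b - 1) ∧ n = 3 * 2 ^ a) ∨
      (U ≤ 3 * (q ^ b - 1) ∧ 2 * n = 3 * 2 ^ a)))) ∧
    (V ≤ 35 ∨ (V ≤ 6 * (2 ^ a - 1) ∧ 2 ^ a % 3 = 1 ∧ (q ≠ 5 → 2 ^ a + 1 ≤ 3 * q ^ b)) ∨
      ∃ k, 2 ^ a = 2 * k ∧ V ≤ 3 * (k - 1) + 35 ∧ k % 3 = 1 ∧ (q ≠ 5 → k + 1 ≤ 3 * q ^ b)) := by
  refine ⟨_, _, _, rfl, ?_, h.q_bound hq hq2 hq3 hc hx hF hb hcl, h.two_bound hq hq2 hq3 hc hx hF ha⟩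
  rw [add_assoc]
  refine (h.tri_le hx).trans (Nat.add_le_add_left (le_trans (Finset.card_le_card fun t ht => ?_)
    (Finset.card_union_le _ _)) 7)
  obtain ⟨-, e, M, e1, e2⟩ := Finset.mem_filter.1 ht
  rcases h.type_cases hq hq2 hq3 hc hx hF e1 with e3 | e3
  · exact Finset.mem_union_right _ (Finset.mem_filter.2 ⟨Finset.mem_univ _, e, M, e1, e2, e3⟩)
  · exact Finset.mem_union_left _ (Finset.mem_filter.2 ⟨Finset.mem_univ _, e, M, e1, e2, e3⟩)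

end H9

end Cfsg.Agent.Nine
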