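import Cfsg.Agent.Lib.Nine.G3

/-! Strongly self-centralizing subgroups of order nine: fusion and elementary counts. -/

set_option autoImplicit false
set_option linter.unusedSectionVars false

open Cfsg Cfsg.Agent.Char
open scoped ComplexConjugate Classical

namespace Cfsg.Agent.Nine

universe u

variable {G : Type u} [Group G]

structure SC (R : Subgroup G) : Prop where
  card : Nat.card R = 9
  cent : ∀ k ∈ R, k ≠ 1 → Cz k = R
  syl : ∀ g : G, orderOf g = 3 → ∃ y, y * g * y⁻¹ ∈ R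

theorem sc_of_sylow [Finite G] {n : ℕ} (hc : Nat.card G = 9 * n) (hn : ¬ 3 ∣ n) (R : Sylow 3 G)
    (hR : ∀ k ∈ (R : Subgroup G), k ≠ 1 → Cz k = R) : SC (R : Subgroup G) where
  card := by
    have : Fact (Nat.Prime 3) := ⟨Nat.prime_three⟩
    have hn0 : n ≠ 0 := fun e => hn (e ▸ dvd_zero 3)
    rw [Sylow.card_eq_multiplicity, hc, Nat.factorization_mul (by norm_num) hn0,
      show (9 : ℕ) = 3 ^ 2 by norm_num, Nat.prime_three.factorization_pow]
    simp [Nat.factorization_eq_zero_of_not_dvd hn]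
  cent := hR
  syl := fun g hg => by
    have : Fact (Nat.Prime 3) := ⟨Nat.prime_three⟩
    have h1 : IsPGroup 3 (Subgroup.zpowers g) := IsPGroup.of_card (n := 1) (by rw [Nat.card_zpowers, hg]; rfl)
    obtain ⟨P, hP⟩ := h1.exists_le_sylow
    obtain ⟨y, hy⟩ := MulAction.exists_smul_eq G P R
    refine ⟨y, ?_⟩
    rw [← hy, Sylow.coe_subgroup_smul]
    exact Subgroup.smul_mem_pointwise_smul g (MulAut.conj y) _ (hP (Subgroup.mem_zpowers g))

/-- nonidentity elements -/
noncomputable def Rs [Fintype G] (R : Subgroup G) : Finset G := Finset.univ.filter fun k => k ∈ R ∧ k ≠ 1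

theorem mem_Rs [Fintype G] {R : Subgroup G} {k : G} : k ∈ Rs R ↔ k ∈ R ∧ k ≠ 1 := by simp [Rs]

/-- the class of `k` inside `R` -/
noncomputable def cR [Fintype G] (R : Subgroup G) (k : G) : Finset G := (cl k).filter (· ∈ R)

theorem mem_cR [Fintype G] {R : Subgroup G} {k l : G} : l ∈ cR R k ↔ IsConj k l ∧ l ∈ R := by
  rw [cR, Finset.mem_filter, mem_cl]

theorem sum_sub [Fintype G] (R : Subgroup G) [Fintype R] {M : Type*} [AddCommMonoid M] (f : G → M) :
    ∑ k : R, f k = f 1 + ∑ k ∈ Rs R, f k := by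
  rw [← Finset.sum_subtype (Finset.univ.filter (· ∈ R)) (by simp) f,
    ← Finset.add_sum_erase _ f (a := 1) (by simp [one_mem])]
  congr 2
  ext k; simp [Rs, and_comm]

theorem cR_sub [Fintype G] {R : Subgroup G} {k : G} (hk : k ≠ 1) : cR R k ⊆ Rs R := fun l hl =>
  mem_Rs.2 ⟨(mem_cR.1 hl).2, fun e => hk (isConj_one_left.1 (e ▸ (mem_cR.1 hl).1))⟩

namespace SC

variable [Fintype G] {R : Subgroup G} (h : SC R)
include h

theorem comm {k l : G} (hk : k ∈ R) (hl : l ∈ R) : l * k = k * l := by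
  by_cases e : k = 1
  · simp [e]
  · exact mem_Cz.1 (h.cent k hk e ▸ hl)

theorem pow_nine {k : G} (hk : k ∈ R) : k ^ 9 = 1 := by
  have := pow_card_eq_one' (x := (⟨k, hk⟩ : R))
  rw [h.card] at this
  exact congrArg Subtype.val this

theorem three_dvd {k : G} (hk : k ∈ R) (h1 : k ≠ 1) : 3 ∣ orderOf k := by
  obtain ⟨i, hi, e⟩ := (Nat.dvd_prime_pow Nat.prime_three (m := 2)).1 (orderOf_dvd_of_pow_eq_one (h.pow_nine hk))
  rcases i with _ | i
  · exact absurd (orderOf_eq_one_iff.1 e) h1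
  · exact e ▸ dvd_pow_self 3 (by omega)

theorem card_Rs : (Rs R).card = 8 := by
  have := sum_sub R (fun _ => 1)
  simp only [Finset.sum_const, Finset.card_univ, smul_eq_mul, mul_one, ← Nat.card_eq_fintype_card, h.card] at this
  omega

theorem conj' {g : G} (hg : 3 ∣ orderOf g) : ∃ k ∈ Rs R, IsConj k g := by
  obtain ⟨i, hi⟩ := exists_pow_orderOf hg
  obtain ⟨y, hy⟩ := h.syl _ hi
  have h1 : y * g ^ i * y⁻¹ ≠ 1 := fun e => ne_one_of_orderOf Nat.prime_three hi (by simpa using e)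
  have h2 : y * g * y⁻¹ ∈ R := by
    rw [← h.cent _ hy h1, mem_Cz]
    calc y * g * y⁻¹ * (y * g ^ i * y⁻¹) = y * (g * g ^ i) * y⁻¹ := by group
      _ = _ := by rw [← pow_succ', pow_succ]; group
  refine ⟨_, mem_Rs.2 ⟨h2, fun e => ?_⟩, isConj_iff.2 ⟨y⁻¹, by group⟩⟩
  have : g = 1 := by simpa using e
  simp [this] at hg

theorem card_Cz {g : G} (hg : 3 ∣ orderOf g) : Nat.card (Cz g) = 9 := by
  obtain ⟨k, hk, e⟩ := h.conj' hg
  rw [← card_Cz_conj e, h.cent k (mem_Rs.1 hk).1 (mem_Rs.1 hk).2, h.card]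

theorem mem_N {k y : G} (hk : k ∈ R) (h1 : k ≠ 1) (hy : y * k * y⁻¹ ∈ R) : y ∈ Nm R := by
  refine Nz.mem_normalizer fun l hl => ?_
  rw [← h.cent _ hy (by simpa using h1), mem_Cz]
  calc y * l * y⁻¹ * (y * k * y⁻¹) = y * (l * k) * y⁻¹ := by group
    _ = _ := by rw [h.comm hk hl]; group

theorem card_cR {k : G} (hk : k ∈ Rs R) : (cR R k).card * 9 = Nat.card (Nm R) := by
  obtain ⟨hk, h1⟩ := mem_Rs.1 hk
  rw [Nat.card_eq_fintype_card, Fintype.card_subtype, eq_comm,
    Finset.card_eq_sum_card_fiberwise (f := fun y => y * k * y⁻¹) (t := cR R k)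
      (s := Finset.univ.filter (· ∈ Nm R)), Finset.sum_const_nat]
  · intro l hl
    have h2 := card_conjugators (mem_cR.1 hl).1
    rw [show Subgroup.centralizer ({k} : Set G) = R from h.cent k hk h1, h.card, Nat.card_eq_fintype_card,
      Fintype.card_subtype] at h2
    rw [← h2, Finset.filter_filter]
    congr 1
    refine Finset.filter_congr fun y _ => ⟨fun e => e.2, fun e => ⟨h.mem_N hk h1 (e ▸ (mem_cR.1 hl).2), e⟩⟩
  · intro y hy
    exact mem_cR.2 ⟨isConj_iff.2 ⟨y, rfl⟩, nz_of_mem (by simpa using hy) k hk⟩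

theorem card_cR_eq {k l : G} (hk : k ∈ Rs R) (hl : l ∈ Rs R) : (cR R k).card = (cR R l).card := by
  have := h.card_cR hk
  have := h.card_cR hl
  omega

theorem cR_dvd {k : G} (hk : k ∈ Rs R) : (cR R k).card ∣ 8 := by
  rw [← h.card_Rs, Finset.card_eq_sum_card_image ConjClasses.mk (Rs R)]
  refine Finset.dvd_sum (R := ℕ) fun c hc => ?_
  obtain ⟨l, hl, rfl⟩ := Finset.mem_image.1 hc
  rw [h.card_cR_eq hk hl]
  refine dvd_of_eq (congrArg Finset.card ?_)
  ext j
  rw [Finset.mem_filter, ConjClasses.mk_eq_mk_iff_isConj]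
  exact ⟨fun e => ⟨cR_sub (mem_Rs.1 hl).2 e, (mem_cR.1 e).1.symm⟩, fun e => mem_cR.2 ⟨e.2.symm, (mem_Rs.1 e.1).1⟩⟩

theorem cl_mod (k : G) : 9 ∣ (cl k).card - (cR R k).card := by
  let _ : MulAction R G := MulAction.compHom G (MulAut.conj.comp R.subtype)
  have hs : ∀ (z : R) (l : G), z • l = z * l * (z : G)⁻¹ := fun z l => rfl
  have h1 : (cl k).card - (cR R k).card = ∑ l, if IsConj k l ∧ l ∉ R then 1 else 0 := by
    rw [← Finset.card_filter, ← Finset.card_filter_add_card_filter_not (s := cl k) (· ∈ R), cR,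
      Nat.add_sub_cancel_left, cl, Finset.filter_filter]
  rw [h1]
  refine Fix.sum_of_orbit (Z := R) (S := fun n : ℕ => 9 ∣ n) (dvd_zero _) (fun a b => dvd_add) _
    (fun z l => ?_) fun l => ?_
  · rw [hs]
    refine if_congr (and_congr (Fix.isConj_conj_iff _ _ _) (not_congr ?_)) rfl rfl
    rw [mul_mem_cancel_right (inv_mem z.2), mul_mem_cancel_left z.2]
  · split_ifs with e
    · rw [Nat.card_congr (MulAction.orbitEquivQuotientStabilizer R l), ← Subgroup.index_eq_card,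
        show MulAction.stabilizer R l = ⊥ from ?_, Subgroup.index_bot, h.card]
      · simp
      · rw [eq_bot_iff]
        intro z hz
        rw [MulAction.mem_stabilizer_iff, hs, mul_inv_eq_iff_eq_mul] at hz
        by_contra h2
        exact e.2 (h.cent z z.2 (fun e => h2 (Subtype.ext e)) ▸ mem_Cz.2 hz.symm)
    · simp

theorem inv_conj {k : G} (hk : k ∈ Rs R) (he : 2 ∣ (cR R k).card) {l : G} (hl : l ∈ R) : IsConj l l⁻¹ := by
  have : Fact (Nat.Prime 2) := ⟨Nat.prime_two⟩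
  obtain ⟨⟨t, ht'⟩, ht⟩ := exists_prime_orderOf_dvd_card' (G := Nm R) 2 (h.card_cR hk ▸ he.mul_right 9)
  rw [← Subgroup.orderOf_coe] at ht
  dsimp only at ht
  have h2 : (t : G) * t = 1 := by rw [← sq, ← ht, pow_orderOf_eq_one]
  have h3 : (t : G) * l * (t : G)⁻¹ ∈ R := nz_of_mem ht' l hl
  have h4 : l * (t * l * (t : G)⁻¹) = 1 := by
    by_contra e
    have h5 : (t : G) ∈ R := by
      rw [← h.cent _ (mul_mem hl h3) e, mem_Cz]
      nth_rewrite 2 [← h.comm hl h3]
      rw [inv_eq_of_mul_eq_one_left h2]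
      calc (t : G) * (l * (t * l * t)) = t * l * t * l * (t * t * t) := by rw [h2]; group
        _ = _ := by rw [h2]; group
    have := orderOf_dvd_of_pow_eq_one (h.pow_nine h5)
    rw [ht] at this
    omega
  exact isConj_iff.2 ⟨t, (inv_eq_of_mul_eq_one_right h4).symm⟩

theorem exists_sum (χ : IrrCharacter G) : ∃ m : ℕ, (dg χ : ℂ) + ∑ k ∈ Rs R, χ.1 k = 9 * m := by
  obtain ⟨m, hm⟩ := exists_nat_inner (isChar_restrict R (ch χ)) isChar_one
  rw [inner_one_right, h.card, sum_sub, apply_one] at hm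
  exact ⟨m, by rw [← hm]; field_simp; simp⟩

theorem h9 {k : G} (hk : k ∈ Rs R) (he : 3 ≤ (cR R k).card) : H9 G := by
  have h1 : ∀ y ∈ R, y ^ 3 = 1 := by
    intro y hy
    by_contra e
    have h2 : y ^ 3 ∈ Rs R := mem_Rs.2 ⟨pow_mem hy 3, e⟩
    have h3 : orderOf y = 9 := orderOf_eq_prime_pow (p := 3) (n := 1) e (h.pow_nine hy)
    have h4 : Subgroup.zpowers y = R := Subgroup.eq_of_le_of_card_ge ((Subgroup.zpowers_le).2 hy)
      (by rw [h.card, Nat.card_zpowers, h3])
    have h5 : cR R (y ^ 3) ⊆ {y ^ 3, y ^ 6} := by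
      intro l hl
      obtain ⟨e1, e2⟩ := mem_cR.1 hl
      rw [← h4, mem_zpowers_iff_mem_range_orderOf, h3] at e2
      obtain ⟨i, hi, rfl⟩ := Finset.mem_image.1 e2
      have e3 := orderOf_of_isConj e1
      rw [orderOf_pow, orderOf_pow, h3] at e3
      rw [Finset.mem_range] at hi
      interval_cases i <;> simp at e3 ⊢
    have := Finset.card_le_card h5
    have := Finset.card_le_two (a := y ^ 3) (b := y ^ 6)
    have := h.card_cR_eq hk h2
    omega
  refine ⟨fun g hg => h.card_Cz (hg ▸ dvd_rfl), fun g hg y hy => ?_⟩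
  obtain ⟨z, hz⟩ := h.syl g hg
  have h2 : z * y * z⁻¹ ∈ R := by
    rw [← h.cent _ hz (by simpa using ne_one_of_orderOf Nat.prime_three hg), mem_Cz]
    calc z * y * z⁻¹ * (z * g * z⁻¹) = z * (y * g) * z⁻¹ := by group
      _ = _ := by rw [mem_Cz.1 hy]; group
  simpa [conj_pow] using h1 _ h2

end SC

end Cfsg.Agent.Nine
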