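import Cfsg.Agent.Lib.Nine.B

/-! Arithmetic for the case of one class of elements of order three. -/

set_option autoImplicit false
set_option linter.unusedSectionVars false

open scoped Classical

namespace Cfsg.Agent.Nine

theorem dv_small {D a : ℕ} (h : D ∣ 2 ^ a * 5 ^ 3) (h1 : D < 1024) : D ∣ 128000 := by
  obtain ⟨i, -, j, hj, rfl⟩ := eq_pow_mul_pow Nat.prime_five h
  have h2 : 2 ^ i < 2 ^ 10 := lt_of_le_of_lt (Nat.le_mul_of_pos_right _ (by positivity)) h1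
  exact Nat.mul_dvd_mul (pow_dvd_pow 2 (Nat.pow_lt_pow_iff_right (by norm_num) |>.1 h2).le) (pow_dvd_pow 5 hj)

theorem dv_le {D a : ℕ} (h : D ∣ 2 ^ a * 5 ^ 3) (h1 : ¬ 8 ∣ D) : D ≤ 500 := by
  obtain ⟨i, -, j, hj, rfl⟩ := eq_pow_mul_pow Nat.prime_five h
  have h2 : i ≤ 2 := by
    by_contra e
    exact h1 ((pow_dvd_pow 2 (by omega : 3 ≤ i)).mul_right _)
  exact Nat.mul_le_mul (Nat.pow_le_pow_right (by norm_num) h2) (Nat.pow_le_pow_right (by norm_num) hj)

structure W8 {ι : Type*} [Fintype ι] (c : ι → ℤ) (D : ι → ℕ) (o : ι) : Prop where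
  co : c o = 1
  Do : D o = 1
  two : ∀ i, i ≠ o → 2 ≤ D i
  m : ∀ i, ∃ m : ℕ, (D i : ℤ) + 8 * c i = 9 * m
  sq : ∑ i, c i ^ 2 = 9
  deg : ∑ i, c i * D i = 0

/-- the gain -/
def gn (c : ℤ) (D : ℕ) : ℚ := (c : ℚ) ^ 3 / D + (c : ℚ) ^ 2 / 8

theorem gn_facts {c : ℤ} {D m : ℕ} (h1 : c ^ 2 ≤ 8) (h2 : 2 ≤ D) (h3 : (D : ℤ) + 8 * c = 9 * m) :
    0 ≤ gn c D ∧ (c * (D + 8 * c) ≠ 0 → 9 / 136 ≤ gn c D) ∧ (0 < c → 1 / 8 ≤ gn c D) ∧
    (c = 2 → 1 / 2 ≤ gn c D) ∧ (c = -1 → 80 ≤ D → 9 / 80 ≤ gn c D) ∧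
    (c = -2 → 25 ≤ D → 9 / 50 ≤ gn c D) ∧ (c = -2 → 34 ≤ D → 1 / 4 ≤ gn c D) ∧ -2 ≤ c ∧ c ≤ 2 := by
  have h4 : -2 ≤ c := by nlinarith
  have h5 : c ≤ 2 := by nlinarith
  have h6 : (0 : ℚ) < D := by exact_mod_cast (by omega : 0 < D)
  have key : ∀ (n : ℕ) (r : ℚ), 0 ≤ r → 0 < n → n ≤ D → -(r / n) ≤ -r / D := fun n r hr hn hD => by
    rw [neg_div, neg_le_neg_iff]
    exact div_le_div_of_nonneg_left hr (by exact_mod_cast hn) (by exact_mod_cast hD)
  have k1 : (0 : ℚ) ≤ 1 / D := by positivity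
  have k2 : (0 : ℚ) ≤ 8 / D := by positivity
  unfold gn
  interval_cases c
  · have := key 16 8 (by norm_num) (by norm_num) (by omega)
    have := fun h => key 25 8 (by norm_num) (by norm_num) h
    have := fun h => key 34 8 (by norm_num) (by norm_num) h
    norm_num at *
    refine ⟨by linarith, fun h => ?_, fun h => ?_, fun h => ?_⟩
    · have := ‹25 ≤ D → _› (by omega); linarith
    · have := ‹25 ≤ D → _› h; linarith
    · have := ‹34 ≤ D → _› h; linarith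
  · have := key 8 1 (by norm_num) (by norm_num) (by omega)
    have := fun h => key 17 1 (by norm_num) (by norm_num) h
    have := fun h => key 80 1 (by norm_num) (by norm_num) h
    norm_num at *
    refine ⟨by linarith, fun h => ?_, fun h => ?_⟩
    · have := ‹17 ≤ D → _› (by omega); linarith
    · have := ‹80 ≤ D → _› h; linarith
  · norm_num
  · have k3 : (0 : ℚ) ≤ (D : ℚ)⁻¹ := by positivity
    norm_num
    exact ⟨by linarith, fun _ => by linarith⟩
  · norm_num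
    exact ⟨by linarith, fun _ => by linarith, by linarith, by linarith⟩

namespace W8

variable {ι : Type*} [Fintype ι] {c : ι → ℤ} {D : ι → ℕ} {o : ι} (h : W8 c D o)
include h

theorem sq' : ∑ i ∈ Finset.univ.erase o, c i ^ 2 = 8 := by
  have := h.sq
  rw [← Finset.add_sum_erase _ _ (Finset.mem_univ o), h.co] at this
  omega

theorem deg' : ∑ i ∈ Finset.univ.erase o, c i * D i = -1 := by
  have := h.deg
  rw [← Finset.add_sum_erase _ _ (Finset.mem_univ o), h.co, h.Do] at this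
  omega

theorem sq_le {i : ι} (hi : i ≠ o) : c i ^ 2 ≤ 8 :=
  h.sq' ▸ Finset.single_le_sum (f := fun i => c i ^ 2) (fun _ _ => sq_nonneg _) (by simpa using hi)

theorem sum_h : ∑ i ∈ Finset.univ.erase o, c i * (D i + 8 * c i) = 63 := by
  have : ∀ i, c i * (D i + 8 * c i) = c i * D i + 8 * c i ^ 2 := fun i => by ring
  simp only [this, Finset.sum_add_distrib, ← Finset.mul_sum, h.sq', h.deg']
  rfl

theorem rho : ∑ i, (c i : ℚ) ^ 3 / D i = ∑ i ∈ Finset.univ.erase o, gn (c i) (D i) := by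
  have h1 : ∑ i ∈ Finset.univ.erase o, (c i : ℚ) ^ 2 = 8 := by exact_mod_cast h.sq'
  simp only [gn, Finset.sum_add_distrib, ← Finset.sum_div, h1]
  rw [← Finset.add_sum_erase _ _ (Finset.mem_univ o), h.co, h.Do]
  norm_num [add_comm]

theorem exists_odd : ∃ i, i ≠ o ∧ (c i = 1 ∨ c i = -1) ∧ D i % 2 = 1 := by
  by_contra e
  push Not at e
  have : (2 : ℤ) ∣ ∑ i ∈ Finset.univ.erase o, c i * D i := Finset.dvd_sum fun i hi => by
    have hi : i ≠ o := by simpa using hi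
    obtain ⟨m, hm⟩ := h.m i
    obtain ⟨-, -, -, -, -, -, -, h1, h2⟩ := gn_facts (h.sq_le hi) (h.two i hi) hm
    have := e i hi
    generalize c i = x at *
    interval_cases x <;> omega
  rw [h.deg'] at this
  omega

theorem sum_gn_le {s : Finset ι} (hs : o ∉ s) : ∑ i ∈ s, gn (c i) (D i) ≤ ∑ i, (c i : ℚ) ^ 3 / D i := by
  rw [h.rho]
  refine Finset.sum_le_sum_of_subset_of_nonneg (fun i hi => ?_) fun i hi _ => ?_
  · exact Finset.mem_erase.2 ⟨fun e => hs (e ▸ hi), Finset.mem_univ _⟩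
  · have hi : i ≠ o := by simpa using hi
    obtain ⟨m, hm⟩ := h.m i
    exact (gn_facts (h.sq_le hi) (h.two i hi) hm).1

theorem rho_ge {q a b : ℕ} (hq : q.Prime) (hd : ∀ i, c i ≠ 0 → D i ∣ 2 ^ a * q ^ b) :
    13 / 68 ≤ ∑ i, (c i : ℚ) ^ 3 / D i := by
  obtain ⟨P, hP, hP1⟩ : ∃ P, P ≠ o ∧ 0 < c P := by
    by_contra e
    push Not at e
    have : ∑ i ∈ Finset.univ.erase o, c i * (D i + 8 * c i) ≤ 0 := Finset.sum_nonpos fun i hi => by
      obtain ⟨m, hm⟩ := h.m i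
      exact mul_nonpos_of_nonpos_of_nonneg (e i (by simpa using hi)) (by omega)
    rw [h.sum_h] at this
    omega
  obtain ⟨m, hm⟩ := h.m P
  obtain ⟨-, -, g1, -, -, -, -, h1, h2⟩ := gn_facts (h.sq_le hP) (h.two P hP) hm
  by_cases e : ∃ i, i ≠ o ∧ i ≠ P ∧ c i * (D i + 8 * c i) ≠ 0
  · obtain ⟨i, hi, hiP, h3⟩ := e
    obtain ⟨m', hm'⟩ := h.m i
    have g2 := (gn_facts (h.sq_le hi) (h.two i hi) hm').2.1 h3
    have := h.sum_gn_le (s := {i, P}) (by simp [hi.symm, hP.symm])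
    rw [Finset.sum_pair hiP] at this
    linarith [g1 hP1]
  · push Not at e
    have h3 := h.sum_h
    rw [Finset.sum_eq_single_of_mem P (by simpa using hP) fun i hi h4 => e i (by simpa using hi) h4] at h3
    have h4 := hd P hP1.ne'
    generalize c P = x at *
    have h5 : D P = 55 := by interval_cases x <;> omega
    rw [h5] at h4
    have h6 : ∀ p : ℕ, p.Prime → p ∣ 55 → p = 2 ∨ p = q := fun p hp e => by
      rcases (Nat.Prime.dvd_mul hp).1 (e.trans h4) with e | e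
      · exact Or.inl ((Nat.prime_dvd_prime_iff_eq hp Nat.prime_two).1 (hp.dvd_of_dvd_pow e))
      · exact Or.inr ((Nat.prime_dvd_prime_iff_eq hp hq).1 (hp.dvd_of_dvd_pow e))
    have := h6 5 (by norm_num) (by norm_num)
    have := h6 11 (by norm_num) (by norm_num)
    omega

variable {a : ℕ} (hd : ∀ i, c i ≠ 0 → D i ∣ 2 ^ a * 5 ^ 3) (hρ : ∑ i, (c i : ℚ) ^ 3 / D i ≤ 4332 / 10000)
include hd hρ

theorem nt {i : ι} (hi : i ≠ o) (h1 : c i * (D i + 8 * c i) ≠ 0) : 9 / 80 ≤ gn (c i) (D i) ∧ c i ≠ 2 := by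
  obtain ⟨m, hm⟩ := h.m i
  obtain ⟨-, -, g1, g2, g3, g4, -, h2, h3⟩ := gn_facts (h.sq_le hi) (h.two i hi) hm
  have h4 := h.sum_gn_le (s := {i}) (by simp [hi.symm])
  rw [Finset.sum_singleton] at h4
  have h5 := hd i (left_ne_zero_of_mul h1)
  have h6 := right_ne_zero_of_mul h1
  refine ⟨?_, fun e => by linarith [g2 e]⟩
  rcases lt_trichotomy (c i) 0 with e | e | e
  · rcases (by omega : c i = -1 ∨ c i = -2) with e | e
    · refine g3 e ?_
      by_contra e'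
      have := dv_small h5 (by omega)
      have h7 : ∀ D < 80, D ∣ 128000 → D % 9 = 8 → D = 8 := by decide +kernel
      have := h7 _ (by omega) this (by omega)
      omega
    · linarith [g4 e (by omega)]
  · simp [e] at h1
  · linarith [g1 e]

theorem pair {φ A B : ι} (hφ : φ ≠ o) (hA : A ≠ o) (hB : B ≠ o) (h1 : φ ≠ A) (h2 : φ ≠ B) (h3 : A ≠ B)
    (hc : c φ = -1) (hD : D φ = 125) (hA1 : 0 < c A) (hB1 : c B * (D B + 8 * c B) ≠ 0)
    (hs : c A * (D A + 8 * c A) + c B * (D B + 8 * c B) = 180) :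
    c A = 1 ∧ c B = 1 ∧ (D A = 64 ∧ D B = 100 ∨ D A = 100 ∧ D B = 64) := by
  obtain ⟨m, hm⟩ := h.m A
  obtain ⟨m', hm'⟩ := h.m B
  obtain ⟨-, -, g1, -, -, -, -, -, a2⟩ := gn_facts (h.sq_le hA) (h.two A hA) hm
  obtain ⟨-, -, -, -, -, -, g2, b1, b2⟩ := gn_facts (h.sq_le hB) (h.two B hB) hm'
  have a3 := (h.nt hd hρ hA (mul_pos hA1 (by omega)).ne').2
  have b3 := (h.nt hd hρ hB hB1).2
  have h4 := h.sum_gn_le (s := {φ, A, B}) (by simp [hφ.symm, hA.symm, hB.symm])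
  rw [Finset.sum_insert (by simp [h1, h2]), Finset.sum_pair h3, hc, hD] at h4
  have h5 : gn (-1) 125 = 117 / 1000 := by norm_num [gn]
  have dA := hd A hA1.ne'
  have dB := hd B (left_ne_zero_of_mul hB1)
  have b4 := left_ne_zero_of_mul hB1
  have b5 := right_ne_zero_of_mul hB1
  have eA : c A = 1 := by omega
  rw [eA] at hs hm
  rcases (by omega : c B = 1 ∨ c B = -1 ∨ c B = -2) with e | e | e <;> rw [e] at hs hm' b5
  · refine ⟨eA, e, ?_⟩
    have h7 : ∀ D < 165, D ∣ 128000 → 164 - D ∣ 128000 → D % 9 = 1 → D = 64 ∨ D = 100 := by decide +kernel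
    have := h7 _ (by omega) (dv_small dA (by omega)) (by
      rw [show 164 - D A = D B by omega]; exact dv_small dB (by omega)) (by omega)
    omega
  · exfalso
    have h6 : D B ≤ 500 := by
      by_cases e : 8 ∣ D B
      · have := dv_le dA (by omega)
        omega
      · exact dv_le dB e
    have h7 : ∀ D < 501, D ∣ 128000 → D + 164 ∣ 128000 → D % 9 ≠ 8 := by decide +kernel
    exact h7 _ (by omega) (dv_small dB (by omega)) (by
      rw [show D B + 164 = D A by omega]; exact dv_small dA (by omega)) (by omega)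
  · exfalso
    have h6 : D B < 34 := by
      by_contra e'
      linarith [g2 e (by omega), g1 hA1]
    have := dv_small dA (by omega)
    rw [show D A = 190 by omega] at this
    omega

theorem shape {φ : ι} (hφ : φ ≠ o) (hc : c φ = -1) (hD : D φ = 125) :
    ∃ μ, μ ≠ o ∧ μ ≠ φ ∧ c μ = 1 ∧ D μ = 100 ∧ ∀ i, i ≠ o → i ≠ φ → i ≠ μ → c i = 0 ∨ ∃ k, D i = 2 ^ k := by
  let S := (Finset.univ.erase o).filter fun i => c i * (D i + 8 * c i) ≠ 0
  have hS : ∀ i, i ∈ S ↔ i ≠ o ∧ c i * (D i + 8 * c i) ≠ 0 := fun i => by simp [S]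
  have h1 : φ ∈ S := (hS φ).2 ⟨hφ, by rw [hc, hD]; norm_num⟩
  have h2 : S.card ≤ 3 := by
    have h3 := h.sum_gn_le (s := S) fun e => ((hS o).1 e).1 rfl
    have h4 := Finset.card_nsmul_le_sum S (fun i => gn (c i) (D i)) (9 / 80) fun i hi =>
      (h.nt hd hρ ((hS i).1 hi).1 ((hS i).1 hi).2).1
    rw [nsmul_eq_mul] at h4
    have h5 : (S.card : ℚ) < 4 := by linarith
    have : S.card < 4 := by exact_mod_cast h5
    omega
  have h3 := h.sum_h
  rw [← Finset.sum_filter_ne_zero] at h3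
  change ∑ i ∈ S, _ = _ at h3
  rw [← Finset.add_sum_erase _ _ h1, hc, hD] at h3
  have h4 := Finset.card_erase_of_mem h1
  have tight : ∀ i, i ≠ o → i ∉ S → c i = 0 ∨ ∃ k, D i = 2 ^ k := fun i hi e => by
    have e1 : c i * (D i + 8 * c i) = 0 := by
      by_contra e1
      exact e ((hS i).2 ⟨hi, e1⟩)
    obtain ⟨m, hm⟩ := h.m i
    obtain ⟨-, -, -, -, -, -, -, a1, a2⟩ := gn_facts (h.sq_le hi) (h.two i hi) hm
    have := h.two i hi
    rcases mul_eq_zero.1 e1 with e | e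
    · exact Or.inl e
    · rcases (by omega : D i = 8 ∨ D i = 16) with e | e
      exacts [Or.inr ⟨3, e⟩, Or.inr ⟨4, e⟩]
  rcases (by omega : (S.erase φ).card = 0 ∨ (S.erase φ).card = 1 ∨ (S.erase φ).card = 2) with e | e | e
  · rw [Finset.card_eq_zero.1 e] at h3
    simp at h3
  · obtain ⟨A, hA⟩ := Finset.card_eq_one.1 e
    rw [hA, Finset.sum_singleton] at h3
    obtain ⟨a1, a2⟩ := (hS A).1 (Finset.mem_of_mem_erase (hA ▸ Finset.mem_singleton_self A))
    obtain ⟨m, hm⟩ := h.m A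
    obtain ⟨-, -, -, -, -, -, -, a3, a4⟩ := gn_facts (h.sq_le a1) (h.two A a1) hm
    have a5 := (h.nt hd hρ a1 a2).2
    have dA := hd A (left_ne_zero_of_mul a2)
    generalize c A = x at *
    have h5 : D A = 172 := by interval_cases x <;> omega
    have := dv_small dA (by omega)
    rw [h5] at this
    omega
  · obtain ⟨A, B, hAB, hA⟩ := Finset.card_eq_two.1 e
    rw [hA, Finset.sum_pair hAB] at h3
    have mA : A ∈ S.erase φ := by simp [hA]
    have mB : B ∈ S.erase φ := by simp [hA]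
    obtain ⟨a0, mA⟩ := Finset.mem_erase.1 mA
    obtain ⟨b0, mB⟩ := Finset.mem_erase.1 mB
    obtain ⟨a1, a2⟩ := (hS A).1 mA
    obtain ⟨b1, b2⟩ := (hS B).1 mB
    have fin : ∀ μ ν, S.erase φ = {μ, ν} → D ν = 64 → ∀ i, i ≠ o → i ≠ φ → i ≠ μ →
        c i = 0 ∨ ∃ k, D i = 2 ^ k := fun μ ν e hν i hi h5 h6 => by
      by_cases h7 : i ∈ S
      · have : i ∈ ({μ, ν} : Finset ι) := e ▸ Finset.mem_erase.2 ⟨h5, h7⟩
        rcases Finset.mem_insert.1 this with e | e
        · exact absurd e h6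
        · exact Or.inr ⟨6, by rw [Finset.mem_singleton.1 e, hν]; rfl⟩
      · exact tight i hi h7
    have key : c A = 1 ∧ c B = 1 ∧ (D A = 64 ∧ D B = 100 ∨ D A = 100 ∧ D B = 64) := by
      by_cases e : 0 < c A
      · exact h.pair hd hρ hφ a1 b1 a0.symm b0.symm hAB hc hD e b2 (by omega)
      · have e' : 0 < c B := by
          by_contra e'
          obtain ⟨m, hm⟩ := h.m A
          obtain ⟨m', hm'⟩ := h.m B
          have := mul_nonpos_of_nonpos_of_nonneg (not_lt.1 e) (by omega : 0 ≤ (D A : ℤ) + 8 * c A)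
          have := mul_nonpos_of_nonpos_of_nonneg (not_lt.1 e') (by omega : 0 ≤ (D B : ℤ) + 8 * c B)
          omega
        have := h.pair hd hρ hφ b1 a1 b0.symm a0.symm hAB.symm hc hD e' a2 (by omega)
        tauto
    obtain ⟨k1, k2, ⟨k3, k4⟩ | ⟨k3, k4⟩⟩ := key
    · exact ⟨B, b1, b0, k2, k4, fin B A (by rw [hA, Finset.pair_comm]) k3⟩
    · exact ⟨A, a1, a0, k1, k3, fin A B hA k4⟩

end W8

end Cfsg.Agent.Nine
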