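import Cfsg.Agent.Lib.Nine.I

/-! The numerical elimination for one class of elements of order three. -/

set_option autoImplicit false

namespace Cfsg.Agent.Nine

/-- bound check -/
def okV (q M N U : ℕ) : Bool :=
  Nat.ble (13 * (M * N)) (68 * (63 + 9 * (U + 35))) ||
  (M % 3 == 1 && (q == 5 || Nat.ble (M + 1) (3 * N)) && Nat.ble (13 * (M * N)) (68 * (63 + 9 * (U + 6 * (M - 1))))) ||
  (M / 2 % 3 == 1 && (q == 5 || Nat.ble (M / 2 + 1) (3 * N)) &&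
    Nat.ble (13 * (M * N)) (68 * (63 + 9 * (U + (3 * (M / 2 - 1) + 35)))))

/-- all necessary conditions -/
def okA (a b q : ℕ) : Bool :=
  Nat.blt (q ^ b) 6144 && 2 ^ a * q ^ b % 9 == 8 && q % 2 == 1 && Nat.ble 5 q &&
  (List.range b).any (fun j => q ^ (j + 1) % 9 == 1 || q ^ (j + 1) % 9 == 8) &&
  (((List.range (a + 1)).any (fun i => 9 * 2 ^ i % q == 1 && (b != 1 || (q - 1) % 2 ^ (a - i) == 0)) &&
      okV q (2 ^ a) (q ^ b) 0) ||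
    (q ^ b % 3 == 1 && Nat.ble (q ^ b + 1) (3 * 2 ^ a) && 3 * 2 ^ a % q == 1 &&
      okV q (2 ^ a) (q ^ b) (6 * (q ^ b - 1))) ||
    (q ^ b % 3 == 1 && Nat.ble (q ^ b + 1) (3 * 2 ^ a / 2) && 3 * 2 ^ a / 2 % q == 1 &&
      okV q (2 ^ a) (q ^ b) (3 * (q ^ b - 1))))

theorem okA_check : ((List.range 9).all fun a => (List.range 5).all fun b =>
    (List.range (if b = 0 then 6144 else 79)).all fun q =>
    !okA (a + 3) (b + 1) q || (q == 5 && b == 2) || (q == 17 && b == 1 && a == 0)) = true := by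
  decide +kernel

theorem okV_of {q M N U U' V : ℕ} (hU : U ≤ U')
    (hV : V ≤ 35 ∨ (V ≤ 6 * (M - 1) ∧ M % 3 = 1 ∧ (q ≠ 5 → M + 1 ≤ 3 * N)) ∨
      ∃ k, M = 2 * k ∧ V ≤ 3 * (k - 1) + 35 ∧ k % 3 = 1 ∧ (q ≠ 5 → k + 1 ≤ 3 * N))
    (hρ : 13 * (M * N) ≤ 68 * (63 + 9 * (U + V))) : okV q M N U' = true := by
  simp only [okV, Bool.or_eq_true, Bool.and_eq_true, Nat.ble_eq, beq_iff_eq]
  rcases hV with h | ⟨h1, h2, h3⟩ | ⟨k, rfl, h1, h2, h3⟩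
  · exact Or.inl (Or.inl (by omega))
  · exact Or.inl (Or.inr ⟨⟨h2, by omega⟩, by omega⟩)
  · rw [Nat.mul_div_cancel_left k (by norm_num)]
    exact Or.inr ⟨⟨h2, by omega⟩, by omega⟩

theorem num8 {q a b j n U V : ℕ} (hq : q.Prime) (hq2 : q ≠ 2) (hq3 : q ≠ 3) (ha : 3 ≤ a) (hj1 : 1 ≤ j)
    (hjb : j ≤ b) (hj : q ^ j % 9 = 1 ∨ q ^ j % 9 = 8) (hmod : 2 ^ a * q ^ b % 9 = 8) (hn : n % q = 1)
    (hnd : n ∣ 9 * 2 ^ a) (hm : b = 1 → ∃ m, m ∣ q - 1 ∧ n * m = 9 * 2 ^ a) (hf : q ^ b ∣ n.factorial)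
    (hU : (U = 0 ∧ 9 ∣ n) ∨ (q ^ b % 3 = 1 ∧ q ^ b + 1 ≤ n ∧ ((U ≤ 6 * (q ^ b - 1) ∧ n = 3 * 2 ^ a) ∨
      (U ≤ 3 * (q ^ b - 1) ∧ 2 * n = 3 * 2 ^ a))))
    (hV : V ≤ 35 ∨ (V ≤ 6 * (2 ^ a - 1) ∧ 2 ^ a % 3 = 1 ∧ (q ≠ 5 → 2 ^ a + 1 ≤ 3 * q ^ b)) ∨
      ∃ k, 2 ^ a = 2 * k ∧ V ≤ 3 * (k - 1) + 35 ∧ k % 3 = 1 ∧ (q ≠ 5 → k + 1 ≤ 3 * q ^ b))
    (hρ : 13 * (2 ^ a * q ^ b) ≤ 68 * (63 + 9 * (U + V))) :
    q = 5 ∧ b = 3 ∧ 6 ≤ a ∧ 7 + U + V ≤ 6 * 2 ^ a + 1 := by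
  have hM : 8 ≤ 2 ^ a := Nat.pow_le_pow_right (n := 2) (by norm_num) ha
  by_cases h0 : q = 5 ∧ b = 3
  · obtain ⟨rfl, rfl⟩ := h0
    have h1 : 6 ≤ a := by
      by_contra e
      interval_cases a <;> simp at hmod
    have hM : 64 ≤ 2 ^ a := Nat.pow_le_pow_right (n := 2) (by norm_num) h1
    refine ⟨rfl, rfl, h1, ?_⟩
    rcases hV with h | h | ⟨k, h⟩ <;> omega
  exfalso
  have hq5 : 5 ≤ q := hq.five_le_of_ne_two_of_ne_three hq2 hq3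
  have hN : q ≤ q ^ b := Nat.le_self_pow (by omega) q
  have h5 : q = 5 → 625 ≤ q ^ b := by
    rintro rfl
    have h1 : 3 ≤ j := by
      by_contra e
      interval_cases j <;> simp at hj
    exact Nat.pow_le_pow_right (n := 5) (by norm_num) (by omega : 4 ≤ b)
  have hU' : U = 0 ∨ (U ≤ 6 * q ^ b ∧ q ^ b < 3 * 2 ^ a) := by clear hV; omega
  have hV' : V ≤ 35 ∨ (V ≤ 6 * 2 ^ a + 35 ∧ (625 ≤ q ^ b ∨ 2 ^ a ≤ 6 * q ^ b)) := by
    rcases hV with h | h | ⟨k, h⟩ <;> omega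
  have ha' : a ≤ 11 := by
    by_contra e
    have hM : 4096 ≤ 2 ^ a := Nat.pow_le_pow_right (n := 2) (by norm_num) (by omega : 12 ≤ a)
    generalize 2 ^ a = M at *
    generalize q ^ b = N at *
    have k1 := Nat.mul_le_mul_right N hM
    rcases hV' with h | ⟨h, h'⟩
    · omega
    · have k2 := Nat.mul_le_mul_left M (by omega : 625 ≤ N)
      omega
  have hM' : 2 ^ a ≤ 2048 := Nat.pow_le_pow_right (n := 2) (by norm_num) ha'
  have hN' : q ^ b < 6144 := by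
    by_contra e
    generalize 2 ^ a = M at *
    generalize q ^ b = N at *
    have k2 := Nat.mul_le_mul_left M (not_lt.1 e)
    omega
  have hb : b ≤ 5 := by
    by_contra e
    have := Nat.pow_le_pow_left hq5 b
    have : 5 ^ 6 ≤ 5 ^ b := Nat.pow_le_pow_right (by norm_num) (by omega)
    omega
  have h9 : 9 ∣ n → ∃ i ≤ a, n = 9 * 2 ^ i := by
    rintro ⟨k, rfl⟩
    obtain ⟨i, hi, rfl⟩ := (Nat.dvd_prime_pow Nat.prime_two).1 (Nat.dvd_of_mul_dvd_mul_left (by norm_num) hnd)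
    exact ⟨i, hi, rfl⟩
  have hok : okA a b q = true := by
    simp only [okA, Bool.or_eq_true, Bool.and_eq_true, Nat.ble_eq, Nat.blt_eq, beq_iff_eq, List.any_eq_true,
      List.mem_range, bne_iff_ne]
    refine ⟨⟨⟨⟨⟨hN', hmod⟩, hq.eq_two_or_odd.resolve_left hq2⟩, hq5⟩, j - 1, by omega, by
      rwa [Nat.sub_add_cancel hj1]⟩, ?_⟩
    rcases hU with ⟨h1, h2⟩ | ⟨h1, h2, ⟨h3, rfl⟩ | ⟨h3, h4⟩⟩
    · obtain ⟨i, hi, rfl⟩ := h9 h2
      refine Or.inl (Or.inl ⟨⟨i, by omega, hn, ?_⟩, okV_of h1.le hV hρ⟩)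
      by_cases e : b = 1
      · obtain ⟨m, h3, h4⟩ := hm e
        obtain ⟨d, rfl⟩ := Nat.exists_eq_add_of_le hi
        rw [pow_add, ← mul_assoc] at h4
        rw [Nat.add_sub_cancel_left, ← Nat.eq_of_mul_eq_mul_left (by positivity) h4]
        exact Or.inr (Nat.mod_eq_zero_of_dvd h3)
      · exact Or.inl e
    · exact Or.inl (Or.inr ⟨⟨⟨h1, h2⟩, hn⟩, okV_of h3 hV hρ⟩)
    · rw [← h4, Nat.mul_div_cancel_left n (by norm_num)]
      exact Or.inr ⟨⟨⟨h1, h2⟩, hn⟩, okV_of h3 hV hρ⟩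
  have hc := okA_check
  simp only [List.all_eq_true, List.mem_range] at hc
  have := hc (a - 3) (by omega) (b - 1) (by omega) q (by
    split_ifs with e
    · exact hN.trans_lt hN'
    · by_contra e'
      have := Nat.pow_le_pow_left (not_lt.1 e') 2
      have := Nat.pow_le_pow_right hq.pos (show 2 ≤ b by clear hV h9 hU; omega)
      clear hV h9 hU; omega)
  rw [Nat.sub_add_cancel ha, Nat.sub_add_cancel (by omega), hok] at this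
  simp only [Bool.not_true, Bool.false_or, Bool.or_eq_true, Bool.and_eq_true, beq_iff_eq] at this
  obtain ⟨rfl, rfl, rfl⟩ : q = 17 ∧ b = 2 ∧ a = 3 := by clear hV h9 hU; omega
  obtain ⟨i, hi, rfl⟩ := h9 (by clear hV h9; omega)
  interval_cases i <;> revert hf hn <;> decide +kernel

end Cfsg.Agent.Nine
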