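import Cfsg.Agent.Lib.Nine.H
import Cfsg.Agent.Lib.Nine.J

/-! The case of one class of elements of order three does not occur. -/

set_option autoImplicit false
set_option linter.unusedSectionVars false

open Cfsg Cfsg.Agent.Char
open scoped ComplexConjugate Classical

namespace Cfsg.Agent.Nine

universe u

variable {G : Type u} [Group G]

theorem sylow_card [Finite G] {p m b : ℕ} [hp : Fact p.Prime] (hc : Nat.card G = m * p ^ b) (hm : ¬ p ∣ m)
    (P : Sylow p G) : Nat.card P = p ^ b ∧ (P : Subgroup G).index = m := by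
  have hm0 : m ≠ 0 := fun e => hm (e ▸ dvd_zero p)
  have h1 : Nat.card P = p ^ b := by
    rw [Sylow.card_eq_multiplicity, hc, Nat.factorization_mul hm0 (pow_ne_zero _ hp.out.ne_zero),
      hp.out.factorization_pow]
    simp [Nat.factorization_eq_zero_of_not_dvd hm]
  refine ⟨h1, ?_⟩
  have := (P : Subgroup G).index_mul_card
  rw [hc, h1] at this
  exact Nat.eq_of_mul_eq_mul_right (pow_pos hp.out.pos b) this

theorem toPerm_injective [IsSimpleGroup G] {H : Subgroup G} (hH : H ≠ ⊤) :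
    Function.Injective (MulAction.toPermHom G (G ⧸ H)) := by
  rw [← MonoidHom.ker_eq_bot_iff, ← Subgroup.normalCore_eq_ker]
  exact (IsSimpleGroup.eq_bot_or_eq_top_of_normal _ inferInstance).resolve_right fun e =>
    hH (top_le_iff.1 (e ▸ H.normalCore_le))

theorem card_dvd_factorial [Finite G] [IsSimpleGroup G] {H : Subgroup G} (hH : H ≠ ⊤) :
    Nat.card G ∣ H.index.factorial := by
  have := Subgroup.card_dvd_of_injective _ (toPerm_injective hH)
  rwa [Nat.card_perm, ← Subgroup.index_eq_card] at this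

theorem not_dvd_nine {q a : ℕ} (hq : q.Prime) (hq2 : q ≠ 2) (hq3 : q ≠ 3) : ¬ q ∣ 9 * 2 ^ a := fun e => by
  rcases (Nat.Prime.dvd_mul hq).1 e with e | e
  · exact hq3 ((Nat.prime_dvd_prime_iff_eq hq Nat.prime_three).1 (hq.dvd_of_dvd_pow (n := 2) e))
  · exact hq2 ((Nat.prime_dvd_prime_iff_eq hq Nat.prime_two).1 (hq.dvd_of_dvd_pow e))

theorem orderOf_eq_q [Finite G] {q a : ℕ} (hq : q.Prime) (hc : Nat.card G = 9 * 2 ^ a * q) {g : G}
    (h1 : q ∣ orderOf g) (h2 : ¬ 2 ∣ orderOf g) (h3 : ¬ 3 ∣ orderOf g) : orderOf g = q := by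
  refine Nat.dvd_antisymm (Nat.Coprime.dvd_of_dvd_mul_left (m := 9 * 2 ^ a) ?_ (hc ▸ orderOf_dvd_natCard g)) h1
  exact Nat.Coprime.mul_right (Nat.Coprime.pow_right 2 ((Nat.prime_three.coprime_iff_not_dvd.2 h3).symm))
    (Nat.Coprime.pow_right a ((Nat.prime_two.coprime_iff_not_dvd.2 h2).symm))

section
variable [Fintype G] [Fintype (IrrCharacter G)]

theorem exists_c {x : G} (hx : orderOf x = 3) (hr : IsConj x x⁻¹) (hC : Nat.card (Cz x) = 9) {n : ℕ}
    (hc : Nat.card G = 9 * n) : ∃ c : IrrCharacter G → ℤ, (∀ χ, χ.1 x = c χ) ∧ (∀ χ, (3 : ℤ) ∣ dg χ - c χ) ∧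
      c (triv G) = 1 ∧ ∑ χ, c χ ^ 2 = 9 ∧ ∑ χ, c χ * dg χ = 0 ∧ ∀ χ, c χ ≠ 0 → dg χ ∣ n := by
  choose c h1 h2 using fun χ : IrrCharacter G => exists_int_three χ (hx ▸ pow_orderOf_eq_one x) hr
  have h3 : c (triv G) = 1 := by exact_mod_cast (h1 (triv G)).symm.trans (triv_apply x)
  have h4 : ∑ χ, c χ ^ 2 = 9 := by
    have := second_orthogonality x x
    simp only [h1, if_pos (IsConj.refl x), hC, map_intCast, ← sq] at this
    exact_mod_cast this
  refine ⟨c, h1, h2, h3, h4, ?_, fun χ h => ?_⟩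
  · have := sum_degree_mul x
    simp only [h1, apply_one, regChar_of_ne (ne_one_of_orderOf Nat.prime_three hx), mul_comm (dg _ : ℂ)] at this
    exact_mod_cast this
  · by_cases e : χ = triv G
    · rw [e, dg_triv]; exact one_dvd n
    have h5 : c χ ^ 2 + c (triv G) ^ 2 ≤ 9 := h4 ▸ Finset.add_le_sum (f := fun χ => c χ ^ 2)
      (fun _ _ => sq_nonneg _) (Finset.mem_univ _) (Finset.mem_univ _) e
    rw [h3] at h5
    have h6 : -2 ≤ c χ := by nlinarith
    have h7 : c χ ≤ 2 := by nlinarith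
    have h8 := h2 χ
    exact Nat.Coprime.dvd_of_dvd_mul_left (m := 9) (Nat.Coprime.pow_right 2
      ((Nat.prime_three.coprime_iff_not_dvd.2 (by omega)).symm)) (hc ▸ dg_dvd χ)

theorem kill125 [IsSimpleGroup G] (hG : ¬ IsMulCommutative G) {a : ℕ} (ha : 6 ≤ a)
    (hc : Nat.card G = 9 * (2 ^ a * 5 ^ 3)) {x : G} (hx : orderOf x = 3) (hC : Nat.card (Cz x) = 9)
    {c : IrrCharacter G → ℤ} (h1 : ∀ χ, χ.1 x = c χ) (h0 : c (triv G) = 1) {φ μ : IrrCharacter G}
    (hφ : φ ≠ triv G) (hμ : μ ≠ triv G) (hne : μ ≠ φ) (c1 : c φ = -1) (d1 : dg φ = 125) (c2 : c μ = 1)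
    (d2 : dg μ = 100) (h2 : ∀ χ, χ ≠ triv G → χ ≠ φ → χ ≠ μ → c χ = 0 ∨ ∃ k, dg χ = 2 ^ k) : False := by
  obtain ⟨z, hz, hz'⟩ := exists_central_elt (G := G) Nat.prime_two (by
    rw [hc]; exact ((dvd_pow_self 2 (by omega)).mul_right _).mul_left _)
  have h3 : ∀ χ, χ ≠ triv G → χ ≠ φ → χ ≠ μ → c χ * χ.1 z = 0 := fun χ e1 e2 e3 => by
    rcases h2 χ e1 e2 e3 with e | ⟨k, e⟩
    · simp [e]
    · rw [burnside hG e1 (ne_one_of_orderOf Nat.prime_two hz)
        (e ▸ Nat.Coprime.pow_left k (Nat.prime_two.coprime_iff_not_dvd.2 hz')), mul_zero]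
  let η : G → ℂ := fun g => ∑ χ : IrrCharacter G, c χ * χ.1 g
  have h4 : ∀ g, η g ≠ 0 → IsConj g x := fun g hg => by
    by_contra e
    have := second_orthogonality g x
    simp only [if_neg e, h1, map_intCast, mul_comm _ (c _ : ℂ)] at this
    exact hg this
  obtain ⟨m, hm, -⟩ := exists_int_two μ (hz ▸ pow_orderOf_eq_one z)
  have h5 : φ.1 z = 1 + m := by
    have h6 : η z = 0 := by
      by_contra e
      have := orderOf_of_isConj (h4 z e)
      omega
    simp only [η] at h6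
    rw [sum_eq_three hφ hμ hne.symm h3, h0, c1, c2, hm, triv_apply] at h6
    push_cast at h6
    linear_combination -h6
  have h6 := integral_sum_pairs (η := η) (n := 2 ^ a * 5 ^ 3)
    (fun g k => Finset.sum_congr rfl fun χ _ => by rw [isClass_of_irr χ.2])
    (fun g => IsIntegral.sum _ fun χ _ => (isIntegral_algebraMap (x := c χ)).mul (isIntegral_char (ch χ) g))
    (fun g hg => by
      have := (Cz g).index_mul_card
      rw [card_Cz_conj (h4 g hg), hC, hc] at this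
      exact dvd_of_eq (by omega)) z z
  have h7 : ∑ k ∈ cl z, ∑ l ∈ cl z, η (k * l) =
      ∑ χ : IrrCharacter G, c χ * χ.1 z * ((cl z).card * (cl z).card * χ.1 z / dg χ) := by
    simp only [η]
    rw [Finset.sum_congr rfl fun k _ => Finset.sum_comm, Finset.sum_comm]
    refine Finset.sum_congr rfl fun χ _ => ?_
    simp only [← Finset.mul_sum]
    rw [sum_cl_cl_irr]; ring
  rw [h7, sum_eq_three hφ hμ hne.symm (fun χ e1 e2 e3 => by rw [h3 χ e1 e2 e3, zero_mul]), h0, c1, c2, hm, h5,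
    d1, d2, dg_triv, triv_apply] at h6
  have h8 := dvd_of_isIntegral_div (a := (cl z).card ^ 2 * ((m - 4) ^ 2 + 480)) (b := 2 ^ a * 62500)
    (by positivity) (by convert h6 using 1; push_cast; field_simp; ring)
  have h9 : (2 : ℤ) ^ 6 ∣ (m - 4) ^ 2 + 480 := by
    refine IsCoprime.dvd_of_dvd_mul_left (IsCoprime.pow ?_) (((pow_dvd_pow 2 ha).mul_right _).trans h8)
    rw [card_cl]
    exact_mod_cast Nat.isCoprime_iff_coprime.2 (Nat.prime_two.coprime_iff_not_dvd.2 hz')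
  obtain ⟨s, r, hr0, hr, e⟩ : ∃ s r : ℤ, 0 ≤ r ∧ r < 8 ∧ m - 4 = 8 * s + r :=
    ⟨(m - 4) / 8, (m - 4) % 8, by omega, by omega, by omega⟩
  rw [e, show (8 * s + r) ^ 2 = 64 * s ^ 2 + 16 * r * s + r ^ 2 by ring] at h9
  interval_cases r <;> omega

end

theorem case8 [Fintype G] [IsSimpleGroup G] (hG : ¬ IsMulCommutative G) {R : Subgroup G} (h : SC R) {q a b : ℕ}
    (hq : q.Prime) (hq2 : q ≠ 2) (hq3 : q ≠ 3) (hc : Nat.card G = 9 * 2 ^ a * q ^ b) {x : G} (hx : x ∈ Rs R)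
    (he : (cR R x).card = 8) : False := by
  have := Fintype.ofFinite (IrrCharacter G)
  have : Fact q.Prime := ⟨hq⟩
  have h9 := h.h9 hx (by omega)
  obtain ⟨hxR, hx1⟩ := mem_Rs.1 hx
  have hx3 := h9.orderOf_eq (h.three_dvd hxR hx1)
  have hC := h9.card x hx3
  have hcR : cR R x = Rs R := Finset.eq_of_subset_of_card_le (cR_sub hx1) (by rw [he, h.card_Rs])
  have hcl : ∀ g : G, orderOf g = 3 → IsConj x g := fun g hg => by
    obtain ⟨k, hk, e⟩ := h.conj' (hg ▸ dvd_rfl : 3 ∣ orderOf g)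
    exact (mem_cR.1 (hcR ▸ hk)).1.trans e
  obtain ⟨c, c1, -, c3, c4, c5, c6⟩ := exists_c hx3 (h.inv_conj hx (by omega) hxR) hC (mul_assoc 9 _ _ ▸ hc)
  have hW : W8 c dg (triv G) := ⟨c3, dg_triv, fun χ e => two_le_dg hG e, fun χ => by
    obtain ⟨m, hm⟩ := h.exists_sum χ
    rw [Finset.sum_congr rfl (g := fun _ => (c χ : ℂ)) fun k hk => by
      rw [← c1, ← conj_eq χ (mem_cR.1 (hcR.symm ▸ hk : k ∈ cR R x)).1], Finset.sum_const, h.card_Rs, nsmul_eq_mul] at hm
    exact ⟨m, by exact_mod_cast hm⟩, c4, c5⟩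
  have hN : (cl x).card = 2 ^ a * q ^ b := by
    have := card_cl_mul x
    rw [hC, hc] at this
    linarith
  have hmod : 2 ^ a * q ^ b % 9 = 8 := by
    have h1 := h.cl_mod x
    have h2 : (cR R x).card ≤ (cl x).card := Finset.card_filter_le _ _
    rw [hN, he] at h1 h2
    omega
  have ha : 3 ≤ a := by
    have h1 := Subgroup.card_subgroup_dvd_card (Nm R)
    rw [← h.card_cR hx, he, hc, mul_comm, mul_assoc] at h1
    have h2 : 2 ^ 3 ∣ 2 ^ a := Nat.Coprime.dvd_of_dvd_mul_right (Nat.Coprime.pow 3 b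
      ((Nat.coprime_primes Nat.prime_two hq).2 hq2.symm)) (Nat.dvd_of_mul_dvd_mul_left (by norm_num) h1)
    exact (Nat.pow_dvd_pow_iff_le_right (by norm_num)).1 h2
  obtain ⟨φ, hφ, f1, f2⟩ := hW.exists_odd
  obtain ⟨j, hjb, hj⟩ : ∃ j ≤ b, dg φ = q ^ j := by
    obtain ⟨i, -, j, hj, e⟩ := eq_pow_mul_pow hq (c6 φ (by omega))
    rcases i with _ | i
    · exact ⟨j, hj, by simpa using e⟩
    · rw [e, pow_succ, mul_right_comm] at f2
      omega
  have hj1 : 1 ≤ j := by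
    have := two_le_dg hG hφ
    rcases j with _ | j
    · simp [hj] at this
    · omega
  have hj9 : c φ = 1 ∧ q ^ j % 9 = 1 ∨ c φ = -1 ∧ q ^ j % 9 = 8 := by
    obtain ⟨m, hm⟩ := hW.m φ
    omega
  have hF : ∀ (Q : Subgroup G) (t : G), Nat.card Q = q ^ b → t ∈ Subgroup.centralizer (Q : Set G) →
      t ^ 2 = 1 → t = 1 := fun Q t h1 h2 h3 => by
    by_contra e
    obtain ⟨u, hu, hu'⟩ := exists_int_two φ h3
    have h4 : q ^ b ∣ Nat.card (Cz t) := h1 ▸ Subgroup.card_dvd_of_le fun y hy => mem_Cz.2 (h2 y hy)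
    have h5 : (Cz t).index ∣ 9 * 2 ^ a := Nat.dvd_of_mul_dvd_mul_right (pow_pos hq.pos b)
      (hc ▸ (Cz t).index_mul_card ▸ Nat.mul_dvd_mul_left _ h4)
    rw [burnside hG hφ e (hj ▸ Nat.Coprime.pow_left j (hq.coprime_iff_not_dvd.2 fun e =>
      not_dvd_nine hq hq2 hq3 (e.trans h5)))] at hu
    have : u = 0 := by exact_mod_cast hu.symm
    omega
  obtain ⟨U, V, n, hn, hT, hU, hV⟩ := h9.tri_bound hq hq2 hq3 hc hx3 hF ha (by omega) hcl
  have hρ : (((cl x).filter fun l => IsConj x (x * l)).card : ℚ) * 9 =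
      (2 ^ a * q ^ b : ℕ) * ∑ χ, (c χ : ℚ) ^ 3 / dg χ := by
    have := count_eq x x x
    simp only [hC, hN, c1, map_intCast, ← pow_three'] at this
    exact_mod_cast this
  have hT' : (((cl x).filter fun l => IsConj x (x * l)).card : ℚ) ≤ (7 + U + V : ℕ) := by exact_mod_cast hT
  obtain ⟨Q⟩ : Nonempty (Sylow q G) := inferInstance
  obtain ⟨rfl, rfl, ha6, hb⟩ := num8 hq hq2 hq3 ha hj1 hjb (hj9.imp And.right And.right) hmod
    (by rw [hn, card_sylow_modEq_one q G, Nat.mod_eq_of_lt hq.one_lt])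
    (by rw [hn, ← (sylow_card hc (not_dvd_nine hq hq2 hq3) Q).2]; exact Q.card_dvd_index)
    (by
      rintro rfl
      rw [pow_one] at hc hF
      obtain ⟨-, -, m, h1, -, h2⟩ := exists_m hc (not_dvd_nine hq hq2 hq3) (fun g hg =>
        orderOf_eq_q hq hc hg (fun e => by
          obtain ⟨i, hi⟩ := exists_pow_orderOf hg
          obtain ⟨k, hk⟩ := exists_pow_orderOf e
          refine ne_one_of_orderOf Nat.prime_two hk (hF (Subgroup.zpowers (g ^ i)) _
            (by rw [Nat.card_zpowers, hi]) ?_ (hk ▸ pow_orderOf_eq_one _))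
          rintro _ ⟨s, rfl⟩
          exact ((Commute.pow_pow_self g i k).zpow_left s).eq)
        fun e => hq3 ((Nat.prime_dvd_prime_iff_eq hq Nat.prime_three).1 (h9.orderOf_eq e ▸ hg))) Q
      exact ⟨m, h1, hn ▸ h2⟩)
    (by
      rw [hn, Q.card_eq_index_normalizer]
      refine ((dvd_mul_left _ _).trans hc.symm.dvd).trans (card_dvd_factorial fun e => ?_)
      rw [Q.card_eq_index_normalizer, e, Subgroup.index_top] at hn
      have := pow_pos hq.pos b
      clear hV; omega) hU hV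
    (by
      have h1 := hW.rho_ge hq c6
      have h2 : (0 : ℚ) ≤ (2 ^ a * q ^ b : ℕ) := by positivity
      have h3 : (13 : ℚ) * (2 ^ a * q ^ b : ℕ) ≤ 68 * (63 + 9 * (U + V)) := by
        push_cast at hT'
        nlinarith
      exact_mod_cast h3)
  have hM : 64 ≤ 2 ^ a := Nat.pow_le_pow_right (n := 2) (by norm_num) ha6
  have h1 : ∑ χ, (c χ : ℚ) ^ 3 / dg χ ≤ 4332 / 10000 := by
    have h2 : ((7 + U + V : ℕ) : ℚ) ≤ (6 * 2 ^ a + 1 : ℕ) := by exact_mod_cast hb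
    have h3 : (64 : ℚ) ≤ 2 ^ a := by exact_mod_cast hM
    push_cast at hρ h2 hT'
    nlinarith
  obtain ⟨f3, f4⟩ : c φ = -1 ∧ dg φ = 125 := by
    rw [hj]
    clear hV
    interval_cases j <;> omega
  obtain ⟨μ, m1, m2, m3, m4, m5⟩ := hW.shape c6 h1 hφ f3 f4
  exact kill125 hG ha6 (mul_assoc 9 _ _ ▸ hc) hx3 hC c1 c3 hφ m1 m2 f3 f4 m3 m4 m5

end Cfsg.Agent.Nine
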