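import Cfsg.Agent.Lib.Nine.K
import Cfsg.Agent.Lib.Alt.Carmichael

/-! The group `(2,3,5)` and the simple group of order 360. -/

set_option autoImplicit false
set_option linter.unusedSectionVars false

open Cfsg Cfsg.Agent.Char
open scoped ComplexConjugate Classical

namespace Cfsg.Agent.Nine

universe u

variable {G : Type u} [Group G]

theorem ico_orbit {X : Type*} [MulAction G X] {a c : G} (ha : a * a = 1) (hc : c ^ 5 = 1) (hac : (a * c) ^ 3 = 1)
    {v : X} (hv : c • v = v) : ∃ S : Finset X, S.card ≤ 12 ∧ ∀ g ∈ Subgroup.closure {a, c}, g • v ∈ S := by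
  have h1 : ∀ p : X, a • a • p = p := fun p => by rw [← mul_smul, ha, one_smul]
  have h5 : ∀ p : X, c • c • c • c • c • p = p := fun p => by
    simp only [← mul_smul]
    rw [show c * (c * (c * (c * c))) = c ^ 5 by simp only [pow_succ, pow_zero, one_mul, mul_assoc], hc, one_smul]
  have h3 : ∀ p : X, a • c • a • c • a • c • p = p := fun p => by
    simp only [← mul_smul]
    rw [show a * (c * (a * (c * (a * c)))) = (a * c) ^ 3 by simp only [pow_succ, pow_zero, one_mul, mul_assoc],
      hac, one_smul]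
  have i2 : ∀ p : X, a • c • c • c • c • a • p = c • a • c • p := fun p => by
    nth_rewrite 1 [← h3 p]
    rw [h1, h5, h1]
  have i1 : ∀ p : X, a • c • a • p = c • c • c • c • a • c • c • c • c • p := fun p => by
    have := h3 (c • c • c • c • a • c • c • c • c • p)
    rwa [h5, h1, h5] at this
  have i3 : ∀ p : X, a • c • c • c • a • p = c • a • c • c • a • c • p := fun p => by
    have := i2 (a • c • c • c • c • a • p)
    rwa [h1, h5, i2] at this
  have i4 : c • a • c • c • c • a • c • c • a • v = a • c • c • c • a • c • c • a • v := by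
    nth_rewrite 2 [i3]
    rw [i3 v, hv]
  have i5 : a • c • c • a • c • c • a • v = c • c • c • c • a • c • c • a • v := by
    rw [← h1 (c • c • c • c • a • c • c • a • v), i2, i3, hv]
  let l : List X := [v, a • v, c • a • v, c • c • a • v, c • c • c • a • v, c • c • c • c • a • v,
    a • c • c • a • v, c • a • c • c • a • v, c • c • a • c • c • a • v, c • c • c • a • c • c • a • v,
    c • c • c • c • a • c • c • a • v, a • c • c • c • a • c • c • a • v]
  have k1 : ∀ p ∈ l, a • p ∈ l := by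
    simp only [l, List.forall_mem_cons, List.not_mem_nil, false_imp_iff, implies_true, and_true]
    refine ⟨?_, ?_, ?_, ?_, ?_, ?_, ?_, ?_, ?_, ?_, ?_, ?_⟩
    · simp
    · simp [h1]
    · simp [i1, hv]
    · simp
    · rw [i3 v, hv]; simp
    · simp [i2, hv]
    · simp [h1]
    · rw [i1, h5, i1, h5]; simp [hv]
    · simp [i5]
    · simp
    · rw [i2, i3 v, hv]; simp
    · simp [h1]
  have k2 : ∀ p ∈ l, c • p ∈ l := by
    simp only [l, List.forall_mem_cons, List.not_mem_nil, false_imp_iff, implies_true, and_true]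
    simp [hv, h5, i4]
  refine ⟨l.toFinset, l.toFinset_card_le, fun g hg => List.mem_toFinset.2 ?_⟩
  induction hg using Subgroup.closure_induction_left with
  | one => simp [l]
  | mul_left x hx y _ ih =>
    rw [mul_smul]
    rcases hx with rfl | rfl
    exacts [k1 _ ih, k2 _ ih]
  | inv_mul_cancel x hx y _ ih =>
    rw [mul_smul]
    rcases hx with rfl | rfl
    · rw [inv_eq_of_mul_eq_one_left ha]; exact k1 _ ih
    · rw [← h5 (y • v), inv_smul_smul]; exact k2 _ (k2 _ (k2 _ (k2 _ ih)))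

theorem card_sixty [Finite G] {a c : G} (ha : orderOf a = 2) (hc : orderOf c = 5) (hac : orderOf (a * c) = 3) :
    Nat.card (Subgroup.closure {a, c}) = 60 := by
  set K := Subgroup.closure {a, c}
  have ha' : a ∈ K := Subgroup.subset_closure (by simp)
  have hc' : c ∈ K := Subgroup.subset_closure (by simp)
  have h2 : a * a = 1 := by rw [← sq, ← ha, pow_orderOf_eq_one]
  obtain ⟨S, hS, h⟩ := ico_orbit (X := G ⧸ Subgroup.zpowers c) h2 (hc ▸ pow_orderOf_eq_one c)
    (hac ▸ pow_orderOf_eq_one _) (v := ((1 : G) : G ⧸ Subgroup.zpowers c))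
    (QuotientGroup.eq.2 (by simp))
  have h3 := (Alt.card_le_of_cosets (Subgroup.zpowers c) K (S.image Quotient.out) fun g hg =>
    ⟨_, Finset.mem_image_of_mem _ (h g hg), QuotientGroup.eq.1 (by simp)⟩).2
  have h4 := Finset.card_image_le (s := S) (f := Quotient.out)
  rw [Nat.card_zpowers, hc] at h3
  have d2 := ha ▸ Subgroup.orderOf_dvd_natCard K ha'
  have d5 := hc ▸ Subgroup.orderOf_dvd_natCard K hc'
  have d3 := hac ▸ Subgroup.orderOf_dvd_natCard K (mul_mem ha' hc')
  have h5 : 0 < Nat.card K := Nat.card_pos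
  have h6 : Nat.card K ≠ 30 := fun e => by
    have := Fintype.ofFinite K
    let s : K →* ℤˣ := Equiv.Perm.sign.comp (MulAction.toPermHom K K)
    have odd : ∀ (g : K) (n : ℕ), (g : G) ^ (2 * n + 1) = 1 → s g = 1 := fun g n hg => by
      have := congrArg s (show g ^ (2 * n + 1) = 1 from Subtype.ext hg)
      rwa [map_pow, map_one, pow_succ, pow_mul, Int.units_sq, one_pow, one_mul] at this
    have e1 := odd ⟨c, hc'⟩ 2 (show c ^ 5 = 1 from hc ▸ pow_orderOf_eq_one c)
    have e2 := odd (⟨a, ha'⟩ * ⟨c, hc'⟩) 1 (show (a * c) ^ 3 = 1 from hac ▸ pow_orderOf_eq_one (a * c))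
    rw [map_mul, e1, mul_one] at e2
    have e3 := Equiv.Perm.sign_of_pow_two_eq_one (σ := MulAction.toPermHom K K ⟨a, ha'⟩) (by
      rw [← map_pow, show (⟨a, ha'⟩ : K) ^ 2 = 1 from Subtype.ext (by simpa [sq] using h2), map_one])
    rw [show Equiv.Perm.sign _ = 1 from e2, ← Nat.card_eq_fintype_card, e, Fintype.card_eq_zero_iff.2] at e3
    · exact absurd e3 (by decide)
    · refine ⟨fun ⟨x, hx⟩ => ne_one_of_orderOf Nat.prime_two ha ?_⟩
      have : (⟨a, ha'⟩ : K) * x = x := hx
      exact congrArg Subtype.val (mul_eq_right.1 this)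
  omega

theorem iso_A6 [Finite G] [IsSimpleGroup G] (h : Nat.card G = 360) {a c : G} (ha : orderOf a = 2)
    (hc : orderOf c = 5) (hac : orderOf (a * c) = 3) : Nonempty (G ≃* alternatingGroup (Fin 6)) := by
  set K := Subgroup.closure {a, c}
  have h1 : K.index = 6 := by
    have := K.index_mul_card
    rw [card_sixty ha hc hac, h] at this
    omega
  have h2 : K ≠ ⊤ := fun e => by simp [e] at h1
  let e : (G ⧸ K) ≃ Fin 6 := Finite.equivFinOfCardEq (K.index_eq_card ▸ h1)
  let f : G →* Equiv.Perm (Fin 6) := e.permCongrHom.toMonoidHom.comp (MulAction.toPermHom G (G ⧸ K))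
  have hf : Function.Injective f := e.permCongrHom.injective.comp (toPerm_injective h2)
  have h3 : f.range.index = 2 := by
    have := f.range.index_mul_card
    rw [← Nat.card_congr (MonoidHom.ofInjective hf).toEquiv, h, Nat.card_perm, Nat.card_fin,
      show Nat.factorial 6 = 720 from rfl] at this
    omega
  exact ⟨(MonoidHom.ofInjective hf).trans (MulEquiv.subgroupCongr
    (Equiv.Perm.eq_alternatingGroup_of_index_eq_two h3))⟩

theorem rho4_aux {ι : Type*} [Fintype ι] {α β : ι → ℤ} {D : ι → ℕ} {o A B : ι} (a0 : α o = 1) (b0 : β o = 1)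
    (d0 : D o = 1) (hA : A ≠ o) (hB : B ≠ o) (hAB : A ≠ B) (two : 2 ≤ D A) (hd : D B = D A)
    (hm : ∀ i, ∃ m : ℕ, (D i : ℤ) + 4 * α i + 4 * β i = 9 * m) (s1 : ∑ i, α i ^ 2 = 9) (s2 : ∑ i, β i ^ 2 = 9)
    (e1 : α A = β A + 3) (e2 : β B = α B + 3) (e3 : ∀ i, i ≠ A → i ≠ B → β i = α i) :
    9 / 40 ≤ ∑ i, (α i : ℚ) * α i * β i / D i := by
  have split : ∀ {M : Type} [AddCommMonoid M] (f : ι → M), ∑ i, f i =
      f o + (f A + (f B + ∑ i ∈ ((Finset.univ.erase o).erase A).erase B, f i)) := fun f => by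
    rw [Finset.add_sum_erase _ _ (by simp [hB, hAB.symm]), Finset.add_sum_erase _ _ (by simp [hA]),
      Finset.add_sum_erase _ _ (Finset.mem_univ _)]
  set s := ((Finset.univ.erase o).erase A).erase B
  have hs : ∀ i ∈ s, β i = α i := fun i hi => by
    simp only [s, Finset.mem_erase] at hi
    exact e3 i hi.2.1 hi.1
  rw [split] at s1 s2 ⊢
  rw [Finset.sum_congr rfl fun i hi => by rw [hs i hi]] at s2
  have h0 : 0 ≤ ∑ i ∈ s, α i ^ 2 := Finset.sum_nonneg fun _ _ => sq_nonneg _
  have h1 : -((∑ i ∈ s, α i ^ 2 : ℤ) : ℚ) / 8 ≤ ∑ i ∈ s, (α i : ℚ) * α i * β i / D i := by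
    push_cast
    rw [← Finset.sum_neg_distrib, Finset.sum_div]
    refine Finset.sum_le_sum fun i hi => ?_
    obtain ⟨m, hm⟩ := hm i
    rw [hs i hi] at hm ⊢
    have h2 : (0 : ℚ) ≤ D i + 8 * α i := by exact_mod_cast (by omega : (0 : ℤ) ≤ D i + 8 * α i)
    rcases Nat.eq_zero_or_pos (D i) with e | e
    · simp only [e, Nat.cast_zero, div_zero]
      linarith [sq_nonneg (α i : ℚ)]
    · rw [div_le_div_iff₀ (by norm_num) (by exact_mod_cast e)]
      nlinarith [mul_nonneg (sq_nonneg (α i : ℚ)) h2]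
  obtain ⟨m, hm⟩ := hm A
  rw [a0, e1] at s1
  rw [b0, e2] at s2
  rw [a0, b0, d0, e1, e2, hd]
  rw [e1] at hm
  have h3 : α B = β A := by nlinarith
  rw [h3] at s1 ⊢
  generalize β A = t at *
  have h4 : -3 < t := by nlinarith
  have h5 : t < 0 := by nlinarith
  have h6 : (0 : ℚ) < D A := by exact_mod_cast (by omega : 0 < D A)
  rw [show ∑ i ∈ s, α i ^ 2 = 3 by interval_cases t <;> omega] at h1
  interval_cases t
  · have : (0 : ℚ) ≤ 2 / D A := by positivity
    have : (-2 : ℚ) / D A + 4 / D A = 2 / D A := by ring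
    norm_num at *
    linarith
  · have : (2 : ℚ) / D A ≤ 2 / 5 :=
      div_le_div_of_nonneg_left (by norm_num) (by norm_num) (by exact_mod_cast (by omega : 5 ≤ D A))
    have : (-4 : ℚ) / D A + 2 / D A = -(2 / D A) := by ring
    norm_num at *
    linarith

theorem rho4 {ι : Type*} [Fintype ι] {α β : ι → ℤ} {D : ι → ℕ} {o : ι} (a0 : α o = 1) (b0 : β o = 1)
    (d0 : D o = 1) (two : ∀ i, i ≠ o → 2 ≤ D i) (ha : ∀ i, (3 : ℤ) ∣ D i - α i) (hb : ∀ i, (3 : ℤ) ∣ D i - β i)
    (hm : ∀ i, ∃ m : ℕ, (D i : ℤ) + 4 * α i + 4 * β i = 9 * m) (s1 : ∑ i, α i ^ 2 = 9) (s2 : ∑ i, β i ^ 2 = 9)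
    (s3 : ∑ i, α i * β i = 0) (s4 : ∑ i, α i * D i = 0) (s5 : ∑ i, β i * D i = 0) :
    9 / 40 ≤ ∑ i, (α i : ℚ) * α i * β i / D i := by
  choose f hf using fun i => (show (3 : ℤ) ∣ α i - β i by have := ha i; have := hb i; omega)
  have h1 : ∑ i, f i ^ 2 = 2 := by
    have : ∑ i, (α i ^ 2 + β i ^ 2 - 2 * (α i * β i)) = ∑ i, 9 * f i ^ 2 :=
      Finset.sum_congr rfl fun i _ => by linear_combination (α i - β i + 3 * f i) * hf i
    rw [Finset.sum_sub_distrib, Finset.sum_add_distrib, ← Finset.mul_sum, ← Finset.mul_sum, s1, s2, s3] at this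
    omega
  obtain ⟨A, -, B, -, hAB, hA, hB, h2⟩ := exists_two h1
  have h0 := hf o
  have hA0 : A ≠ o := fun e => by rw [e] at hA; omega
  have hB0 : B ≠ o := fun e => by rw [e] at hB; omega
  have h3 : f A * D A + f B * D B = 0 := by
    have : ∑ i, (α i * D i - β i * D i) = ∑ i, 3 * (f i * D i) :=
      Finset.sum_congr rfl fun i _ => by linear_combination (D i) * hf i
    rw [Finset.sum_sub_distrib, ← Finset.mul_sum, s4, s5, Finset.sum_eq_add A B hAB
      (fun i _ e => by rw [h2 i (Finset.mem_univ _) e.1 e.2, zero_mul]) (by simp) (by simp)] at this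
    omega
  have h4 : ∀ i, i ≠ A → i ≠ B → β i = α i := fun i e1 e2 => by
    have := hf i
    have := h2 i (Finset.mem_univ _) e1 e2
    omega
  have := hf A
  have := hf B
  have := two A hA0
  have := two B hB0
  rcases hA with hA | hA <;> rcases hB with hB | hB <;> rw [hA, hB] at h3
  · omega
  · exact rho4_aux a0 b0 d0 hA0 hB0 hAB (by omega) (by omega) hm s1 s2 (by omega) (by omega) h4
  · exact rho4_aux a0 b0 d0 hB0 hA0 hAB.symm (by omega) (by omega) hm s1 s2 (by omega) (by omega)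
      fun i e1 e2 => h4 i e2 e1
  · omega

end Cfsg.Agent.Nine
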