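import Cfsg.Agent.Lib.Nine.L

/-! The case of two classes of elements of order three. -/

set_option autoImplicit false
set_option linter.unusedSectionVars false

open Cfsg Cfsg.Agent.Char
open scoped ComplexConjugate Classical

namespace Cfsg.Agent.Nine

universe u

variable {G : Type u} [Group G]

theorem card_sylow_ne_one [Finite G] [IsSimpleGroup G] {p : ℕ} [Fact p.Prime] (P : Sylow p G)
    (h1 : Nat.card P ≠ 1) (h2 : Nat.card P ≠ Nat.card G) : Nat.card (Sylow p G) ≠ 1 := fun e => by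
  rw [P.card_eq_index_normalizer, Subgroup.index_eq_one] at e
  rcases IsSimpleGroup.eq_bot_or_eq_top_of_normal (P : Subgroup G) (Subgroup.normalizer_eq_top_iff.1 e) with e | e
  · exact h1 (by rw [e, Subgroup.card_bot])
  · exact h2 (by rw [e, Subgroup.card_top])

theorem case4 [Fintype G] [IsSimpleGroup G] (hG : ¬ IsMulCommutative G) {R : Subgroup G} (h : SC R) {n : ℕ}
    (hc : Nat.card G = 9 * n) {x : G} (hx : x ∈ Rs R) (he : (cR R x).card = 4) :
    Nonempty (G ≃* alternatingGroup (Fin 6)) := by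
  have := Fintype.ofFinite (IrrCharacter G)
  have h9 := h.h9 hx (by omega)
  obtain ⟨hxR, hx1⟩ := mem_Rs.1 hx
  have hx3 := h9.orderOf_eq (h.three_dvd hxR hx1)
  have hC := h9.card x hx3
  have hr := h.inv_conj hx (by omega) hxR
  obtain ⟨y, hy, hyx⟩ := Finset.exists_mem_notMem_of_card_lt_card (s := cR R x) (t := Rs R)
    (by rw [he, h.card_Rs]; norm_num)
  obtain ⟨hyR, hy1⟩ := mem_Rs.1 hy
  have hy3 := h9.orderOf_eq (h.three_dvd hyR hy1)
  have hxy : ¬ IsConj x y := fun e => hyx (mem_cR.2 ⟨e, hyR⟩)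
  have hd : Disjoint (cR R x) (cR R y) := Finset.disjoint_left.2 fun l h1 h2 =>
    hxy ((mem_cR.1 h1).1.trans (mem_cR.1 h2).1.symm)
  have hu : cR R x ∪ cR R y = Rs R := Finset.eq_of_subset_of_card_le
    (Finset.union_subset (cR_sub hx1) (cR_sub hy1))
    (by rw [Finset.card_union_of_disjoint hd, ← h.card_cR_eq hx hy, he, h.card_Rs])
  obtain ⟨α, a1, a2, a3, a4, a5, a6⟩ := exists_c hx3 hr hC hc
  obtain ⟨β, b1, b2, b3, b4, b5, -⟩ := exists_c hy3 (h.inv_conj hx (by omega) hyR) (h9.card y hy3) hc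
  have h1 := rho4 a3 b3 dg_triv (fun χ e => two_le_dg hG e) a2 b2 (fun χ => by
    obtain ⟨m, hm⟩ := h.exists_sum χ
    rw [← hu, Finset.sum_union hd, Finset.sum_congr rfl (g := fun _ => (α χ : ℂ)) fun k hk => by
      rw [← a1, ← conj_eq χ (mem_cR.1 hk).1], Finset.sum_congr (s₁ := cR R y) rfl (g := fun _ => (β χ : ℂ))
      fun k hk => by rw [← b1, ← conj_eq χ (mem_cR.1 hk).1], Finset.sum_const, Finset.sum_const,
      ← h.card_cR_eq hx hy, he, nsmul_eq_mul, nsmul_eq_mul, ← add_assoc] at hm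
    exact ⟨m, by exact_mod_cast hm⟩) a4 b4 (by
    have := second_orthogonality x y
    simp only [a1, b1, if_neg hxy, map_intCast] at this
    exact_mod_cast this) a5 b5
  have hN : (cl x).card = n := by
    have := card_cl_mul x
    rw [hC, hc] at this
    omega
  have h2 : (((cl x).filter fun l => IsConj y (x * l)).card : ℚ) * 9 =
      n * ∑ χ, (α χ : ℚ) * α χ * β χ / dg χ := by
    have := count_eq x x y
    simp only [h9.card y hy3, hN, a1, b1, map_intCast] at this
    exact_mod_cast this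
  have hx3' : x ^ 3 = 1 := hx3 ▸ pow_orderOf_eq_one x
  have h3 : ((cl x).filter fun l => IsConj y (x * l)) ⊆ ((cR R x).erase x).erase x⁻¹ := by
    intro l hl
    obtain ⟨l1, l2⟩ := Finset.mem_filter.1 hl
    rw [mem_cl] at l1
    refine Finset.mem_erase.2 ⟨?_, Finset.mem_erase.2 ⟨?_, mem_cR.2 ⟨l1, ?_⟩⟩⟩
    · rintro rfl
      exact hy1 (by simpa using l2)
    · rintro rfl
      exact hxy (hr.trans (inv_eq_sq hx3' ▸ l2.symm))
    · rcases h9.tri hx3 (l := l) (by rw [← hx3, orderOf_of_isConj l1, pow_orderOf_eq_one])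
        (by rw [← hy3, orderOf_of_isConj l2, pow_orderOf_eq_one]) with e | ⟨A, e1, e2, e3⟩
      · exact h.cent x hxR hx1 ▸ mem_Cz.2 e.eq.symm
      · have hf := h9.fpf hx3 e3 e2
        have := hf.inv.isConj (hf.nz' e1)
        rw [show x⁻¹ * (x⁻¹ * l) * x * x⁻¹ = x * l by rw [← mul_assoc x⁻¹, inv_sq hx3']; group] at this
        exact absurd (hr.trans (this.trans l2.symm)) hxy
  have h4 := Finset.card_le_card h3
  rw [Finset.card_erase_of_mem (Finset.mem_erase.2 ⟨fun e => hx1 (by
      have := inv_sq hx3'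
      rw [e] at this
      simpa using this), mem_cR.2 ⟨hr, inv_mem hxR⟩⟩),
    Finset.card_erase_of_mem (mem_cR.2 ⟨IsConj.refl x, hxR⟩), he] at h4
  have h5 : n ≤ 80 := by
    have h5 : (((cl x).filter fun l => IsConj y (x * l)).card : ℚ) ≤ 2 := by exact_mod_cast h4
    have h6 : (0 : ℚ) ≤ n := by positivity
    have : (n : ℚ) ≤ 80 := by nlinarith
    exact_mod_cast this
  have h6 := h.cl_mod x
  have h7 : (cR R x).card ≤ (cl x).card := Finset.card_filter_le _ _
  have h8 := Subgroup.card_subgroup_dvd_card (Nm R)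
  rw [← h.card_cR hx, he, hc] at h8
  rw [hN, he] at h6 h7
  rcases (by omega : n = 4 ∨ n = 76 ∨ n = 40) with rfl | rfl | rfl
  · have h10 := R.index_mul_card
    rw [h.card, hc] at h10
    have := card_dvd_factorial (H := R) fun e => by simp [e] at h10
    rw [hc, show R.index = 4 by omega] at this
    exact absurd this (by decide)
  · have : Fact (Nat.Prime 19) := ⟨by norm_num⟩
    obtain ⟨Q⟩ : Nonempty (Sylow 19 G) := inferInstance
    obtain ⟨q1, q2⟩ := sylow_card (m := 36) (b := 1) hc (by norm_num) Q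
    have q3 := card_sylow_ne_one Q (by omega) (by omega)
    have q4 := q2 ▸ Q.card_dvd_index
    have q5 : Nat.card (Sylow 19 G) % 19 = 1 := card_sylow_modEq_one 19 G
    have := Nat.le_of_dvd (by norm_num) q4
    rw [show Nat.card (Sylow 19 G) = 20 by omega] at q4
    omega
  obtain ⟨z, hz, hz'⟩ := exists_central_elt (G := G) Nat.prime_two (by omega)
  have : Fact (Nat.Prime 5) := ⟨Nat.prime_five⟩
  obtain ⟨w, hw⟩ := exists_prime_orderOf_dvd_card' (G := G) 5 (by omega)
  have h10 := count_eq z w x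
  rw [Finset.sum_eq_single (triv G) (fun χ _ e => by
    by_cases e1 : α χ = 0
    · simp [a1, e1]
    by_cases e2 : 5 ∣ dg χ
    · simp [zero_of_defect χ (k := 1) (m := 72) Nat.prime_five hc (by norm_num) (by simpa using e2) hw.symm.dvd]
    · obtain ⟨k, -, hk⟩ := (Nat.dvd_prime_pow Nat.prime_two (m := 3)).1 (Nat.Coprime.dvd_of_dvd_mul_left
        (Nat.prime_five.coprime_iff_not_dvd.2 e2).symm (a6 χ e1))
      simp [burnside hG e (ne_one_of_orderOf Nat.prime_two hz)
        (hk ▸ Nat.Coprime.pow_left k (Nat.prime_two.coprime_iff_not_dvd.2 hz'))]) (by simp)] at h10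
  obtain ⟨l, hl⟩ : ((cl w).filter fun l => IsConj x (z * l)).Nonempty := by
    rw [← Finset.card_pos, Nat.pos_iff_ne_zero]
    intro e
    rw [e] at h10
    simp only [dg_triv, triv_apply, Nat.cast_zero, zero_mul, map_one, mul_one, Nat.cast_one, div_one] at h10
    exact (card_cl_pos w).ne (by exact_mod_cast h10)
  obtain ⟨l1, l2⟩ := Finset.mem_filter.1 hl
  exact iso_A6 hc hz (c := l) (by rw [← orderOf_of_isConj (mem_cl.1 l1), hw]) (by rw [← orderOf_of_isConj l2, hx3])

end Cfsg.Agent.Nine
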