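import Cfsg.Agent.Lib.Nine.M

/-! Exceptional characters when the automizer has order two. -/

set_option autoImplicit false
set_option linter.unusedSectionVars false

open Cfsg Cfsg.Agent.Char
open scoped ComplexConjugate Classical

namespace Cfsg.Agent.Nine

universe u

theorem star_aux {Λ ι : Type*} [Group Λ] [Fintype Λ] (hΛ : Fintype.card Λ = 9) {o : ι} {γ : Λ → ι → ℤ} {s : ℤ}
    {C B : Λ → ι} (h0 : ∀ i, γ 1 i = 0) (hi : ∀ l : Λ, l ≠ 1 → l⁻¹ ≠ l)
    (h1 : ∀ l, l ≠ 1 → C l ≠ o ∧ B l ≠ o ∧ C l ≠ B l ∧ ∀ i, γ l i =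
      (if i = C l then s else 0) - (if i = B l then s else 0) - if i = o then 1 else 0)
    (h2 : ∀ l m, l ≠ 1 → m ≠ 1 → C l = C m) (h3 : ∀ l m, l ≠ 1 → m ≠ 1 → (B m = B l ↔ m = l ∨ m = l⁻¹)) :
    ∃ (χ : ι) (L : Finset ι), χ ≠ o ∧ o ∉ L ∧ χ ∉ L ∧ L.card = 4 ∧ (∀ ψ ∈ L, ∃ l, ∀ i, γ l i =
      (if i = χ then s else 0) - (if i = ψ then s else 0) - if i = o then 1 else 0) ∧
      ∑ l, γ l χ = 8 * s ∧ ∀ θ, θ ≠ o → θ ≠ χ → θ ∉ L → ∀ l, γ l θ = 0 := by
  have h8 : (Finset.univ.erase (1 : Λ)).card = 8 := by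
    rw [Finset.card_erase_of_mem (Finset.mem_univ _), Finset.card_univ, hΛ]
  obtain ⟨l0, hl0⟩ : (Finset.univ.erase (1 : Λ)).Nonempty := Finset.card_pos.1 (by omega)
  replace hl0 := (Finset.mem_erase.1 hl0).1
  have hL : ∀ ψ, ψ ∈ (Finset.univ.erase (1 : Λ)).image B ↔ ∃ l, l ≠ 1 ∧ B l = ψ := fun ψ => by simp
  refine ⟨C l0, (Finset.univ.erase 1).image B, (h1 l0 hl0).1, fun e => ?_, fun e => ?_, ?_, fun ψ e => ?_, ?_,
    fun θ e1 e2 e3 l => ?_⟩
  · obtain ⟨l, hl, e⟩ := (hL _).1 e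
    exact (h1 l hl).2.1 e
  · obtain ⟨l, hl, e⟩ := (hL _).1 e
    exact (h1 l hl).2.2.1 ((h2 l l0 hl hl0).trans e.symm)
  · rw [Finset.card_eq_sum_card_image B, Finset.sum_const_nat (m := 2)] at h8
    · omega
    intro ψ e
    obtain ⟨l, hl, rfl⟩ := (hL _).1 e
    rw [← Finset.card_pair (hi l hl).symm]
    congr 1
    ext m
    simp only [Finset.mem_filter, Finset.mem_erase, Finset.mem_univ, and_true, Finset.mem_insert,
      Finset.mem_singleton]
    exact ⟨fun e => (h3 l m hl e.1).1 e.2, fun e => by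
      have : m ≠ 1 := by rcases e with rfl | rfl <;> simpa using hl
      exact ⟨this, (h3 l m hl this).2 e⟩⟩
  · obtain ⟨l, hl, rfl⟩ := (hL _).1 e
    exact ⟨l, h2 l l0 hl hl0 ▸ (h1 l hl).2.2.2⟩
  · rw [← Finset.add_sum_erase _ _ (Finset.mem_univ 1), h0, zero_add, Finset.sum_congr rfl (g := fun _ => s),
      Finset.sum_const, h8]
    · simp
    intro l hl
    replace hl := (Finset.mem_erase.1 hl).1
    obtain ⟨a1, -, a2, a3⟩ := h1 l hl
    rw [a3, h2 l0 l hl0 hl]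
    simp [a1, a2]
  · by_cases hl : l = 1
    · rw [hl, h0]
    rw [(h1 l hl).2.2.2, if_neg e1, if_neg (h2 l l0 hl hl0 ▸ e2), if_neg fun e => e3 ((hL _).2 ⟨l, hl, e.symm⟩)]
    rfl

theorem ite_logic {p1 p2 p3 p4 p5 p6 : Prop} [Decidable p1] [Decidable p2] [Decidable p3] [Decidable p4]
    [Decidable p5] [Decidable p6] (h : (if p1 then 1 else 0) - (if p2 then 1 else 0) - (if p3 then 1 else 0) +
      (if p4 then 1 else 0) = (1 : ℤ) + (if p5 then 1 else 0) + if p6 then 1 else 0)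
    (h1 : p1 → ¬ p2 ∧ ¬ p3) (h2 : ¬ (p5 ∧ p6)) : (p1 ∨ p4) ∧ ((p1 ∧ p4) ↔ p5 ∨ p6) := by
  split_ifs at h <;> first | omega | tauto

theorem star_abs {Λ ι : Type*} [Group Λ] [Fintype Λ] [Fintype ι] (hΛ : Fintype.card Λ = 9) {o : ι}
    {γ : Λ → ι → ℤ} {D : ι → ℕ} (h0 : ∀ i, γ 1 i = 0) (hi : ∀ l : Λ, l ≠ 1 → l⁻¹ ≠ l) (ho : ∀ l, l ≠ 1 → γ l o = -1)
    (hD : ∀ i, 0 < D i) (hd : ∀ l, ∑ i, γ l i * D i = 0) (hDo : D o = 1)
    (hs : ∀ l m, l ≠ 1 → m ≠ 1 → ∑ i, γ l i * γ m i = 2 + (if m = l then 1 else 0) + if m = l⁻¹ then 1 else 0) :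
    ∃ (s : ℤ) (χ : ι) (L : Finset ι), (s = 1 ∨ s = -1) ∧ χ ≠ o ∧ o ∉ L ∧ χ ∉ L ∧ L.card = 4 ∧
      (∀ ψ ∈ L, ∃ l, ∀ i, γ l i = (if i = χ then s else 0) - (if i = ψ then s else 0) - if i = o then 1 else 0) ∧
      ∑ l, γ l χ = 8 * s ∧ ∀ θ, θ ≠ o → θ ≠ χ → θ ∉ L → ∀ l, γ l θ = 0 := by
  have h1 : ∀ l, ∃ A B, l ≠ 1 → A ≠ o ∧ B ≠ o ∧ A ≠ B ∧ ∀ i, γ l i =
      (if i = A then 1 else 0) - (if i = B then 1 else 0) - if i = o then 1 else 0 := fun l => by
    by_cases hl : l = 1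
    · exact ⟨o, o, fun e => absurd hl e⟩
    have h2 := hs l l hl hl
    rw [← Finset.add_sum_erase _ _ (Finset.mem_univ o), ho l hl, if_pos rfl, if_neg (hi l hl).symm] at h2
    obtain ⟨A, hA, B, hB, hAB, a1, b1, h3⟩ := exists_two (s := Finset.univ.erase o) (f := γ l)
      (by simp only [sq]; omega)
    replace hA := (Finset.mem_erase.1 hA).1
    replace hB := (Finset.mem_erase.1 hB).1
    have h4 : ∀ i, i ≠ o → i ≠ A → i ≠ B → γ l i = 0 := fun i e => h3 i (by simpa using e)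
    have h5 := hd l
    rw [sum_eq_three hA hB hAB fun i e1 e2 e3 => by rw [h4 i e1 e2 e3, zero_mul], ho l hl, hDo] at h5
    have key : ∀ A B, A ≠ o → B ≠ o → A ≠ B → γ l A = 1 → γ l B = -1 → (∀ i, i ≠ o → i ≠ A → i ≠ B → γ l i = 0) →
        ∀ i, γ l i = (if i = A then 1 else 0) - (if i = B then 1 else 0) - if i = o then 1 else 0 := by
      intro A B a b c d e f i
      by_cases e1 : i = o
      · simp [e1, ho l hl, a.symm, b.symm]
      by_cases e2 : i = A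
      · simp [e2, d, a, c]
      by_cases e3 : i = B
      · simp [e3, e, b, c.symm]
      simp [e1, e2, e3, f i e1 e2 e3]
    have := hD A
    have := hD B
    rcases a1 with a1 | a1 <;> rcases b1 with b1 | b1 <;> rw [a1, b1] at h5
    · omega
    · exact ⟨A, B, fun _ => ⟨hA, hB, hAB, key A B hA hB hAB a1 b1 h4⟩⟩
    · exact ⟨B, A, fun _ => ⟨hB, hA, hAB.symm, key B A hB hA hAB.symm b1 a1 fun i e1 e2 e3 => h4 i e1 e3 e2⟩⟩
    · omega
  choose A B h1 using h1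
  have h2 : ∀ l m, l ≠ 1 → m ≠ 1 → (if A m = A l then 1 else 0) - (if A m = B l then 1 else 0) -
      (if B m = A l then 1 else 0) + (if B m = B l then 1 else 0) =
      (1 : ℤ) + (if m = l then 1 else 0) + if m = l⁻¹ then 1 else 0 := fun l m hl hm => by
    have h3 := hs l m hl hm
    obtain ⟨a1, a2, a3, a4⟩ := h1 m hm
    obtain ⟨b1, b2, b3, b4⟩ := h1 l hl
    simp only [a4, mul_sub, mul_ite, mul_one, mul_zero, Finset.sum_sub_distrib, Finset.sum_ite_eq',
      Finset.mem_univ, if_true] at h3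
    rw [ho l hl, b4, b4, if_neg a1, if_neg a2] at h3
    linear_combination h3
  have h3 : ∀ l m, l ≠ 1 → m ≠ 1 → (A m = A l ∨ B m = B l) ∧ ((A m = A l ∧ B m = B l) ↔ m = l ∨ m = l⁻¹) :=
    fun l m hl hm => ite_logic (h2 l m hl hm) (fun e => ⟨e ▸ (h1 l hl).2.2.1, e ▸ (h1 m hm).2.2.1.symm⟩)
      fun e => hi l hl (e.2.symm.trans e.1)
  by_cases h4 : ∀ l m, l ≠ 1 → m ≠ 1 → A l = A m
  · obtain ⟨χ, L, h5⟩ := star_aux (s := 1) hΛ h0 hi h1 h4 fun l m hl hm => by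
      rw [← (h3 l m hl hm).2, and_iff_right (h4 m l hm hl)]
    exact ⟨1, χ, L, Or.inl rfl, h5⟩
  · push Not at h4
    obtain ⟨l1, l2, a1, a2, a3⟩ := h4
    have h5 : ∀ l, l ≠ 1 → B l = B l1 := fun l hl => by
      rcases (h3 l1 l a1 hl).1 with e | e
      · rw [((h3 l2 l a2 hl).1.resolve_left (e ▸ a3)), (h3 l1 l2 a1 a2).1.resolve_left a3.symm]
      · exact e
    obtain ⟨χ, L, h5⟩ := star_aux (s := -1) (C := B) (B := A) hΛ h0 hi (fun l hl => by
      obtain ⟨b1, b2, b3, b4⟩ := h1 l hl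
      refine ⟨b2, b1, b3.symm, fun i => ?_⟩
      rw [b4]; split_ifs <;> rfl) (fun l m hl hm => (h5 l hl).trans (h5 m hm).symm) fun l m hl hm => by
        rw [← (h3 l m hl hm).2, and_iff_left ((h5 m hm).trans (h5 l hl).symm)]
    exact ⟨-1, χ, L, Or.inr rfl, h5⟩

variable {G : Type u} [Group G]

theorem SC.star [Fintype G] {R : Subgroup G} (h : SC R) {x : G} (hx : x ∈ Rs R) (he : (cR R x).card = 2) :
    ∃ (s : ℤ) (χ : IrrCharacter G) (L : Finset (IrrCharacter G)), (s = 1 ∨ s = -1) ∧ χ ≠ triv G ∧ triv G ∉ L ∧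
      χ ∉ L ∧ L.card = 4 ∧ (∀ ψ ∈ L, ∀ g, ¬ 3 ∣ orderOf g → 1 + s * (ψ.1 g - χ.1 g) = 0) ∧
      (9 : ℤ) ∣ dg χ - 8 * s ∧ ∀ θ, θ ≠ triv G → θ ≠ χ → θ ∉ L → 9 ∣ dg θ := by
  have := Fintype.ofFinite (IrrCharacter G)
  have : IsMulCommutative R := ⟨⟨fun a b => Subtype.ext (h.comm b.2 a.2)⟩⟩
  have := Fintype.ofFinite (R →* ℂˣ)
  choose m hm using fun (l : R →* ℂˣ) (χ : IrrCharacter G) =>
    exists_nat_inner (isChar_restrict R (ch χ)) (isChar_of_irr (isIrr_unitsHom l))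
  let γ : (R →* ℂˣ) → IrrCharacter G → ℤ := fun l χ => m l χ - m 1 χ
  have h1 : ∀ l χ, (γ l χ : ℂ) = 9⁻¹ * ∑ k : R, χ.1 k * (conj (l k : ℂ) - 1) := fun l χ => by
    simp only [γ, Int.cast_sub, Int.cast_natCast, ← hm, classInner, h.card, mul_sub, Finset.sum_sub_distrib]
    simp
  have h2 : ∀ l g, ∑ χ : IrrCharacter G, γ l χ * conj (χ.1 g) =
      9⁻¹ * ∑ k : R, (conj (l k : ℂ) - 1) * if IsConj (k : G) g then (Nat.card (Cz (k : G)) : ℂ) else 0 :=
    fun l g => by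
      simp only [h1, ← second_orthogonality, Finset.mul_sum, Finset.sum_mul]
      rw [Finset.sum_comm]
      exact Finset.sum_congr rfl fun _ _ => Finset.sum_congr rfl fun _ _ => by ring
  have h3 : ∀ l g, ¬ 3 ∣ orderOf g → ∑ χ : IrrCharacter G, γ l χ * χ.1 g = 0 := fun l g hg => by
    have := h2 l g
    rw [Finset.sum_eq_zero fun (k : R) _ => by
      by_cases e : k = 1
      · simp [e]
      · rw [if_neg fun e' : IsConj (k : G) g =>
          hg (orderOf_of_isConj e' ▸ h.three_dvd k.2 fun e1 => e (Subtype.ext e1)), mul_zero], mul_zero] at this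
    simpa using congrArg conj this
  have h9 : ∀ k : R, k ^ 9 = 1 := fun k => Subtype.ext (h.pow_nine k.2)
  have hne : ∀ k : R, k ≠ 1 → k ≠ k⁻¹ := fun k hk e => hk (by
    have := h9 k
    rwa [show 9 = 2 * 4 + 1 by rfl, pow_succ, pow_mul, sq, eq_inv_iff_mul_eq_one.1 e, one_pow, one_mul] at this)
  have h4 : ∀ l (g : R), ∑ χ : IrrCharacter G, γ l χ * conj (χ.1 g) = conj (l g : ℂ) + l g - 2 := fun l g => by
    rw [h2]
    by_cases e : g = 1
    · rw [Finset.sum_eq_zero fun k _ => by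
        by_cases e' : k = 1
        · simp [e']
        · rw [if_neg (by simpa [e] using e'), mul_zero], e]
      norm_num
    have hg : (g : G) ∈ Rs R := mem_Rs.2 ⟨g.2, by simpa using e⟩
    have h5 := h.inv_conj hx he.symm.dvd g.2
    have h6 : ({(g : G), (g : G)⁻¹} : Finset G) = cR R g := Finset.eq_of_subset_of_card_le
      (Finset.insert_subset (mem_cR.2 ⟨IsConj.refl _, g.2⟩)
        (Finset.singleton_subset_iff.2 (mem_cR.2 ⟨h5, inv_mem g.2⟩))) (by
        rw [← h.card_cR_eq hx hg, he, Finset.card_pair fun e' : (g : G) = (g : G)⁻¹ => hne g e (Subtype.ext e')])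
    rw [Finset.sum_eq_add g g⁻¹ (hne g e) (fun k _ e' => by
      rw [if_neg fun e1 => ?_, mul_zero]
      have := h6 ▸ mem_cR.2 ⟨e1.symm, k.2⟩
      simp only [Finset.mem_insert, Finset.mem_singleton] at this
      exact this.elim (fun e => e'.1 (Subtype.ext e)) fun e => e'.2 (Subtype.ext e)) (by simp) (by simp),
      if_pos (IsConj.refl _), if_pos (show IsConj ((g⁻¹ : R) : G) g from h5.symm), h.card_Cz (h.three_dvd g.2 (by simpa using e)),
      h.card_Cz (h.three_dvd g⁻¹.2 (by simpa using e)), conj_unitsHom' l g⁻¹]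
    simp only [map_inv, Units.val_inv_eq_inv_val, inv_inv]
    push_cast; ring
  have h5 : ∀ l : R →* ℂˣ, l ≠ 1 → ∑ k, (l k : ℂ) = 0 := fun l hl => by
    simpa [hl] using sum_unitsHom_mul_conj l 1
  have h6 : ∀ l : R →* ℂˣ, l ≠ 1 → ∑ k, conj (l k : ℂ) = 0 := fun l hl => by rw [← map_sum, h5 l hl, map_zero]
  obtain ⟨s, χ, L, a1, a2, a3, a4, a5, a6, a7, a8⟩ := star_abs (γ := γ) (D := dg) (o := triv G)
    (by rw [← Nat.card_eq_fintype_card, card_unitsHom, h.card]) (fun i => sub_self _)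
    (fun l hl e => hl (unitsHom_eq_one_of_sq_of_odd (by rw [h.card]; decide) (hom_eq_inv_self_iff.1 e.symm)))
    (fun l hl => by
      have := h1 l (triv G)
      simp only [triv_apply, one_mul, Finset.sum_sub_distrib, h6 l hl, Finset.sum_const, Finset.card_univ,
        ← Nat.card_eq_fintype_card, h.card] at this
      norm_num at this
      exact_mod_cast this) dg_pos
    (fun l => by
      have := h3 l 1 (by simp)
      simp only [apply_one] at this
      exact_mod_cast this) dg_triv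
    (fun l μ hl hμ => by
      have e1 : ∑ χ : IrrCharacter G, (γ l χ : ℂ) * γ μ χ =
          9⁻¹ * ∑ k : R, ((μ k : ℂ) - 1) * (conj (l k : ℂ) + l k - 2) := by
        simp only [← h4, Finset.mul_sum]
        rw [Finset.sum_comm]
        refine Finset.sum_congr rfl fun χ _ => ?_
        rw [← map_intCast (starRingEnd ℂ) (γ μ χ), h1 μ, map_mul, map_sum, Finset.mul_sum, Finset.mul_sum]
        exact Finset.sum_congr rfl fun k _ => by simp [map_ofNat]; ring
      have e2 := sum_unitsHom_mul_conj μ l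
      have e3 := sum_unitsHom_mul_conj μ l⁻¹
      simp only [conj_unitsHom l⁻¹, hom_inv_inv] at e3
      have e4 : ∀ k : R, ((μ k : ℂ) - 1) * (conj (l k : ℂ) + l k - 2) =
        μ k * conj (l k : ℂ) + μ k * l k - 2 * μ k - conj (l k : ℂ) - l k + 2 := fun k => by ring
      simp only [e4, Finset.sum_add_distrib, Finset.sum_sub_distrib, ← Finset.mul_sum, e2, e3, h5 l hl, h5 μ hμ,
        h6 l hl, Finset.sum_const, Finset.card_univ, ← Nat.card_eq_fintype_card, h.card] at e1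
      have e5 : ∑ χ : IrrCharacter G, (γ l χ : ℂ) * γ μ χ =
          2 + (if μ = l then 1 else 0) + if μ = l⁻¹ then 1 else 0 := by
        rw [e1]; split_ifs <;> norm_num
      exact_mod_cast e5)
  have h7 : ∀ θ, ∑ l, γ l θ = dg θ - 9 * m 1 θ := fun θ => by
    have := apply_eq_sum_unitsHom (fun k : R => θ.1 k) 1
    simp only [hm, OneMemClass.coe_one, apply_one, map_one, Units.val_one, mul_one] at this
    have e : (dg θ : ℤ) = ∑ l, (m l θ : ℤ) := by exact_mod_cast this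
    simp only [γ, Finset.sum_sub_distrib, ← e, Finset.sum_const, Finset.card_univ, ← Nat.card_eq_fintype_card,
      card_unitsHom, h.card]
    simp
  refine ⟨s, χ, L, a1, a2, a3, a4, a5, fun ψ hψ g hg => ?_, by rw [← a7, h7]; simp, fun θ e1 e2 e3 => ?_⟩
  · obtain ⟨l, hl⟩ := a6 ψ hψ
    have := h3 l g hg
    simp only [hl, Int.cast_sub, Int.cast_ite, Int.cast_zero, Int.cast_one, sub_mul, ite_mul, zero_mul,
      Finset.sum_sub_distrib, Finset.sum_ite_eq', Finset.mem_univ, if_true, triv_apply] at this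
    linear_combination -this
  · have := h7 θ
    simp only [a8 θ e1 e2 e3, Finset.sum_const_zero] at this
    omega

end Cfsg.Agent.Nine
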