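import Cfsg.Agent.Lib.Nine.N
import Cfsg.Agent.S2202

/-! The automizer of order two: arithmetic and the group of order 504. -/

set_option autoImplicit false
set_option linter.unusedSectionVars false

open Cfsg Cfsg.Agent.Char
open scoped ComplexConjugate Classical

namespace Cfsg.Agent.Nine

universe u

variable {G : Type u} [Group G]

theorem num2 {q a m n d e : ℕ} {s : ℤ} (hq : q.Prime) (hs : s = 1 ∨ s = -1) (ha : 1 ≤ a) (h1 : (e : ℤ) = d + s)
    (h2 : (9 : ℤ) ∣ e - 8 * s) (h3 : (d = 2 ^ a ∧ e = q) ∨ (d = q ∧ e = 2 ^ a)) (hm : m ∣ q - 1)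
    (hn : n * m = 9 * 2 ^ a) (hn1 : n % q = 1) :
    (q = 7 ∧ a = 3 ∧ s = 1 ∧ e = 8) ∨ (q = 17 ∧ a = 4 ∧ n = 18) ∨
      (e = q ∧ d = 2 ^ a ∧ q + 1 = 2 ^ a ∧ 7 ≤ a ∧ m = 9) := by
  have h4 := hq.two_le
  have h5 := Nat.le_of_dvd (by omega) hm
  have h6 : 0 < m := Nat.pos_of_dvd_of_pos hm (by omega)
  obtain ⟨k, rfl⟩ : ∃ k, n = q * k + 1 := ⟨n / q, by rw [← hn1, Nat.div_add_mod]⟩
  rw [add_mul, one_mul, mul_assoc] at hn
  by_cases h7 : q = 2 ^ a + 1
  · have h8 : 4 ≤ a := by
      by_contra e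
      interval_cases a <;> omega
    have h9 : 16 ≤ 2 ^ a := Nat.pow_le_pow_right (n := 2) (by norm_num) h8
    have h10 : q ∣ m + 9 := (Nat.dvd_add_right (dvd_mul_right q (k * m))).1 ⟨9, by omega⟩
    obtain ⟨t, ht⟩ := h10
    have h11 : t = 1 := by
      rcases t with _ | _ | t
      · omega
      · rfl
      · rw [mul_add, mul_add] at ht; omega
    subst h11
    have h12 : m ∣ 8 := (Nat.dvd_add_right dvd_rfl).1 (by rwa [show m + 8 = q - 1 by omega])
    have h13 := Nat.le_of_dvd (by norm_num) h12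
    have h14 : a = 4 := by
      by_contra e
      have : 32 ≤ 2 ^ a := Nat.pow_le_pow_right (n := 2) (by norm_num) (by omega : 5 ≤ a)
      omega
    subst h14
    obtain rfl : q = 17 := by omega
    obtain rfl : m = 8 := by omega
    omega
  have h8 : q + 1 = 2 ^ a := by omega
  have h9 : 9 < q → m = 9 := fun h => by
    have : (q : ℤ) ∣ m - 9 := ⟨9 - (k * m : ℕ), by
      have : ((q * (k * m) + m : ℕ) : ℤ) = (9 * (q + 1) : ℕ) := by rw [hn, h8]
      push_cast at this ⊢
      linear_combination this⟩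
    have := Int.eq_zero_of_abs_lt_dvd this (abs_lt.2 ⟨by omega, by omega⟩)
    omega
  rcases hs with rfl | rfl
  · by_cases h10 : q = 7
    · have h14 : a = 3 := Nat.pow_right_injective le_rfl (show 2 ^ a = 2 ^ 3 by omega)
      exact Or.inl ⟨h10, h14, rfl, by omega⟩
    · rw [h9 (by omega)] at hm
      omega
  · refine Or.inr (Or.inr ⟨by omega, by omega, h8, ?_, h9 (by omega)⟩)
    by_contra e
    interval_cases a <;> omega

theorem sum_normSq [Fintype G] [Fintype (IrrCharacter G)] (g : G) :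
    ∑ χ : IrrCharacter G, ‖χ.1 g‖ ^ 2 = Nat.card (Cz g) := by
  have := second_orthogonality g g
  simp only [if_pos (IsConj.refl g), Complex.mul_conj, Complex.normSq_eq_norm_sq] at this
  exact_mod_cast this

theorem card_Cz_dvd [Finite G] {R : Subgroup G} (h : SC R) {q a : ℕ} (hq : q.Prime) (hq2 : q ≠ 2)
    (hc : Nat.card G = 9 * 2 ^ a * q) (hm : ∀ g : G, 2 ∣ orderOf g → ¬ q ∣ orderOf g) {g : G}
    (hg : 2 ∣ orderOf g) : Nat.card (Cz g) ∣ 2 ^ a := by
  have := Fintype.ofFinite G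
  obtain ⟨i, hi⟩ := exists_pow_orderOf hg
  have key : ∀ p : ℕ, p.Prime → p ≠ 2 → p ∣ Nat.card (Cz g) → ∃ y : G, 2 ∣ orderOf y ∧ p ∣ orderOf y := by
    intro p hp hp2 e
    have : Fact p.Prime := ⟨hp⟩
    obtain ⟨y, hy⟩ := exists_prime_orderOf_dvd_card' p e
    rw [← Subgroup.orderOf_coe] at hy
    have h1 : Commute (y : G) (g ^ i) := Commute.pow_right (mem_Cz.1 y.2) i
    refine ⟨y * g ^ i, ?_⟩
    rw [h1.orderOf_mul_eq_mul_orderOf_of_coprime (by
      rw [hy, hi]; exact (Nat.coprime_primes hp Nat.prime_two).2 hp2), hy, hi]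
    exact ⟨dvd_mul_left _ _, dvd_mul_right _ _⟩
  have h1 := Subgroup.card_subgroup_dvd_card (Cz g)
  rw [hc] at h1
  refine Nat.Coprime.dvd_of_dvd_mul_left (m := 9) (Nat.Coprime.pow_right 2 (Nat.prime_three.coprime_iff_not_dvd.2
    fun e => ?_).symm) (Nat.Coprime.dvd_of_dvd_mul_right (hq.coprime_iff_not_dvd.2 fun e => ?_).symm h1)
  · obtain ⟨y, h2, h3⟩ := key 3 Nat.prime_three (by norm_num) e
    have := h2.trans (h.card_Cz h3 ▸ orderOf_dvd_card_Cz y)
    omega
  · obtain ⟨y, h2, h3⟩ := key q hq hq2 e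
    exact hm y h2 h3

theorem case504 [Fintype G] [IsSimpleGroup G] (hG : ¬ IsMulCommutative G) {R : Subgroup G} (h : SC R)
    (hc : Nat.card G = 9 * 2 ^ 3 * 7) (hm : ∀ g : G, 2 ∣ orderOf g → ¬ 7 ∣ orderOf g) {χ : IrrCharacter G}
    (hχ : dg χ = 8) {L : Finset (IrrCharacter G)} (h0 : triv G ∉ L) (hL : L.card = 4)
    (h1 : ∀ ψ ∈ L, ∀ g, ¬ 3 ∣ orderOf g → 1 + (ψ.1 g - χ.1 g) = 0) :
    ∃ (F : Type) (_ : Field F) (_ : Fintype F), Fintype.card F = 8 ∧
      Nonempty (G ≃* Matrix.ProjectiveSpecialLinearGroup (Fin 2) F) := by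
  have := Fintype.ofFinite (IrrCharacter G)
  have h2 : ∀ g : G, 2 ∣ orderOf g → Nat.card (Cz g) = 8 := fun g hg => by
    have h3 := card_Cz_dvd h (by norm_num) (by norm_num) hc hm hg
    have h4 := zero_of_defect χ (k := 3) (m := 63) Nat.prime_two hc (by norm_num) (by rw [hχ]; rfl) hg
    have h5 : ∑ θ ∈ insert (triv G) L, ‖θ.1 g‖ ^ 2 ≤ Nat.card (Cz g) := sum_normSq g ▸
      Finset.sum_le_sum_of_subset_of_nonneg (Finset.subset_univ _) fun _ _ _ => sq_nonneg _
    rw [Finset.sum_insert h0, Finset.sum_congr rfl (g := fun _ => 1) fun ψ hψ => by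
      have := h1 ψ hψ g fun e => by
        have := hg.trans (h.card_Cz e ▸ orderOf_dvd_card_Cz g)
        omega
      rw [show ψ.1 g = -1 by linear_combination this + h4]; simp] at h5
    simp only [triv_apply, norm_one, Finset.sum_const, hL] at h5
    have h6 : 5 ≤ Nat.card (Cz g) := by
      have : (5 : ℝ) ≤ Nat.card (Cz g) := by norm_num at h5 ⊢; linarith
      exact_mod_cast this
    have := Nat.le_of_dvd (by norm_num) h3
    generalize Nat.card (Cz g) = n at *
    interval_cases n <;> omega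
  have h3 : ∀ t : G, orderOf t = 2 → IsMulCommutative (Cz t) := fun t ht => by
    by_cases e : ∀ g ∈ Cz t, g * g = 1
    · refine ⟨⟨fun a b => Subtype.ext ?_⟩⟩
      have := inv_eq_of_mul_eq_one_left (e _ (mul_mem a.2 b.2))
      rw [mul_inv_rev, inv_eq_of_mul_eq_one_left (e _ a.2), inv_eq_of_mul_eq_one_left (e _ b.2)] at this
      exact this.symm
    push Not at e
    obtain ⟨g, hg, e⟩ := e
    have h4 : orderOf g ∣ 8 := h2 t ht.symm.dvd ▸ Subgroup.orderOf_dvd_natCard _ hg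
    have h5 : ¬ orderOf g ∣ 2 := fun e' => e (by rw [← sq]; exact orderOf_dvd_iff_pow_eq_one.1 e')
    have h6 : 4 ∣ orderOf g := by
      have := Nat.le_of_dvd (by norm_num) h4
      generalize orderOf g = n at *
      interval_cases n <;> omega
    have h7 := h2 g ((by norm_num : 2 ∣ 4).trans h6)
    have h8 : ∀ a ∈ Cz g, ∀ b ∈ Cz g, a * b = b * a := fun a ha b hb => by
      let Z := (Subgroup.zpowers g).subgroupOf (Cz g)
      have z1 : ∀ a b : Cz g, a ∈ Z → (a : G) * b = b * a := fun a b ⟨i, hi⟩ => by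
        have : (a : G) = g ^ i := hi.symm
        rw [this]
        exact (Commute.zpow_right (mem_Cz.1 b.2) i).eq.symm
      have z2 := Z.index_mul_card
      rw [h7, Nat.card_congr (Subgroup.subgroupOfEquivOfLe (Subgroup.zpowers_le.2 (mem_Cz.2 rfl))).toEquiv,
        Nat.card_zpowers] at z2
      by_cases e1 : (⟨a, ha⟩ : Cz g) ∈ Z
      · exact z1 _ ⟨b, hb⟩ e1
      by_cases e2 : (⟨b, hb⟩ : Cz g) ∈ Z
      · exact (z1 _ ⟨a, ha⟩ e2).symm
      have z3 : Z.index = 2 := by
        have : Z.index ≠ 1 := fun e => e1 (by rw [Subgroup.index_eq_one.1 e]; trivial)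
        obtain ⟨k, hk⟩ := h6
        rw [hk] at z2
        generalize Z.index = n at *
        rcases n with _ | _ | _ | n <;> rcases k with _ | k <;> first | omega | nlinarith
      have z4 := z1 _ ⟨a, ha⟩ ((Subgroup.mul_mem_iff_of_index_two z3).2 (iff_of_false e1 e2))
      simpa [mul_assoc] using z4.symm
    have h9 : Cz g = Cz t := Subgroup.eq_of_le_of_card_ge
      (fun a ha => mem_Cz.2 (h8 a ha t (mem_Cz.2 (mem_Cz.1 hg).symm))) (by rw [h7, h2 t ht.symm.dvd])
    exact h9 ▸ ⟨⟨fun a b => Subtype.ext (h8 a a.2 b b.2)⟩⟩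
  have : Fact (Nat.Prime 2) := ⟨Nat.prime_two⟩
  obtain ⟨P⟩ : Nonempty (Sylow 2 G) := inferInstance
  rcases S2202.result (by rw [hc]; decide) h3 with e | e | ⟨F, _, _, A, _, _, hF, -, ⟨f⟩⟩
  · obtain ⟨g, h4, h5⟩ := exists_not_cent hG P (by rw [hc]; decide)
    exact absurd ((e P).normalizer_le_centralizer (by rw [hc]; norm_num) h4) h5
  · have h4 := (sylow_card (m := 63) (b := 3) hc (by norm_num) P).1
    rcases IsSimpleGroup.eq_bot_or_eq_top_of_normal _ (e P) with e | e <;> rw [e] at h4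
    · simp at h4
    · rw [Subgroup.card_top, hc] at h4
      omega
  · have h4 : ∀ a : A, a = 1 := fun a => by
      have : f.symm (1, a) ∈ Subgroup.center G := Subgroup.mem_center_iff.2 fun g => f.injective (by
        simp [Prod.ext_iff, mul_comm])
      rw [center_eq_bot hG, Subgroup.mem_bot, map_eq_one_iff _ f.symm.injective] at this
      exact congrArg Prod.snd this
    have : Unique A := ⟨⟨1⟩, h4⟩
    have h5 : (2 : F) = 0 := CharP.cast_eq_zero F 2
    have e := (f.trans MulEquiv.prodUnique).trans (SL2.prEquiv h5)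
    refine ⟨F, inferInstance, inferInstance, ?_, ⟨e⟩⟩
    have h6 := SL2.card_PSL_even h5
    rw [← Nat.card_congr e.toEquiv, hc, Nat.card_eq_fintype_card] at h6
    generalize Fintype.card F = n at *
    have h7 : n < 9 := by
      by_contra e
      have := Nat.mul_le_mul (not_lt.1 e) (Nat.sub_le_sub_right (Nat.pow_le_pow_left (not_lt.1 e) 2) 1)
      omega
    interval_cases n <;> omega

end Cfsg.Agent.Nine
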