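import Cfsg.Agent.Lib.Nine.O

/-! The automizer of order two: the Mersenne case does not occur. -/

set_option autoImplicit false
set_option linter.unusedSectionVars false

open Cfsg Cfsg.Agent.Char
open scoped ComplexConjugate Classical

namespace Cfsg.Agent.Nine

universe u

variable {G : Type u} [Group G]

theorem sum_Rs_ge [Fintype G] (Q : Subgroup G) [IsMulCommutative Q] (θ : IrrCharacter G) (s : ℤ) :
    (dg θ - s * Nat.card Q : ℝ) * ((s + 1) * Nat.card Q - dg θ) ≤ ∑ y ∈ Rs Q, ‖θ.1 y‖ ^ 2 := by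
  have := Fintype.ofFinite (Q →* ℂˣ)
  choose m hm using fun l : Q →* ℂˣ => exists_nat_inner (isChar_restrict Q (ch θ)) (isChar_of_irr (isIrr_unitsHom l))
  have h1 : (dg θ : ℝ) = ∑ l, (m l : ℝ) := by
    have := apply_eq_sum_unitsHom (fun k : Q => θ.1 k) 1
    simp only [hm, OneMemClass.coe_one, apply_one, map_one, Units.val_one, mul_one] at this
    exact_mod_cast this
  have h2 := inner_eq_sum_unitsHom (fun k : Q => θ.1 k) (fun k : Q => θ.1 k)
  simp only [hm, inner_self_eq, map_natCast, sum_sub Q fun y => ‖θ.1 y‖ ^ 2, apply_one, Complex.norm_natCast] at h2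
  have h3 : (Nat.card Q : ℝ)⁻¹ * ((dg θ : ℝ) ^ 2 + ∑ y ∈ Rs Q, ‖θ.1 y‖ ^ 2) = ∑ l, (m l : ℝ) * m l := by
    exact_mod_cast h2
  have h4 : (0 : ℝ) < Nat.card Q := by exact_mod_cast Nat.card_pos
  rw [inv_mul_eq_iff_eq_mul₀ h4.ne'] at h3
  have h5 : ∑ l : Q →* ℂˣ, ((2 * s + 1) * (m l : ℝ) - s * (s + 1)) ≤ ∑ l, (m l : ℝ) * m l :=
    Finset.sum_le_sum fun l _ => by
      have : (2 * s + 1) * (m l : ℤ) - s * (s + 1) ≤ m l * m l := by
        rcases le_or_gt (m l : ℤ) s with e | e <;> nlinarith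
      exact_mod_cast this
  rw [Finset.sum_sub_distrib, ← Finset.mul_sum, ← h1, Finset.sum_const, Finset.card_univ,
    ← Nat.card_eq_fintype_card, card_unitsHom, nsmul_eq_mul] at h5
  nlinarith [mul_le_mul_of_nonneg_left h5 h4.le]

theorem sum_Rs_le [Fintype G] {Q : Subgroup G} (hQ : ∀ y ∈ Rs Q, Subgroup.zpowers y = Q) (θ : IrrCharacter G) :
    ∑ y ∈ Rs Q, ‖θ.1 y‖ ^ 2 ≤ Nat.card (Nm Q) := by
  have h0 : (0 : ℝ) < Nat.card G := by exact_mod_cast Nat.card_pos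
  have h1 : ∑ g, ‖θ.1 g‖ ^ 2 = Nat.card G := by
    have := inner_irr_self θ.2
    rw [inner_self_eq] at this
    have h2 : (Nat.card G : ℝ)⁻¹ * ∑ g, ‖θ.1 g‖ ^ 2 = 1 := by exact_mod_cast this
    rwa [inv_mul_eq_iff_eq_mul₀ h0.ne', mul_one] at h2
  refine le_of_mul_le_mul_left ?_ h0
  calc (Nat.card G : ℝ) * ∑ y ∈ Rs Q, ‖θ.1 y‖ ^ 2 = ∑ g : G, ∑ y ∈ Rs Q, ‖θ.1 (g * y * g⁻¹)‖ ^ 2 := by
        simp only [isClass_of_irr θ.2 _ _, Finset.sum_const, Finset.card_univ, nsmul_eq_mul, Nat.card_eq_fintype_card]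
    _ = ∑ g : G, ∑ h : G, if g⁻¹ * h * g ∈ Rs Q then ‖θ.1 h‖ ^ 2 else 0 := Finset.sum_congr rfl fun g _ => by
        rw [← Finset.sum_filter]
        exact Finset.sum_nbij' (fun y => g * y * g⁻¹) (fun h => g⁻¹ * h * g) (by simp [mul_assoc])
          (by simp) (by simp [mul_assoc]) (by simp [mul_assoc]) (by simp)
    _ ≤ ∑ h : G, ‖θ.1 h‖ ^ 2 * Nat.card (Nm Q) := by
        rw [Finset.sum_comm]
        refine Finset.sum_le_sum fun h _ => ?_
        rw [← Finset.sum_filter, Finset.sum_const, nsmul_eq_mul, mul_comm]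
        refine mul_le_mul_of_nonneg_left (Nat.cast_le.2 ?_) (sq_nonneg _)
        rcases (Finset.univ.filter fun g => g⁻¹ * h * g ∈ Rs Q).eq_empty_or_nonempty with e | ⟨g0, e⟩
        · simp [e]
        rw [Nat.card_eq_fintype_card, Fintype.card_subtype]
        refine Finset.card_le_card_of_injOn (fun g => g⁻¹ * g0) (fun g hg => ?_) fun a _ b _ e => by simpa using e
        simp only [Finset.coe_filter, Finset.mem_univ, true_and, Set.mem_ofPred_eq, Finset.mem_filter] at hg e ⊢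
        refine Nz.mem_normalizer fun k hk => ?_
        rw [← hQ _ e] at hk
        obtain ⟨i, rfl⟩ := hk
        rw [← conj_zpow, show g⁻¹ * g0 * (g0⁻¹ * h * g0) * (g⁻¹ * g0)⁻¹ = g⁻¹ * h * g by group]
        exact zpow_mem (mem_Rs.1 hg).1 i
    _ = _ := by rw [← Finset.sum_mul, h1]

theorem caseM [Fintype G] {q a : ℕ} (hq : q.Prime) (hq1 : q + 1 = 2 ^ a) (ha : 7 ≤ a)
    (hc : Nat.card G = 9 * 2 ^ a * q) {Q : Subgroup G} (hQ : Nat.card Q = q)
    (hC : Subgroup.centralizer (Q : Set G) = Q) (hN : Nat.card (Nm Q) = 9 * q) {χ : IrrCharacter G}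
    {L : Finset (IrrCharacter G)} (h0 : χ ≠ triv G) (h1 : triv G ∉ L) (h2 : χ ∉ L) (hL : L.card = 4)
    (hχ : dg χ = q) (h3 : ∀ ψ ∈ L, dg ψ = 2 ^ a) (h4 : ∀ θ, θ ≠ triv G → θ ≠ χ → θ ∉ L → 9 ∣ dg θ) : False := by
  have := Fintype.ofFinite (IrrCharacter G)
  have : Fact q.Prime := ⟨hq⟩
  have : IsCyclic Q := isCyclic_of_prime_card hQ
  have hz : ∀ y ∈ Rs Q, Subgroup.zpowers y = Q := fun y hy => by
    obtain ⟨y1, y2⟩ := mem_Rs.1 hy
    refine Subgroup.eq_of_le_of_card_ge (Subgroup.zpowers_le.2 y1) ?_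
    rw [hQ, Nat.card_zpowers, (hq.eq_one_or_self_of_dvd (orderOf y) (hQ ▸ Q.orderOf_dvd_natCard y1)).resolve_left
      (by simpa using y2)]
  obtain ⟨t, ht, rfl⟩ : ∃ t, 16 ≤ t ∧ t = 2 ^ (a - 3) :=
    ⟨_, Nat.pow_le_pow_right (n := 2) (by norm_num) (by omega : 4 ≤ a - 3), rfl⟩
  have hM : 2 ^ a = 8 * 2 ^ (a - 3) := by rw [show 8 = 2 ^ 3 by rfl, ← pow_add]; congr 1; omega
  let O := Finset.univ \ insert (triv G) (insert χ L)
  have hO : ∀ θ ∈ O, 9 ∣ dg θ := fun θ e => by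
    simp only [O, Finset.mem_sdiff, Finset.mem_univ, true_and, Finset.mem_insert, not_or] at e
    exact h4 θ e.1 e.2.1 e.2.2
  have h5 : ∑ θ ∈ O, dg θ ^ 2 + (1 + (q ^ 2 + 4 * (2 ^ a) ^ 2)) = 9 * 2 ^ a * q := by
    have := sum_degree_sq (G := G)
    simp only [apply_one] at this
    have h6 : ∑ θ : IrrCharacter G, dg θ ^ 2 = Nat.card G := by exact_mod_cast this
    rw [← hc, ← h6, ← Finset.sum_sdiff (Finset.subset_univ (insert (triv G) (insert χ L))),
      Finset.sum_insert (by simp [h0.symm, h1]), Finset.sum_insert h2, dg_triv, hχ,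
      Finset.sum_congr (s₁ := L) rfl fun ψ e => by rw [h3 ψ e], Finset.sum_const, hL]
    simp [O]
  have hq' : (q : ℝ) = 8 * (2 ^ (a - 3) : ℕ) - 1 := by
    rw [eq_sub_iff_add_eq]
    exact_mod_cast hq1.trans hM
  have h6 : ∀ θ ∈ O, dg θ = 9 := fun θ e => by
    have e1 := Finset.single_le_sum (f := fun θ => dg θ ^ 2) (fun _ _ => Nat.zero_le _) e
    obtain ⟨d, hd⟩ := hO θ e
    have e2 := dg_dvd θ
    rw [hc, hd, mul_assoc, ← pow_one q] at e2
    obtain ⟨i, -, j, hj, rfl⟩ := eq_pow_mul_pow hq (Nat.dvd_of_mul_dvd_mul_left (by norm_num) e2)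
    have e3 : dg θ ≤ 2 * q := by
      by_contra e3
      have := Nat.pow_le_pow_left (not_le.1 e3) 2
      rw [← hq1] at h5
      nlinarith
    have e4 : j = 0 := by
      by_contra e4
      rw [show j = 1 by omega, pow_one] at hd
      have := Nat.mul_le_mul_right q (Nat.one_le_two_pow (n := i))
      omega
    rw [e4, pow_zero, mul_one] at hd
    have e5 := sum_Rs_le hz θ
    have e6 := sum_Rs_ge Q θ
    rw [hN] at e5
    rw [hQ] at e6
    have ht' : (16 : ℝ) ≤ (2 ^ (a - 3) : ℕ) := by exact_mod_cast ht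
    rcases lt_trichotomy i (a - 3) with e7 | rfl | e7
    · rcases i with _ | i
      · simpa using hd
      have e8 : 2 ^ (i + 1 + 1) ≤ 2 ^ (a - 3) := Nat.pow_le_pow_right (by norm_num) e7
      have e9 : 18 ≤ dg θ := by have := Nat.one_le_two_pow (n := i); rw [pow_succ] at hd; omega
      have e10 : 2 * dg θ ≤ 9 * 2 ^ (a - 3) := by rw [pow_succ] at e8; omega
      have f1 : (18 : ℝ) ≤ dg θ := by exact_mod_cast e9
      have f2 : (2 : ℝ) * dg θ ≤ 9 * (2 ^ (a - 3) : ℕ) := by exact_mod_cast e10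
      have := (e6 0).trans e5
      push_cast [-Nat.cast_pow] at this
      rw [hq'] at this
      nlinarith
    · have := (e6 1).trans e5
      rw [hd] at this
      generalize 2 ^ (a - 3) = T at *
      push_cast at this
      rw [hq'] at this
      nlinarith [mul_nonneg (sub_nonneg.2 ht') (sub_nonneg.2 ht')]
    · have e8 : 2 ^ (a - 3 + 1) ≤ 2 ^ i := Nat.pow_le_pow_right (by norm_num) e7
      rw [pow_succ] at e8
      omega
  rw [Finset.sum_congr rfl fun θ e => by rw [h6 θ e], Finset.sum_const, smul_eq_mul, ← hq1] at h5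
  have h7 : ∑ θ ∈ O, ∑ y ∈ Rs Q, ‖θ.1 y‖ ^ 2 ≤ (q - 1) * q := by
    refine (Finset.sum_le_sum_of_subset_of_nonneg (Finset.subset_univ _) fun _ _ _ =>
      Finset.sum_nonneg fun _ _ => sq_nonneg _).trans_eq ?_
    rw [Finset.sum_comm, Finset.sum_congr rfl (g := fun _ => (q : ℝ)) fun y hy => by
      rw [sum_normSq, Cz, ← Subgroup.centralizer_closure, ← Subgroup.zpowers_eq_closure, hz y hy, hC, hQ],
      Finset.sum_const, nsmul_eq_mul]
    have := sum_sub Q fun _ => (1 : ℝ)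
    simp only [Finset.sum_const, Finset.card_univ, nsmul_eq_mul, mul_one, ← Nat.card_eq_fintype_card, hQ] at this
    rw [show ((Rs Q).card : ℝ) = q - 1 by linarith]
  have h8 := Finset.card_nsmul_le_sum O (fun θ => ∑ y ∈ Rs Q, ‖θ.1 y‖ ^ 2) (9 * (q - 9)) fun θ e => by
    have := sum_Rs_ge Q θ 0
    rw [hQ, h6 θ e] at this
    simpa using this
  rw [nsmul_eq_mul] at h8
  have h9 : (O.card : ℝ) * 9 ^ 2 + (1 + (q ^ 2 + 4 * (q + 1) ^ 2)) = 9 * (q + 1) * q := by exact_mod_cast h5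
  have h10 : (127 : ℝ) ≤ q := by exact_mod_cast (by omega : 127 ≤ q)
  have h11 : (O.card : ℝ) = (4 * q + 5) * (q - 1) / 81 := by linarith
  rw [h11] at h8
  have := h8.trans h7
  nlinarith [mul_pos (show (0 : ℝ) < q - 1 by linarith) (show (0 : ℝ) < q - 12 by linarith)]

end Cfsg.Agent.Nine
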