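import Cfsg.Agent.Lib.Nine.P
import Cfsg.Agent.Lib.Blk.Princ
import Cfsg.Agent.Lib.Blk.Brauer

/-! Sylow `3`-subgroups of order nine: fusion, sections, lifts of characters. -/

set_option autoImplicit false
set_option linter.unusedSectionVars false

open Cfsg Cfsg.Agent.Char Cfsg.Agent.Blk
open scoped ComplexConjugate Classical

namespace Cfsg.Agent.Nine

universe u

variable {G : Type u} [Group G]

instance fact3 : Fact (Nat.Prime 3) := ⟨Nat.prime_three⟩

theorem eq_one_of_comm_hom [IsSimpleGroup G] (hG : ¬ IsMulCommutative G) {A : Type*} [CommGroup A] (f : G →* A)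
    (g : G) : f g = 1 := by
  rcases IsSimpleGroup.eq_bot_or_eq_top_of_normal f.ker inferInstance with h | h
  · exact absurd ⟨⟨fun a b => (MonoidHom.ker_eq_bot_iff f).1 h (by simp [mul_comm])⟩⟩ hG
  · exact MonoidHom.mem_ker.1 (h ▸ Subgroup.mem_top g)

/-- number of elements with given `3`-part -/
noncomputable def Np [Fintype G] (u : G) : ℕ := (Finset.univ.filter fun g => pp 3 g = u).card

theorem Np_conj [Fintype G] {u v : G} (h : IsConj u v) : Np u = Np v := by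
  obtain ⟨c, rfl⟩ := isConj_iff.1 h
  refine Finset.card_nbij' (fun g => c * g * c⁻¹) (fun g => c⁻¹ * g * c) (fun g hg => ?_) (fun g hg => ?_)
    (fun g _ => by simp [mul_assoc]) (fun g _ => by simp [mul_assoc])
  · simp only [Finset.coe_filter, Finset.mem_univ, true_and, Set.mem_ofPred_eq] at hg ⊢
    rw [pp_conj, hg]
  · simp only [Finset.coe_filter, Finset.mem_univ, true_and, Set.mem_ofPred_eq] at hg ⊢
    have := pp_conj (p := 3) g c⁻¹
    rw [inv_inv] at this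
    rw [this, hg]; group

theorem sec_eq [Fintype G] (u : G) :
    (Finset.univ.filter fun g => IsConj u (pp 3 g)).card = (cl u).card * Np u := by
  rw [Finset.card_eq_sum_card_fiberwise (f := pp 3) (t := cl u) fun g hg => mem_cl.2 (by simpa using hg),
    Finset.sum_const_nat]
  intro v hv
  rw [Finset.filter_filter, Np_conj (mem_cl.1 hv), Np]
  congr 1
  exact Finset.filter_congr fun g _ => ⟨fun e => e.2, fun e => ⟨e ▸ mem_cl.1 hv, e⟩⟩

theorem Np_pos [Fintype G] {u : G} (hu : PE 3 u) : 0 < Np u :=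
  Finset.card_pos.2 ⟨u, by simp [pp_of_pe hu]⟩

theorem two_Np_le [Fintype G] {u : G} (hu : u ≠ u⁻¹) : 2 * Np u ≤ Nat.card (Cz u) := by
  have h1 : Np u = (Finset.univ.filter fun g => pp 3 g = u⁻¹).card :=
    Finset.card_nbij' (·⁻¹) (·⁻¹) (fun g hg => by simpa [pp_inv] using hg)
      (fun g hg => by simpa [pp_inv, inv_eq_iff_eq_inv] using hg) (fun _ _ => inv_inv _) fun _ _ => inv_inv _
  rw [two_mul]
  nth_rewrite 2 [h1]
  rw [Np, ← Finset.card_union_of_disjoint (Finset.disjoint_filter.2 fun g _ e e' => hu (e.symm.trans e')),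
    Nat.card_eq_fintype_card, Fintype.card_subtype]
  refine Finset.card_le_card fun g hg => ?_
  simp only [Finset.mem_union, Finset.mem_filter, Finset.mem_univ, true_and] at hg ⊢
  have := commute_pp (p := 3) (Commute.refl g)
  rcases hg with e | e <;> rw [e] at this
  · exact mem_Cz.2 this.eq.symm
  · exact mem_Cz.2 (Commute.inv_left_iff.1 this).eq.symm

theorem Np_eq [Fintype G] {u : G} (hu : PE 3 u) {K : Subgroup G} (hK : ∀ y, y ∈ K ↔ Commute u y ∧ Reg 3 y) :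
    Np u = Nat.card K := by
  rw [Nat.card_eq_fintype_card, Fintype.card_subtype]
  refine Finset.card_nbij' (rp 3) (u * ·) (fun g hg => ?_) (fun g hg => ?_) (fun g hg => ?_) fun g hg => ?_ <;>
    simp only [Finset.coe_filter, Finset.mem_univ, true_and, Set.mem_ofPred_eq, hK] at hg ⊢
  · exact ⟨hg ▸ commute_pp_rp g, reg_rp g⟩
  · exact pp_eq hg.1 hu hg.2
  · rw [← hg, pp_mul_rp]
  · exact rp_eq hg.1 hu hg.2

section Syl

variable [Fintype G] (R : Sylow 3 G) (h9 : Nat.card R = 9)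

theorem pe_isConj {g : G} (hg : PE 3 g) : ∃ k ∈ (R : Subgroup G), IsConj k g := by
  obtain ⟨P, hP⟩ := (isPGroup_zpowers hg).exists_le_sylow
  obtain ⟨y, hy⟩ := MulAction.exists_smul_eq G P R
  refine ⟨y * g * y⁻¹, ?_, isConj_iff.2 ⟨y⁻¹, by group⟩⟩
  rw [← hy, Sylow.coe_subgroup_smul]
  exact Subgroup.smul_mem_pointwise_smul g (MulAut.conj y) _ (hP (Subgroup.mem_zpowers g))

theorem sing_isConj {g : G} (hg : 3 ∣ orderOf g) :
    ∃ k ∈ Rs (R : Subgroup G), ∃ y, Commute k y ∧ Reg 3 y ∧ IsConj (k * y) g ∧ IsConj k (pp 3 g) := by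
  obtain ⟨k, hk, e⟩ := pe_isConj R (pe_pp (p := 3) g)
  obtain ⟨c, hc⟩ := isConj_iff.1 e.symm
  refine ⟨k, mem_Rs.2 ⟨hk, fun e1 => ?_⟩, c * rp 3 g * c⁻¹, ?_, (reg_conj _ _).2 (reg_rp g), ?_, e⟩
  · exact reg_iff_pp.2 (isConj_one_right.1 (e1 ▸ e)) hg
  · rw [← hc]
    exact (commute_pp_rp g).map (MulAut.conj c)
  · rw [← hc, conj_mul, pp_mul_rp]
    exact isConj_iff.2 ⟨c⁻¹, by group⟩

theorem lift_gen {F : G → ℂ} (hF : IsClassFunction G F)
    (h : IsGeneralizedCharacter R fun k : R => F k) : IsGeneralizedCharacter G fun g => F (pp 3 g) := by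
  refine brauer_char 3 (fun g c => by rw [pp_conj, hF]) fun E hE => ?_
  let φ : E →* G := MonoidHom.mk' (fun e => pp 3 (e : G)) fun a b => (hE a a.2 b b.2).2
  have h1 : IsPGroup 3 φ.range := by
    rintro ⟨_, e, rfl⟩
    obtain ⟨k, hk⟩ := pe_pp (p := 3) (e : G)
    exact ⟨k, Subtype.ext hk⟩
  obtain ⟨P, hP⟩ := h1.exists_le_sylow
  obtain ⟨y, hy⟩ := MulAction.exists_smul_eq G P R
  have h2 : ∀ e, ((MulAut.conj y).toMonoidHom.comp φ) e ∈ (R : Subgroup G) := fun e => by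
    rw [← hy, Sylow.coe_subgroup_smul]
    exact Subgroup.smul_mem_pointwise_smul _ (MulAut.conj y) _ (hP ⟨e, rfl⟩)
  have := isGen_comp (MonoidHom.codRestrict _ _ h2) h
  convert this using 2 with e
  exact (hF _ y).symm

include h9

theorem comm9 : IsMulCommutative R := IsPGroup.isMulCommutative_of_card_eq_prime_sq (p := 3) h9

theorem comm9' {k l : G} (hk : k ∈ (R : Subgroup G)) (hl : l ∈ (R : Subgroup G)) : Commute k l :=
  congrArg Subtype.val ((comm9 R h9).1.1 ⟨k, hk⟩ ⟨l, hl⟩)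

theorem pow9 {k : G} (hk : k ∈ (R : Subgroup G)) : k ^ 9 = 1 :=
  congrArg Subtype.val (h9 ▸ pow_card_eq_one' (x := (⟨k, hk⟩ : R)))

theorem ne_inv9 {k : G} (hk : k ∈ Rs (R : Subgroup G)) : k ≠ k⁻¹ := fun e => (mem_Rs.1 hk).2 (by
  have := pow9 R h9 (mem_Rs.1 hk).1
  rwa [show 9 = 2 * 4 + 1 by rfl, pow_succ, pow_mul, sq, eq_inv_iff_mul_eq_one.1 e, one_pow, one_mul] at this)

theorem three_dvd9 {k : G} (hk : k ∈ Rs (R : Subgroup G)) : 3 ∣ orderOf k := by
  by_contra e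
  exact (mem_Rs.1 hk).2 (eq_one_of_reg_pe (p := 3) e ⟨2, pow9 R h9 (mem_Rs.1 hk).1⟩)

theorem card_Rs9 : (Rs (R : Subgroup G)).card = 8 := by
  have := sum_sub (R : Subgroup G) (fun _ => 1)
  simp only [Finset.sum_const, Finset.card_univ, smul_eq_mul, mul_one, ← Nat.card_eq_fintype_card, h9] at this
  omega

theorem fusion9 {k l : G} (hk : k ∈ (R : Subgroup G)) (hl : l ∈ (R : Subgroup G)) (e : IsConj k l) :
    ∃ n ∈ Nm (R : Subgroup G), n * k * n⁻¹ = l := by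
  have := comm9 R h9
  obtain ⟨c, rfl⟩ := isConj_iff.1 e
  obtain ⟨n, hn, e⟩ := R.conj_eq_normalizer_conj_of_mem k c⁻¹ hk (by rw [inv_inv]; exact hl)
  exact ⟨n⁻¹, inv_mem hn, by simpa using e.symm⟩

theorem not_fixed [IsSimpleGroup G] (hG : ¬ IsMulCommutative G) {k : G} (hk : k ∈ (R : Subgroup G))
    (h : ∀ n ∈ Nm (R : Subgroup G), n * k * n⁻¹ = k) : k = 1 := by
  have := comm9 R h9
  let _ : CommGroup R := IsMulCommutative.instCommGroup
  have h1 := MonoidHom.transfer_eq_pow (MonoidHom.id R) k fun i g hg => by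
    obtain ⟨n, hn, e⟩ := fusion9 R h9 (pow_mem hk i) hg (isConj_iff.2 ⟨g⁻¹, by simp⟩)
    rw [← e, ← conj_pow, h n hn]
  rw [eq_one_of_comm_hom hG] at h1
  exact eq_one_of_reg_pe (p := 3) (reg_of_pow_eq_one R.not_dvd_index (congrArg Subtype.val h1.symm))
    ⟨2, pow9 R h9 hk⟩

theorem two_le_cR [IsSimpleGroup G] (hG : ¬ IsMulCommutative G) {k : G} (hk : k ∈ Rs (R : Subgroup G)) :
    2 ≤ (cR R k).card := by
  obtain ⟨hk, h1⟩ := mem_Rs.1 hk
  by_contra e
  refine h1 (not_fixed R h9 hG hk fun n hn => ?_)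
  exact Finset.card_le_one.1 (show (cR R k).card ≤ 1 by omega) _
    (mem_cR.2 ⟨isConj_iff.2 ⟨n, rfl⟩, nz_of_mem hn k hk⟩) _ (mem_cR.2 ⟨IsConj.refl k, hk⟩)

theorem cR_two [IsSimpleGroup G] (hG : ¬ IsMulCommutative G) {k : G} (hk : k ∈ Rs (R : Subgroup G))
    (h2 : (cR R k).card = 2) : ∀ l ∈ (R : Subgroup G), IsConj k l ↔ l = k ∨ l = k⁻¹ := by
  obtain ⟨hk, h1⟩ := mem_Rs.1 hk
  obtain ⟨a, b, hab, e⟩ := Finset.card_eq_two.1 h2
  have h3 : ∀ l, IsConj k l ∧ l ∈ (R : Subgroup G) ↔ l = a ∨ l = b := fun l => by rw [← mem_cR, e]; simp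
  obtain ⟨a1, a2⟩ := (h3 a).2 (Or.inl rfl)
  obtain ⟨b1, b2⟩ := (h3 b).2 (Or.inr rfl)
  have h4 : a * b = 1 := not_fixed R h9 hG (mul_mem a2 b2) fun n hn => by
    have e1 := (h3 _).1 ⟨a1.trans (isConj_iff.2 ⟨n, rfl⟩), nz_of_mem hn a a2⟩
    have e2 := (h3 _).1 ⟨b1.trans (isConj_iff.2 ⟨n, rfl⟩), nz_of_mem hn b b2⟩
    have e3 : n * a * n⁻¹ ≠ n * b * n⁻¹ := by simpa using hab
    rw [← conj_mul]
    rcases e1 with e1 | e1 <;> rcases e2 with e2 | e2 <;> rw [e1, e2] at e3 ⊢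
    · exact absurd rfl e3
    · exact (comm9' R h9 b2 a2).eq
    · exact absurd rfl e3
  intro l hl
  rw [← and_iff_left hl (a := IsConj k l), h3]
  rcases (h3 k).1 ⟨IsConj.refl k, hk⟩ with rfl | rfl
  · rw [eq_inv_of_mul_eq_one_right h4]
  · rw [eq_inv_of_mul_eq_one_left h4, or_comm]

theorem not_three_dvd_cR {k : G} (hk : k ∈ (R : Subgroup G)) : ¬ 3 ∣ (cR R k).card := by
  let _ : MulAction (Nm (R : Subgroup G)) G := MulAction.compHom G (MulAut.conj.comp (Nm (R : Subgroup G)).subtype)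
  have h1 : MulAction.orbit (Nm (R : Subgroup G)) k = cR R k := by
    ext l
    rw [Finset.mem_coe, mem_cR]
    exact ⟨fun ⟨n, e⟩ => e ▸ ⟨isConj_iff.2 ⟨n, rfl⟩, nz_of_mem n.2 k hk⟩, fun e => by
      obtain ⟨n, hn, e⟩ := fusion9 R h9 hk e.2 e.1
      exact ⟨⟨n, hn⟩, e⟩⟩
  have h2 := MulAction.index_stabilizer (Nm (R : Subgroup G)) k
  rw [h1, Set.ncard_coe_finset] at h2
  intro e
  refine R.not_dvd_index ((e.trans (h2 ▸ Subgroup.index_dvd_of_le (H := (R : Subgroup G).subgroupOf _)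
    fun n hn => ?_)).trans (Subgroup.relIndex_dvd_index_of_le Subgroup.le_normalizer))
  exact mul_inv_eq_iff_eq_mul.2 (comm9' R h9 hn hk).eq

theorem exists_K {u : G} (hu : u ∈ (R : Subgroup G))
    (h : ∀ n ∈ Nm (R : Subgroup G), Commute n u → ∀ k ∈ (R : Subgroup G), Commute n k) :
    ∃ K : Subgroup G, (∀ y, y ∈ K ↔ Commute u y ∧ Reg 3 y) ∧ Nat.card K * 9 = Nat.card (Cz u) := by
  have h1 : (R : Subgroup G) ≤ Cz u := fun k hk => mem_Cz.2 (comm9' R h9 hk hu).eq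
  let P := R.subtype h1
  have hP : Subgroup.normalizer (P : Set (Cz u)) ≤ Subgroup.centralizer (P : Set (Cz u)) := fun n hn k hk =>
    Subtype.ext (h n (Nz.mem_normalizer fun l hl => nz_of_mem (K := (P : Subgroup (Cz u))) hn ⟨l, h1 hl⟩ hl) (mem_Cz.1 n.2) k hk).eq.symm
  have h2 := MonoidHom.ker_transferSylow_isComplement' P hP
  have h3 := MonoidHom.not_dvd_card_ker_transferSylow P hP
  refine ⟨(MonoidHom.transferSylow P hP).ker.map (Cz u).subtype, fun y => ⟨?_, fun e => ⟨⟨y, mem_Cz.2 e.1.eq.symm⟩,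
    ?_, rfl⟩⟩, ?_⟩
  · rintro ⟨y, hy, rfl⟩
    exact ⟨(mem_Cz.1 y.2).symm, (reg_coe y).2 fun e => h3 (e.trans (Subgroup.orderOf_dvd_natCard _ hy))⟩
  · exact eq_one_of_reg_pe (p := 3) (reg_map _ ((reg_coe _).1 e.2)) (P.2 _)
  · rw [Subgroup.card_subtype, ← h2.card_mul_card, ← h9]
    congr 1
    exact (Nat.card_congr (Subgroup.subgroupOfEquivOfLe h1).toEquiv).symm

end Syl

end Cfsg.Agent.Nine
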