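import Cfsg.Agent.Lib.Nine.R

/-! Weight spaces, characters of prime degree, characters of degree nine. -/

set_option autoImplicit false
set_option linter.unusedSectionVars false

open Cfsg Cfsg.Agent.Char Cfsg.Agent.Blk
open scoped ComplexConjugate Classical

namespace Cfsg.Agent.Nine

universe u

variable {G : Type u} [Group G]

theorem wt [Finite G] {χ : G → ℂ} (hχ : IsCharacter G χ) {g : G} (hg : g ∈ Subgroup.center G) {n : ℕ}
    (hn : n ≠ 0) (h : g ^ n = 1) {ζ : ℂ} (hζ : ζ ^ n = 1) :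
    IsCharacter G fun x => (n : ℂ)⁻¹ * ∑ k ∈ Finset.range n, ζ ^ k * χ (g ^ k * x) := by
  refine isChar_induction (P := fun χ => IsCharacter G fun x => (n : ℂ)⁻¹ * ∑ k ∈ Finset.range n,
    ζ ^ k * χ (g ^ k * x)) (by convert isChar_zero (G := G); simp) (fun χ hχ => ?_) (fun χ ψ _ _ h1 h2 => ?_) hχ
  · have h1 : ∀ k x, χ (g ^ k * x) = (χ g / χ 1) ^ k * χ x := fun k x => by
      induction k with
      | zero => simp
      | succ k ih => rw [pow_succ', mul_assoc, irr_central_mul hχ hg, ih, pow_succ', mul_assoc]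
    have h2 : (χ g / χ 1) ^ n = 1 := by
      have := h1 n 1
      rwa [h, mul_one, eq_comm, mul_eq_right₀ (irr_one_ne_zero hχ)] at this
    simp only [h1, ← mul_assoc, ← mul_pow, ← Finset.sum_mul]
    by_cases e : ζ * (χ g / χ 1) = 1
    · simpa [e, hn] using isChar_of_irr hχ
    · rw [geom_sum_eq e, mul_pow, hζ, h2]
      convert isChar_zero (G := G); simp
  · convert isChar_add h1 h2 using 2 with x
    simp [mul_add, Finset.sum_add_distrib]

theorem wt3 [Finite G] {χ : G → ℂ} (hχ : IsCharacter G χ) {g h k : G} (c1 : Commute g h) (c2 : Commute g k)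
    (c3 : Commute h k) {n m l : ℕ} (hn : n ≠ 0) (hm : m ≠ 0) (hl : l ≠ 0) (e1 : g ^ n = 1) (e2 : h ^ m = 1)
    (e3 : k ^ l = 1) {ζ ξ η : ℂ} (f1 : ζ ^ n = 1) (f2 : ξ ^ m = 1) (f3 : η ^ l = 1) :
    ∃ d : ℕ, ∑ c ∈ Finset.range l, η ^ c * ∑ b ∈ Finset.range m, ξ ^ b * ∑ a ∈ Finset.range n,
      ζ ^ a * χ (g ^ a * (h ^ b * k ^ c)) = n * m * l * d := by
  let B := Subgroup.centralizer ({g, h, k} : Set G)
  have hg : g ∈ B := by simp [B, Subgroup.mem_centralizer_iff, c1.eq, c2.eq]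
  have hh : h ∈ B := by simp [B, Subgroup.mem_centralizer_iff, c1.eq, c3.eq]
  have hk : k ∈ B := by simp [B, Subgroup.mem_centralizer_iff, c2.eq, c3.eq]
  have z : ∀ x (hx : x ∈ B), x ∈ ({g, h, k} : Set G) → (⟨x, hx⟩ : B) ∈ Subgroup.center B := fun x hx e =>
    Subgroup.mem_center_iff.2 fun y => Subtype.ext (y.2 x e).symm
  obtain ⟨d, hd⟩ := exists_nat_degree (wt (wt (wt (isChar_restrict B hχ) (z g hg (by simp)) hn (Subtype.ext e1) f1)
    (z h hh (by simp)) hm (Subtype.ext e2) f2) (z k hk (by simp)) hl (Subtype.ext e3) f3)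
  simp only [mul_one, Subgroup.coe_mul, SubgroupClass.coe_pow] at hd
  refine ⟨d, ?_⟩
  have hn' : (n : ℂ) ≠ 0 := by exact_mod_cast hn
  have hm' : (m : ℂ) ≠ 0 := by exact_mod_cast hm
  have hl' : (l : ℂ) ≠ 0 := by exact_mod_cast hl
  rw [← hd]
  simp only [Finset.mul_sum]
  refine Finset.sum_congr rfl fun _ _ => Finset.sum_congr rfl fun _ _ => Finset.sum_congr rfl fun _ _ => ?_
  field_simp

theorem wt2 [Finite G] {χ : G → ℂ} (hχ : IsCharacter G χ) {g h : G} (c1 : Commute g h) {n m : ℕ} (hn : n ≠ 0)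
    (hm : m ≠ 0) (e1 : g ^ n = 1) (e2 : h ^ m = 1) {ζ ξ : ℂ} (f1 : ζ ^ n = 1) (f2 : ξ ^ m = 1) :
    ∃ d : ℕ, ∑ b ∈ Finset.range m, ξ ^ b * ∑ a ∈ Finset.range n, ζ ^ a * χ (g ^ a * h ^ b) = n * m * d := by
  simpa using wt3 hχ c1 (Commute.one_right g) (Commute.one_right h) hn hm one_ne_zero e1 e2 (pow_one 1) f1 f2
    (pow_one 1)

theorem avg_char [Fintype G] {χ : G → ℂ} (hχ : IsCharacter G χ) (S : Subgroup G) :
    IsCharacter (Nm S) fun s => (Nat.card S : ℂ)⁻¹ * (χ s + ∑ r ∈ Rs S, χ (r * s)) := by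
  have := isChar_weight S.subtype (Nm S).subtype (fun _ => 1) (by simp) (fun s => ⟨(S.normalizerMonoidHom s).toEquiv,
    fun r => ⟨show (s : G) * r = s * r * (s : G)⁻¹ * s by simp, rfl⟩⟩) hχ
  convert this using 3 with s
  simpa using (sum_sub S fun r => χ (r * s)).symm

theorem inv_bound [Finite G] {χ : G → ℂ} (hχ : IsCharacter G χ) {v t : G} (hv : orderOf v = 3)
    (ht : t * v * t⁻¹ = v⁻¹) : 3 * ‖χ t‖ ≤ ‖χ 1 + χ v + χ v⁻¹‖ := by
  have := Fintype.ofFinite G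
  have h3 : v ^ 3 = 1 := hv ▸ pow_orderOf_eq_one v
  have h1 := ne_one_of_orderOf Nat.prime_three hv
  have h2 : v ≠ v⁻¹ := fun e => h1 (by simpa [← e] using inv_sq h3)
  have h4 : Rs (Subgroup.zpowers v) = {v, v⁻¹} := by
    ext g
    rw [mem_Rs, Finset.mem_insert, Finset.mem_singleton]
    exact ⟨fun e => (mem_zpowers_three h3 e.1).resolve_left e.2, by rintro (rfl | rfl) <;> simp [h1]⟩
  have h5 : t ∈ Nm (Subgroup.zpowers v) := Nz.mem_normalizer (by
    rintro _ ⟨i, rfl⟩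
    simp [← conj_zpow, ht])
  have h6 := norm_char_le (avg_char hχ (Subgroup.zpowers v)) ⟨t, h5⟩
  have h7 : t * v = v⁻¹ * t := by rw [← ht]; simp
  have h8 : χ (v * t) = χ t := by
    rw [← isClass_of_isChar hχ t v⁻¹, inv_inv, mul_assoc, h7, ← mul_assoc, inv_sq h3]
  have h9 : χ (v⁻¹ * t) = χ t := by
    rw [← isClass_of_isChar hχ t v, mul_assoc, show t * v⁻¹ = v * t by
      rw [mul_inv_eq_iff_eq_mul, mul_assoc, h7, mul_inv_cancel_left], ← mul_assoc,
      ← inv_eq_sq h3]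
  simp only [h4, Finset.sum_pair h2, h8, h9, Nat.card_zpowers, hv, OneMemClass.coe_one, mul_one, norm_mul,
    ← add_assoc] at h6
  rw [show χ t + χ t + χ t = 3 * χ t by ring, norm_mul] at h6
  simpa [-mul_le_mul_iff_right₀, inv_mul_cancel_left₀, inv_mul_le_iff₀] using le_of_mul_le_mul_left h6 (by simp)

section
variable [Fintype G] [IsSimpleGroup G] (hG : ¬ IsMulCommutative G)
include hG

theorem eq_one_of_vanish {θ : IrrCharacter G} (hθ : θ ≠ triv G) {S : Subgroup G} (hS : Nat.card S = dg θ) {v : G}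
    (hv : v ∈ Nm S) (h0 : ∀ r ∈ Rs S, θ.1 r = 0) (h1 : ∀ r ∈ Rs S, θ.1 (r * v) = 0) : v = 1 := by
  by_contra e
  have h2 := avg_char (ch θ) S
  have h3 : (Nat.card S : ℂ)⁻¹ * (θ.1 (1 : Nm S) + ∑ r ∈ Rs S, θ.1 (r * (1 : Nm S))) = 1 := by
    simp [Finset.sum_eq_zero h0, apply_one, hS, dg_ne θ, -Nat.card_eq_fintype_card]
  have h4 := norm_eq_one_of_mul h3 (map_mul_of_degree_one h2 h3) ⟨v, hv⟩
  simp only [Finset.sum_eq_zero h1, add_zero, norm_mul, norm_inv, hS, Complex.norm_natCast] at h4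
  rw [inv_mul_eq_one₀ (by exact_mod_cast (dg_pos θ).ne')] at h4
  exact norm_ne_dg hG hθ e h4.symm

theorem prime_deg {φ : IrrCharacter G} (hφ : φ ≠ triv G) {q m b : ℕ} (hq : q.Prime) (hd : dg φ = q)
    (hc : Nat.card G = m * q ^ b) (hm : ¬ q ∣ m) : b = 1 ∧ ∀ g : G, q ∣ orderOf g → orderOf g = q := by
  have : Fact q.Prime := ⟨hq⟩
  have h0 : ∀ g : G, g ≠ 1 → q ^ b ∣ Nat.card (Cz g) → φ.1 g = 0 := fun g h1 h2 =>
    burnside hG hφ h1 (hd ▸ hq.coprime_iff_not_dvd.2 fun e => hm (e.trans (Nat.dvd_of_mul_dvd_mul_right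
      (pow_pos hq.pos b) (hc ▸ (Cz g).index_mul_card ▸ Nat.mul_dvd_mul_left _ h2))))
  obtain ⟨z, hz, hz'⟩ := exists_central_elt hq (hd ▸ dg_dvd φ)
  have h1 : q ^ b ∣ Nat.card (Cz z) := Nat.Coprime.dvd_of_dvd_mul_left
    (Nat.Coprime.pow_left b (hq.coprime_iff_not_dvd.2 hz')) (by rw [(Cz z).index_mul_card, hc]; simp)
  let Z := Subgroup.zpowers z
  have hZ : Nat.card Z = q := by rw [Nat.card_zpowers, hz]
  have := Fintype.ofFinite (Z →* ℂˣ)
  have hzc : ∀ (s : Cz z) (r : Z), (s : G) * r = r * s := by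
    rintro s ⟨_, i, rfl⟩
    exact (Commute.zpow_right (mem_Cz.1 s.2) i).eq
  have h2 : ∀ r ∈ Rs Z, φ.1 r = 0 := fun r hr => h0 r (mem_Rs.1 hr).2 (h1.trans (Subgroup.card_dvd_of_le
    fun s hs => mem_Cz.2 (hzc ⟨s, hs⟩ ⟨r, (mem_Rs.1 hr).1⟩)))
  have h3 : ∀ a ∈ Cz z, ∀ c ∈ Cz z, a * c = c * a := fun a ha c hc => by
    by_contra e
    refine ne_dg hφ (g := a * c * (c * a)⁻¹) (fun e' => e (mul_inv_eq_one.1 e')) ?_
    have h4 := apply_eq_sum_unitsHom (fun r : Z => φ.1 (r * (a * c * (c * a)⁻¹))) 1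
    simp only [OneMemClass.coe_one, one_mul, map_one, Units.val_one, mul_one] at h4
    rw [h4, Finset.sum_congr rfl (g := fun _ => 1), Finset.sum_const, Finset.card_univ, ← Nat.card_eq_fintype_card,
      card_unitsHom, hZ, hd, nsmul_eq_mul, mul_one]
    intro l _
    have h5 := isChar_weight Z.subtype (Cz z).subtype (fun r => (l r : ℂ)) (by simp)
      (fun s => ⟨Equiv.refl _, fun r => ⟨hzc s r, rfl⟩⟩) (ch φ)
    have h6 : (Nat.card Z : ℂ)⁻¹ * ∑ r, conj (l r : ℂ) * φ.1 (Z.subtype r * (Cz z).subtype 1) = 1 := by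
      rw [Finset.sum_eq_single 1 (fun r _ e => by
        simp [h2 r (mem_Rs.2 ⟨r.2, by simpa using e⟩)]) (by simp)]
      simp [apply_one, hZ, hd, hq.ne_zero, -Nat.card_eq_fintype_card]
    have h7 := map_mul_of_degree_one h5 h6
    have h8 := h7 (⟨a, ha⟩ * ⟨c, hc⟩) (⟨c, hc⟩ * ⟨a, ha⟩)⁻¹
    rw [class_mul_comm (isClass_of_isChar h5) ⟨a, ha⟩, ← h7, mul_inv_cancel, h6] at h8
    simpa [classInner, mul_comm] using h8
  have h4 : b = 1 := by
    obtain ⟨Q, hQ⟩ := Sylow.exists_subgroup_card_pow_prime q h1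
    rw [← Subgroup.card_subtype] at hQ
    obtain ⟨d, hd'⟩ := exists_nat_inner (isChar_restrict (Q.map (Cz z).subtype) (ch φ)) isChar_one
    rw [inner_one_right, sum_sub, Finset.sum_eq_zero fun r hr => h0 r (mem_Rs.1 hr).2 (h1.trans
      (Subgroup.card_dvd_of_le fun s hs => mem_Cz.2 (h3 s hs r (Subgroup.map_subtype_le _ (mem_Rs.1 hr).1)))),
      add_zero, apply_one, hQ, hd, inv_mul_eq_iff_eq_mul₀ (by exact_mod_cast pow_ne_zero b hq.ne_zero)] at hd'
    have h5 : q ^ b ∣ q ^ 1 := ⟨d, by rw [pow_one]; exact_mod_cast hd'⟩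
    have h6 := (Nat.pow_dvd_pow_iff_le_right hq.one_lt).1 h5
    rcases b with _ | b
    · exact absurd (by simpa [hc, hd, -Nat.card_eq_fintype_card] using dg_dvd φ) hm
    · omega
  subst h4
  refine ⟨rfl, fun g hg => ?_⟩
  have h5 : ∀ g : G, q ∣ orderOf g → φ.1 g = 0 := fun g =>
    zero_of_defect φ (k := 1) hq (mul_comm m _ ▸ hc) hm (by simp [hd])
  have h6 : orderOf (pp q g) = q := by
    obtain ⟨k, hk⟩ := pe_pp (p := q) g
    obtain ⟨i, -, hi⟩ := (Nat.dvd_prime_pow hq).1 (orderOf_dvd_of_pow_eq_one hk)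
    have e1 := (pow_dvd_orderOf_iff (p := q) g 1).1 (by simpa using hg)
    have e2 := Nat.Coprime.dvd_of_dvd_mul_left (hi ▸ Nat.Coprime.pow_left i (hq.coprime_iff_not_dvd.2 hm))
      (hc ▸ orderOf_dvd_natCard (pp q g))
    simpa using Nat.dvd_antisymm e2 e1
  have h7 : ∀ r ∈ Rs (Subgroup.zpowers (pp q g)), ∀ v, Commute (pp q g) v → Reg q v → φ.1 (r * v) = 0 := by
    intro r hr v c hv
    obtain ⟨⟨i, rfl⟩, e⟩ := mem_Rs.1 hr
    refine h5 _ (by_contra fun e' => e ?_)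
    exact (pp_eq (c.zpow_left i) (pe_zpow (pe_pp g) i) hv).symm.trans (reg_iff_pp.1 e')
  rw [orderOf_eq_mul (p := q), h6, eq_one_of_vanish hG hφ (S := Subgroup.zpowers (pp q g)) (v := rp q g)
    (by rw [Nat.card_zpowers, h6, hd]) (Nz.mem_normalizer (by
      rintro _ ⟨i, rfl⟩
      rw [← ((commute_pp_rp g).zpow_left i).eq]; simp))
    (fun r hr => by simpa using h7 r hr 1 (Commute.one_right _) reg_one)
    fun r hr => h7 r hr _ (commute_pp_rp g) (reg_rp g), orderOf_one, mul_one]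

theorem dg_ne_three (R : Sylow 3 G) (h9 : Nat.card R = 9) (θ : IrrCharacter G) : dg θ ≠ 3 := fun e => by
  obtain ⟨d, hd⟩ := exists_nat_inner (isChar_restrict (R : Subgroup G) (ch θ)) isChar_one
  rw [inner_one_right, sum_sub, Finset.sum_eq_zero fun r hr => burnside hG (fun e' => by simp [e', dg_triv] at e)
    (mem_Rs.1 hr).2 (e ▸ Nat.prime_three.coprime_iff_not_dvd.2 fun e' => R.not_dvd_index (e'.trans
      (Subgroup.index_dvd_of_le fun s hs => mem_Cz.2 (comm9' R h9 hs (mem_Rs.1 hr).1).eq))),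
    add_zero, apply_one, h9, e, inv_mul_eq_iff_eq_mul₀ (by norm_num)] at hd
  have : 3 = 9 * d := by exact_mod_cast hd
  omega

theorem exists_nine (R : Sylow 3 G) (h9 : Nat.card R = 9) {q a : ℕ} (hq : q.Prime) (hq2 : q ≠ 2) (hq3 : q ≠ 3)
    (hc : Nat.card G = 9 * 2 ^ a * q) : ∃ θ : IrrCharacter G, dg θ = 9 := by
  have := Fintype.ofFinite (IrrCharacter G)
  have : Fact q.Prime := ⟨hq⟩
  obtain ⟨y, hy⟩ := exists_prime_orderOf_dvd_card' (G := G) q (hc ▸ dvd_mul_left _ _)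
  by_contra e
  push Not at e
  have h1 := sum_degree_mul y
  rw [regChar_of_ne (ne_one_of_orderOf hq hy), ← Finset.add_sum_erase _ _ (Finset.mem_univ (triv G))] at h1
  have h2 : IsIntegral ℤ ((∑ χ ∈ Finset.univ.erase (triv G), χ.1 1 * χ.1 y) / 2) := by
    rw [Finset.sum_div]
    refine IsIntegral.sum _ fun χ hχ => ?_
    by_cases e1 : q ∣ dg χ
    · simpa [zero_of_defect χ (k := 1) hq (by rw [hc, pow_one, mul_comm]) (not_dvd_nine hq hq2 hq3)
        (by simpa using e1) hy.symm.dvd] using isIntegral_zero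
    by_cases e2 : 2 ∣ dg χ
    · obtain ⟨d, hd⟩ := e2
      rw [apply_one, hd, show ((2 * d : ℕ) : ℂ) * χ.1 y / 2 = (d : ℤ) * χ.1 y by push_cast; ring]
      exact (isIntegral_algebraMap (x := (d : ℤ))).mul (isIntegral_char (ch χ) y)
    have h3 : dg χ ∣ 9 := Nat.Coprime.dvd_of_dvd_mul_right (Nat.Coprime.pow_right a
      (Nat.prime_two.coprime_iff_not_dvd.2 e2).symm) (Nat.Coprime.dvd_of_dvd_mul_right
        (hq.coprime_iff_not_dvd.2 e1).symm (hc ▸ dg_dvd χ))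
    have := two_le_dg hG (Finset.mem_erase.1 hχ).1
    have := dg_ne_three hG R h9 χ
    have := e χ
    have := Nat.le_of_dvd (by norm_num) h3
    generalize dg χ = d at *
    interval_cases d <;> omega
  have := dvd_of_isIntegral_div (a := -1) (b := 2) (by norm_num) (by
    convert h2 using 1
    simp only [triv_apply] at h1
    push_cast
    linear_combination (-1 / 2 : ℂ) * h1)
  omega

end

section TI
variable [Fintype G] {Q : Subgroup G} (hQ : ∀ y ∈ Rs Q, Cz y = Q)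
include hQ

theorem card_cR_gen {k : G} (hk : k ∈ Rs Q) : (cR Q k).card * Nat.card Q = Nat.card (Nm Q) := by
  rw [Nat.card_eq_fintype_card (α := Nm Q), Fintype.card_subtype, eq_comm,
    Finset.card_eq_sum_card_fiberwise (f := fun y => y * k * y⁻¹) (t := cR Q k)
      (s := Finset.univ.filter (· ∈ Nm Q)), Finset.sum_const_nat]
  · intro l hl
    have h2 := card_conjugators (mem_cR.1 hl).1
    rw [show Subgroup.centralizer ({k} : Set G) = Q from hQ k hk] at h2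
    rw [← h2, Nat.card_eq_fintype_card, Fintype.card_subtype, Finset.filter_filter]
    congr 1
    refine Finset.filter_congr fun y _ => ⟨fun e => e.2, fun e => ⟨Nz.mem_normalizer fun j hj => ?_, e⟩⟩
    rw [← hQ l (cR_sub (mem_Rs.1 hk).2 hl), mem_Cz, ← e, conj_mul, conj_mul, mem_Cz.1 (hQ k hk ▸ hj : j ∈ Cz k)]
  · intro y hy
    exact mem_cR.2 ⟨isConj_iff.2 ⟨y, rfl⟩, nz_of_mem (by simpa using hy) k (mem_Rs.1 hk).1⟩

variable {m : ℕ} (hm : Nat.card (Nm Q) = m * Nat.card Q)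
include hm

theorem card_cR_m {k : G} (hk : k ∈ Rs Q) : (cR Q k).card = m :=
  Nat.eq_of_mul_eq_mul_right Nat.card_pos ((card_cR_gen hQ hk).trans hm)

theorem sum_t_sq [Fintype (IrrCharacter G)] :
    ∑ θ : IrrCharacter G, ‖∑ y ∈ Rs Q, θ.1 y‖ ^ 2 = (Rs Q).card * (m * Nat.card Q) := by
  have : ∑ θ : IrrCharacter G, (∑ y ∈ Rs Q, θ.1 y) * conj (∑ y ∈ Rs Q, θ.1 y) =
      (Rs Q).card * (m * Nat.card Q) := by
    simp only [map_sum, Finset.sum_mul_sum]
    rw [Finset.sum_comm, Finset.sum_congr rfl (g := fun _ => (m * Nat.card Q : ℂ)), Finset.sum_const, nsmul_eq_mul]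
    intro y hy
    rw [Finset.sum_comm]
    simp only [second_orthogonality, ← Finset.sum_filter, Finset.sum_const, nsmul_eq_mul]
    rw [show Subgroup.centralizer ({y} : Set G) = Q from hQ y hy, ← card_cR_m hQ hm hy]
    congr 3
    ext l
    rw [Finset.mem_filter]
    exact ⟨fun e => mem_cR.2 ⟨e.2, (mem_Rs.1 e.1).1⟩, fun e => ⟨cR_sub (mem_Rs.1 hy).2 e, (mem_cR.1 e).1⟩⟩
  simp only [Complex.mul_conj, Complex.normSq_eq_norm_sq] at this
  exact_mod_cast this

theorem exists_t [IsSimpleGroup G] (hG : ¬ IsMulCommutative G) (h1 : 1 < Nat.card Q) {θ : IrrCharacter G}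
    (hθ : θ ≠ triv G) : ∃ n : ℕ, n < dg θ ∧ ∑ y ∈ Rs Q, θ.1 y = ((Nat.card Q * n - dg θ : ℤ) : ℂ) ∧
      (m : ℤ) ∣ Nat.card Q * n - dg θ := by
  obtain ⟨n, hn⟩ := exists_nat_inner (isChar_restrict Q (ch θ)) isChar_one
  rw [inner_one_right, sum_sub, apply_one, inv_mul_eq_iff_eq_mul₀ natCard_ne_zero] at hn
  have h2 : ∑ y ∈ Rs Q, θ.1 y = ((Nat.card Q * n - dg θ : ℤ) : ℂ) := by push_cast; linear_combination hn
  have h3 := sum_sub Q fun _ => 1
  simp only [Finset.sum_const, Finset.card_univ, smul_eq_mul, mul_one, ← Nat.card_eq_fintype_card] at h3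
  have h0 : (Rs Q).Nonempty := Finset.card_pos.1 (by omega)
  refine ⟨n, ?_, h2, ?_⟩
  · have h4 : ‖∑ y ∈ Rs Q, θ.1 y‖ < ∑ y ∈ Rs Q, (dg θ : ℝ) := (norm_sum_le _ _).trans_lt
      (Finset.sum_lt_sum_of_nonempty h0 fun y hy => lt_of_le_of_ne
        (by simpa [apply_one] using norm_char_le (ch θ) y) (norm_ne_dg hG hθ (mem_Rs.1 hy).2))
    rw [h2, Complex.norm_intCast, Finset.sum_const, nsmul_eq_mul, h3] at h4
    have h5 : (((1 + (Rs Q).card : ℕ) : ℤ) * n - dg θ) < (Rs Q).card * dg θ := by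
      exact_mod_cast (le_abs_self _).trans_lt h4
    push_cast at h5
    by_contra e
    have : (dg θ : ℤ) ≤ n := by exact_mod_cast not_lt.1 e
    nlinarith [mul_le_mul_of_nonneg_left this (Nat.cast_nonneg (α := ℤ) (Rs Q).card)]
  · obtain ⟨y0, hy0⟩ := h0
    have hm0 : 0 < m := card_cR_m hQ hm hy0 ▸ Finset.card_pos.2 ⟨y0, mem_cR.2 ⟨IsConj.refl _, (mem_Rs.1 hy0).1⟩⟩
    refine dvd_of_isIntegral_div (by exact_mod_cast hm0.ne') ?_
    rw [← h2, ← Finset.sum_fiberwise_of_maps_to (t := (Rs Q).image ConjClasses.mk)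
      fun y hy => Finset.mem_image_of_mem ConjClasses.mk hy, Finset.sum_div]
    refine IsIntegral.sum _ fun c hc => ?_
    obtain ⟨l, hl, rfl⟩ := Finset.mem_image.1 hc
    rw [show (Rs Q).filter (fun i => ConjClasses.mk i = ConjClasses.mk l) = cR Q l from ?_,
      Finset.sum_congr rfl (g := fun _ => θ.1 l) fun k hk => (conj_eq θ (mem_cR.1 hk).1).symm, Finset.sum_const,
      card_cR_m hQ hm hl, nsmul_eq_mul, Int.cast_natCast, mul_div_cancel_left₀ _ (by exact_mod_cast hm0.ne')]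
    · exact isIntegral_char (ch θ) l
    ext j
    rw [Finset.mem_filter, ConjClasses.mk_eq_mk_iff_isConj]
    exact ⟨fun e => mem_cR.2 ⟨e.2.symm, (mem_Rs.1 e.1).1⟩, fun e => ⟨cR_sub (mem_Rs.1 hl).2 e, (mem_cR.1 e).1.symm⟩⟩

end TI

theorem mult_sq [Fintype G] [Fintype (IrrCharacter G)] (θ : IrrCharacter G) (h : ∀ g, 3 ∣ orderOf g → θ.1 g = 0) :
    ∃ m : IrrCharacter G → ℕ, m (triv G) = 1 ∧ ∑ χ, m χ * dg χ = dg θ ^ 2 ∧ ∀ A B : IrrCharacter G,
      (∀ g, ¬ 3 ∣ orderOf g → 1 + (A.1 g - B.1 g) = 0) → m B = 1 + m A := by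
  have hc := isChar_mul (ch θ) (isChar_conj (ch θ))
  choose m hm using fun χ : IrrCharacter G => exists_nat_inner hc (ch χ)
  have h1 : m (triv G) = 1 := by
    have := hm (triv G)
    rw [show classInner _ (triv G).1 = classInner θ.1 θ.1 by simp [classInner], inner_irr_self θ.2] at this
    exact_mod_cast this.symm
  refine ⟨m, h1, ?_, fun A B e => ?_⟩
  · have := class_apply_eq_sum_irr (isClass_of_isChar hc) 1
    simp only [hm, Pi.mul_apply, apply_one, map_natCast, ← sq] at this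
    exact_mod_cast this.symm
  · have : classInner (θ.1 * fun g => conj (θ.1 g)) ((triv G).1 + (A.1 - B.1)) = 0 := by
      rw [classInner, Finset.sum_eq_zero fun g _ => ?_, mul_zero]
      by_cases e1 : 3 ∣ orderOf g
      · simp [h g e1]
      · simp only [Pi.add_apply, Pi.sub_apply, triv_apply, e g e1, map_zero, mul_zero]
    rw [Char.inner_add_right, Char.inner_sub_right, hm, hm, hm, h1] at this
    exact_mod_cast (by linear_combination -this : (m B : ℂ) = 1 + m A)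

end Cfsg.Agent.Nine
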