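import Cfsg.Agent.Lib.Nine.S

/-! The principal `3`-block when the automizer has order two. -/

set_option autoImplicit false
set_option linter.unusedSectionVars false

open Cfsg Cfsg.Agent.Char Cfsg.Agent.Blk
open scoped ComplexConjugate Classical

namespace Cfsg.Agent.Nine

universe u

theorem star_aux' {Λ ι : Type*} [Group Λ] [Fintype Λ] (hΛ : Fintype.card Λ = 9) {o : ι} {γ : Λ → ι → ℤ} {s : ℤ}
    {C B : Λ → ι} (h0 : ∀ i, γ 1 i = 0) (hi : ∀ l : Λ, l ≠ 1 → l⁻¹ ≠ l)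
    (h1 : ∀ l, l ≠ 1 → C l ≠ o ∧ B l ≠ o ∧ C l ≠ B l ∧ ∀ i, γ l i =
      (if i = C l then s else 0) - (if i = B l then s else 0) - if i = o then 1 else 0)
    (h2 : ∀ l m, l ≠ 1 → m ≠ 1 → C l = C m) (h3 : ∀ l m, l ≠ 1 → m ≠ 1 → (B m = B l ↔ m = l ∨ m = l⁻¹)) :
    ∃ (χ : ι) (L : Finset ι), χ ≠ o ∧ o ∉ L ∧ χ ∉ L ∧ L.card = 4 ∧ (∀ ψ ∈ L, ∃ l, ∀ i, γ l i =
      (if i = χ then s else 0) - (if i = ψ then s else 0) - if i = o then 1 else 0) ∧
      (∀ l, l ≠ 1 → ∃ ψ ∈ L, ∀ i, γ l i =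
      (if i = χ then s else 0) - (if i = ψ then s else 0) - if i = o then 1 else 0) ∧
      ∑ l, γ l χ = 8 * s ∧ ∀ θ, θ ≠ o → θ ≠ χ → θ ∉ L → ∀ l, γ l θ = 0 := by
  have h8 : (Finset.univ.erase (1 : Λ)).card = 8 := by
    rw [Finset.card_erase_of_mem (Finset.mem_univ _), Finset.card_univ, hΛ]
  obtain ⟨l0, hl0⟩ : (Finset.univ.erase (1 : Λ)).Nonempty := Finset.card_pos.1 (by omega)
  replace hl0 := (Finset.mem_erase.1 hl0).1
  have hL : ∀ ψ, ψ ∈ (Finset.univ.erase (1 : Λ)).image B ↔ ∃ l, l ≠ 1 ∧ B l = ψ := fun ψ => by simp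
  refine ⟨C l0, (Finset.univ.erase 1).image B, (h1 l0 hl0).1, fun e => ?_, fun e => ?_, ?_, fun ψ e => ?_,
    fun l hl => ⟨_, (hL _).2 ⟨l, hl, rfl⟩, h2 l l0 hl hl0 ▸ (h1 l hl).2.2.2⟩, ?_,
    fun θ e1 e2 e3 l => ?_⟩
  · obtain ⟨l, hl, e⟩ := (hL _).1 e
    exact (h1 l hl).2.1 e
  · obtain ⟨l, hl, e⟩ := (hL _).1 e
    exact (h1 l hl).2.2.1 ((h2 l l0 hl hl0).trans e.symm)
  · rw [Finset.card_eq_sum_card_image B, Finset.sum_const_nat (m := 2)] at h8
    · omega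
    intro ψ e
    obtain ⟨l, hl, rfl⟩ := (hL _).1 e
    rw [← Finset.card_pair (hi l hl).symm]
    congr 1
    ext m
    simp only [Finset.mem_filter, Finset.mem_erase, Finset.mem_univ, and_true, Finset.mem_insert,
      Finset.mem_singleton]
    exact ⟨fun e => (h3 l m hl e.1).1 e.2, fun e => by
      have : m ≠ 1 := by rcases e with rfl | rfl <;> simpa using hl
      exact ⟨this, (h3 l m hl this).2 e⟩⟩
  · obtain ⟨l, hl, rfl⟩ := (hL _).1 e
    exact ⟨l, h2 l l0 hl hl0 ▸ (h1 l hl).2.2.2⟩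
  · rw [← Finset.add_sum_erase _ _ (Finset.mem_univ 1), h0, zero_add, Finset.sum_congr rfl (g := fun _ => s),
      Finset.sum_const, h8]
    · simp
    intro l hl
    replace hl := (Finset.mem_erase.1 hl).1
    obtain ⟨a1, -, a2, a3⟩ := h1 l hl
    rw [a3, h2 l0 l hl0 hl]
    simp [a1, a2]
  · by_cases hl : l = 1
    · rw [hl, h0]
    rw [(h1 l hl).2.2.2, if_neg e1, if_neg (h2 l l0 hl hl0 ▸ e2), if_neg fun e => e3 ((hL _).2 ⟨l, hl, e.symm⟩)]
    rfl

theorem star_abs' {Λ ι : Type*} [Group Λ] [Fintype Λ] [Fintype ι] (hΛ : Fintype.card Λ = 9) {o : ι}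
    {γ : Λ → ι → ℤ} {D : ι → ℕ} (h0 : ∀ i, γ 1 i = 0) (hi : ∀ l : Λ, l ≠ 1 → l⁻¹ ≠ l) (ho : ∀ l, l ≠ 1 → γ l o = -1)
    (hD : ∀ i, 0 < D i) (hd : ∀ l, ∑ i, γ l i * D i = 0) (hDo : D o = 1)
    (hs : ∀ l m, l ≠ 1 → m ≠ 1 → ∑ i, γ l i * γ m i = 2 + (if m = l then 1 else 0) + if m = l⁻¹ then 1 else 0) :
    ∃ (s : ℤ) (χ : ι) (L : Finset ι), (s = 1 ∨ s = -1) ∧ χ ≠ o ∧ o ∉ L ∧ χ ∉ L ∧ L.card = 4 ∧
      (∀ ψ ∈ L, ∃ l, ∀ i, γ l i = (if i = χ then s else 0) - (if i = ψ then s else 0) - if i = o then 1 else 0) ∧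
      (∀ l, l ≠ 1 → ∃ ψ ∈ L, ∀ i, γ l i =
        (if i = χ then s else 0) - (if i = ψ then s else 0) - if i = o then 1 else 0) ∧
      ∑ l, γ l χ = 8 * s ∧ ∀ θ, θ ≠ o → θ ≠ χ → θ ∉ L → ∀ l, γ l θ = 0 := by
  have h1 : ∀ l, ∃ A B, l ≠ 1 → A ≠ o ∧ B ≠ o ∧ A ≠ B ∧ ∀ i, γ l i =
      (if i = A then 1 else 0) - (if i = B then 1 else 0) - if i = o then 1 else 0 := fun l => by
    by_cases hl : l = 1
    · exact ⟨o, o, fun e => absurd hl e⟩
    have h2 := hs l l hl hl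
    rw [← Finset.add_sum_erase _ _ (Finset.mem_univ o), ho l hl, if_pos rfl, if_neg (hi l hl).symm] at h2
    obtain ⟨A, hA, B, hB, hAB, a1, b1, h3⟩ := exists_two (s := Finset.univ.erase o) (f := γ l)
      (by simp only [sq]; omega)
    replace hA := (Finset.mem_erase.1 hA).1
    replace hB := (Finset.mem_erase.1 hB).1
    have h4 : ∀ i, i ≠ o → i ≠ A → i ≠ B → γ l i = 0 := fun i e => h3 i (by simpa using e)
    have h5 := hd l
    rw [sum_eq_three hA hB hAB fun i e1 e2 e3 => by rw [h4 i e1 e2 e3, zero_mul], ho l hl, hDo] at h5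
    have key : ∀ A B, A ≠ o → B ≠ o → A ≠ B → γ l A = 1 → γ l B = -1 → (∀ i, i ≠ o → i ≠ A → i ≠ B → γ l i = 0) →
        ∀ i, γ l i = (if i = A then 1 else 0) - (if i = B then 1 else 0) - if i = o then 1 else 0 := by
      intro A B a b c d e f i
      by_cases e1 : i = o
      · simp [e1, ho l hl, a.symm, b.symm]
      by_cases e2 : i = A
      · simp [e2, d, a, c]
      by_cases e3 : i = B
      · simp [e3, e, b, c.symm]
      simp [e1, e2, e3, f i e1 e2 e3]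
    have := hD A
    have := hD B
    rcases a1 with a1 | a1 <;> rcases b1 with b1 | b1 <;> rw [a1, b1] at h5
    · omega
    · exact ⟨A, B, fun _ => ⟨hA, hB, hAB, key A B hA hB hAB a1 b1 h4⟩⟩
    · exact ⟨B, A, fun _ => ⟨hB, hA, hAB.symm, key B A hB hA hAB.symm b1 a1 fun i e1 e2 e3 => h4 i e1 e3 e2⟩⟩
    · omega
  choose A B h1 using h1
  have h2 : ∀ l m, l ≠ 1 → m ≠ 1 → (if A m = A l then 1 else 0) - (if A m = B l then 1 else 0) -
      (if B m = A l then 1 else 0) + (if B m = B l then 1 else 0) =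
      (1 : ℤ) + (if m = l then 1 else 0) + if m = l⁻¹ then 1 else 0 := fun l m hl hm => by
    have h3 := hs l m hl hm
    obtain ⟨a1, a2, a3, a4⟩ := h1 m hm
    obtain ⟨b1, b2, b3, b4⟩ := h1 l hl
    simp only [a4, mul_sub, mul_ite, mul_one, mul_zero, Finset.sum_sub_distrib, Finset.sum_ite_eq',
      Finset.mem_univ, if_true] at h3
    rw [ho l hl, b4, b4, if_neg a1, if_neg a2] at h3
    linear_combination h3
  have h3 : ∀ l m, l ≠ 1 → m ≠ 1 → (A m = A l ∨ B m = B l) ∧ ((A m = A l ∧ B m = B l) ↔ m = l ∨ m = l⁻¹) :=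
    fun l m hl hm => ite_logic (h2 l m hl hm) (fun e => ⟨e ▸ (h1 l hl).2.2.1, e ▸ (h1 m hm).2.2.1.symm⟩)
      fun e => hi l hl (e.2.symm.trans e.1)
  by_cases h4 : ∀ l m, l ≠ 1 → m ≠ 1 → A l = A m
  · obtain ⟨χ, L, h5⟩ := star_aux' (s := 1) hΛ h0 hi h1 h4 fun l m hl hm => by
      rw [← (h3 l m hl hm).2, and_iff_right (h4 m l hm hl)]
    exact ⟨1, χ, L, Or.inl rfl, h5⟩
  · push Not at h4
    obtain ⟨l1, l2, a1, a2, a3⟩ := h4
    have h5 : ∀ l, l ≠ 1 → B l = B l1 := fun l hl => by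
      rcases (h3 l1 l a1 hl).1 with e | e
      · rw [((h3 l2 l a2 hl).1.resolve_left (e ▸ a3)), (h3 l1 l2 a1 a2).1.resolve_left a3.symm]
      · exact e
    obtain ⟨χ, L, h5⟩ := star_aux' (s := -1) (C := B) (B := A) hΛ h0 hi (fun l hl => by
      obtain ⟨b1, b2, b3, b4⟩ := h1 l hl
      refine ⟨b2, b1, b3.symm, fun i => ?_⟩
      rw [b4]; split_ifs <;> rfl) (fun l m hl hm => (h5 l hl).trans (h5 m hm).symm) fun l m hl hm => by
        rw [← (h3 l m hl hm).2, and_iff_left ((h5 m hm).trans (h5 l hl).symm)]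
    exact ⟨-1, χ, L, Or.inr rfl, h5⟩

variable {G : Type u} [Group G]

section
variable [Fintype G] (R : Sylow 3 G) (h9 : Nat.card R = 9)
  (he : ∀ k ∈ Rs (R : Subgroup G), ∀ l ∈ (R : Subgroup G), IsConj k l ↔ l = k ∨ l = k⁻¹)
include h9 he

theorem exists_K2 {u : G} (hu : u ∈ Rs (R : Subgroup G)) :
    ∃ K : Subgroup G, (∀ y, y ∈ K ↔ Commute u y ∧ Reg 3 y) ∧ Nat.card K * 9 = Nat.card (Cz u) := by
  obtain ⟨u1, u2⟩ := mem_Rs.1 hu
  refine exists_K R h9 u1 fun n hn c k hk => ?_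
  have key : ∀ k ∈ Rs (R : Subgroup G), n * k * n⁻¹ = k ∨ n * k * n⁻¹ = k⁻¹ := fun k hk =>
    (he k hk _ (nz_of_mem hn k (mem_Rs.1 hk).1)).1 (isConj_iff.2 ⟨n, rfl⟩)
  have h1 : n * u * n⁻¹ = u := mul_inv_eq_iff_eq_mul.2 c.eq
  by_contra e
  have k1 : k ≠ 1 := fun e' => e (by simp [e'])
  have h2 := (key k (mem_Rs.2 ⟨hk, k1⟩)).resolve_left fun e' => e (mul_inv_eq_iff_eq_mul.1 e')
  have h3 : u * k ≠ 1 := fun e' => e (eq_inv_of_mul_eq_one_right e' ▸ c.inv_right)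
  rcases key _ (mem_Rs.2 ⟨mul_mem u1 hk, h3⟩) with e1 | e1 <;> rw [← conj_mul, h1, h2] at e1
  · exact ne_inv9 R h9 (mem_Rs.2 ⟨hk, k1⟩) (mul_left_cancel e1).symm
  · rw [(comm9' R h9 u1 hk).eq, mul_inv_rev] at e1
    exact ne_inv9 R h9 hu (mul_right_cancel e1)

theorem sec_sum {Φ : G → ℂ} (h1 : IsClassFunction G Φ) (h2 : ∀ g, Reg 3 g → Φ g = 0)
    (h3 : ∀ k ∈ Rs (R : Subgroup G), ∀ y, Commute k y → Reg 3 y → Φ (k * y) = Φ k) :
    (Nat.card G : ℂ)⁻¹ * ∑ g, Φ g = 18⁻¹ * ∑ k : (R : Subgroup G), Φ k := by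
  have h4 : ∀ g, 2 * Φ g = ∑ k ∈ Rs (R : Subgroup G), if IsConj k (pp 3 g) then Φ k else 0 := fun g => by
    by_cases e : Reg 3 g
    · rw [h2 g e, mul_zero, Finset.sum_eq_zero fun k hk => if_neg ?_]
      rw [pp_of_reg e, isConj_one_left]
      exact (mem_Rs.1 hk).2
    obtain ⟨k, hk, y, a1, a2, a3, a4⟩ := sing_isConj R (not_not.1 e)
    have h5 := (he k hk _ (inv_mem (mem_Rs.1 hk).1)).2 (Or.inr rfl)
    rw [Finset.sum_eq_add_of_mem k k⁻¹ hk (mem_Rs.2 ⟨inv_mem (mem_Rs.1 hk).1, by simpa using (mem_Rs.1 hk).2⟩)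
      (ne_inv9 R h9 hk) fun l hl e => if_neg fun e' => ((he k hk l (mem_Rs.1 hl).1).1 (a4.trans e'.symm)).elim e.1 e.2,
      if_pos a4, if_pos (h5.symm.trans a4), ← class_eq_of_isConj h1 h5, ← class_eq_of_isConj h1 a3, h3 k hk y a1 a2,
      two_mul]
  have h5 : 2 * ∑ g, Φ g = (Nat.card G : ℂ) / 9 * ∑ k ∈ Rs (R : Subgroup G), Φ k := by
    rw [Finset.mul_sum, Finset.mul_sum]
    simp only [h4]
    rw [Finset.sum_comm]
    refine Finset.sum_congr rfl fun k hk => ?_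
    obtain ⟨K, a1, a2⟩ := exists_K2 R h9 he hk
    rw [← Finset.sum_filter, Finset.sum_const, sec_eq, Np_eq ⟨2, pow9 R h9 (mem_Rs.1 hk).1⟩ a1, ← card_cl_mul k,
      ← a2, nsmul_eq_mul]
    push_cast; ring
  rw [sum_sub, h2 1 reg_one, zero_add, inv_mul_eq_iff_eq_mul₀ natCard_ne_zero]
  linear_combination h5 / 2

theorem star2 : ∃ (s : ℤ) (χ : IrrCharacter G) (L : Finset (IrrCharacter G)), (s = 1 ∨ s = -1) ∧ χ ≠ triv G ∧
    triv G ∉ L ∧ χ ∉ L ∧ L.card = 4 ∧ (∀ ψ ∈ L, ∀ g, ¬ 3 ∣ orderOf g → 1 + s * (ψ.1 g - χ.1 g) = 0) ∧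
    (9 : ℤ) ∣ dg χ - 8 * s ∧ (∀ g, 3 ∣ orderOf g → χ.1 g = -s) ∧ (∀ g, χ.1 g⁻¹ = χ.1 g) ∧
    ∀ v, orderOf v = 3 → ∃ ψ ∈ L, ψ.1 v = -2 * s ∧ ψ.1 v⁻¹ = -2 * s := by
  have := Fintype.ofFinite (IrrCharacter G)
  have := comm9 R h9
  have := Fintype.ofFinite (R →* ℂˣ)
  let F : (R →* ℂˣ) → G → ℂ := fun l g => ∑ k : (R : Subgroup G), if IsConj (k : G) g then (l k : ℂ) - 1 else 0
  have F1 : ∀ l, IsClassFunction G (F l) := fun l g c =>
    Finset.sum_congr rfl fun k _ => if_congr (Fix.isConj_conj_iff _ _ _) rfl rfl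
  have F2 : ∀ l (g : (R : Subgroup G)), F l g = l g + l⁻¹ g - 2 := fun l g => by
    by_cases e : g = 1
    · simp only [F]
      rw [Finset.sum_eq_zero fun k _ => by
        by_cases e' : k = 1
        · simp [e']
        · rw [if_neg (by simpa [e] using e')], e]
      norm_num
    have hg : (g : G) ∈ Rs (R : Subgroup G) := mem_Rs.2 ⟨g.2, by simpa using e⟩
    simp only [F]
    rw [Finset.sum_eq_add g g⁻¹ (fun e => ne_inv9 R h9 hg (congrArg Subtype.val e)) (fun k _ e' => if_neg fun e1 =>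
      ((he g hg k k.2).1 e1.symm).elim (fun e => e'.1 (Subtype.ext e)) fun e => e'.2 (Subtype.ext e)) (by simp)
      (by simp), if_pos (IsConj.refl _), if_pos ((he g hg _ g⁻¹.2).2 (Or.inr rfl)).symm]
    simp only [map_inv, MonoidHom.inv_apply]
    ring
  have F3 : ∀ l, IsGeneralizedCharacter G fun g => F l (pp 3 g) := fun l => lift_gen R (F1 l) (by
    convert isGen_sub (isGen_add (isGen_of_irr (isIrr_unitsHom l)) (isGen_of_irr (isIrr_unitsHom l⁻¹)))
      (isGen_natCast_smul isGen_one 2) using 2 with k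
    simp [F2])
  have F4 : ∀ l g, Reg 3 g → F l (pp 3 g) = 0 := fun l g hg => by
    have := F2 l 1
    rw [pp_of_reg hg]
    norm_num at this
    exact this
  have F5 : ∀ l, ∀ k ∈ Rs (R : Subgroup G), ∀ y, Commute k y → Reg 3 y → F l (pp 3 (k * y)) = F l (pp 3 k) :=
    fun l k hk y c hy => by
      rw [pp_eq c ⟨2, pow9 R h9 (mem_Rs.1 hk).1⟩ hy, pp_of_pe ⟨2, pow9 R h9 (mem_Rs.1 hk).1⟩]
  have F6 : ∀ l (k : (R : Subgroup G)), F l (pp 3 k) = l k + l⁻¹ k - 2 := fun l k => by rw [pp_of_pe ⟨2, pow9 R h9 k.2⟩, F2]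
  have F7 : ∀ l g, conj (F l (pp 3 g)) = F l (pp 3 g) := fun l g => by
    obtain ⟨k, hk, e⟩ := pe_isConj R (pe_pp (p := 3) g)
    rw [← class_eq_of_isConj (F1 l) e, F2 l ⟨k, hk⟩, map_sub, map_add, conj_unitsHom, conj_unitsHom, hom_inv_inv,
      add_comm, map_ofNat]
  choose γ hγ using fun l (χ : IrrCharacter G) => exists_int_inner (F3 l) (isGen_of_irr χ.2)
  have h1 : ∀ l g, F l (pp 3 g) = ∑ χ : IrrCharacter G, γ l χ * χ.1 g := fun l g => by
    simpa only [hγ] using class_apply_eq_sum_irr (isClass_of_isGen (F3 l)) g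
  have h5 : ∀ l : R →* ℂˣ, l ≠ 1 → ∑ k, (l k : ℂ) = 0 := fun l hl => by
    simpa [hl] using sum_unitsHom_mul_conj l 1
  have h6 : ∀ l : R →* ℂˣ, l ≠ 1 → ∑ k, (l⁻¹ k : ℂ) = 0 := fun l hl => h5 _ fun e => hl (by
    rw [← hom_inv_inv l, e]; rfl)
  obtain ⟨s, χ, L, a1, a2, a3, a4, a5, a6, a6', a7, a8⟩ := star_abs' (γ := γ) (D := dg) (o := triv G)
    (by rw [← Nat.card_eq_fintype_card, card_unitsHom, h9])
    (fun i => by
      have := hγ 1 i
      simp only [F, classInner] at this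
      exact_mod_cast (by simpa using this.symm : (γ 1 i : ℂ) = 0))
    (fun l hl e => hl (unitsHom_eq_one_of_sq_of_odd (by rw [h9]; decide) (hom_eq_inv_self_iff.1 e.symm)))
    (fun l hl => by
      have := hγ l (triv G)
      simp only [classInner, triv_apply, map_one, mul_one] at this
      rw [sec_sum R h9 he (isClass_of_isGen (F3 l)) (F4 l) (F5 l)] at this
      simp only [F6, Finset.sum_sub_distrib, Finset.sum_add_distrib, h5 l hl, h6 l hl, Finset.sum_const,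
        Finset.card_univ, ← Nat.card_eq_fintype_card, h9] at this
      norm_num at this
      exact_mod_cast this.symm) dg_pos
    (fun l => by
      have := h1 l 1
      simp only [F4 l 1 reg_one, apply_one] at this
      exact_mod_cast this.symm) dg_triv
    (fun l μ hl hμ => by
      have e1 := inner_eq_sum_irr (isClass_of_isGen (F3 l)) fun g => F μ (pp 3 g)
      simp only [hγ, map_intCast] at e1
      rw [classInner, sec_sum R h9 he (Φ := fun g => F l (pp 3 g) * conj (F μ (pp 3 g)))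
        (fun g c => by simp only [pp_conj, F1 _ _ c]) (fun g hg => by simp [F4 l g hg])
        fun k hk y c hy => by simp only [F5 _ k hk y c hy]] at e1
      have e2 := sum_unitsHom_mul_conj μ l
      have e3 := sum_unitsHom_mul_conj μ l⁻¹
      have e2' := sum_unitsHom_mul_conj μ⁻¹ l⁻¹
      have e3' := sum_unitsHom_mul_conj μ⁻¹ l
      simp only [conj_unitsHom, hom_inv_inv, hom_inv_eq_iff] at e2 e3 e2' e3'
      have e4 : ∀ k : (R : Subgroup G), ((l k : ℂ) + l⁻¹ k - 2) * (μ k + μ⁻¹ k - 2) = μ k * l⁻¹ k + μ k * l k + μ⁻¹ k * l k +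
        μ⁻¹ k * l⁻¹ k - 2 * μ k - 2 * μ⁻¹ k - 2 * l k - 2 * l⁻¹ k + 4 := fun k => by ring
      simp only [F7] at e1
      simp only [F6, e4, Finset.sum_add_distrib, Finset.sum_sub_distrib, ← Finset.mul_sum, e2, e3, e2', e3',
        h5 l hl, h5 μ hμ, h6 l hl, h6 μ hμ, Finset.sum_const, Finset.card_univ, ← Nat.card_eq_fintype_card,
        h9] at e1
      have e5 : ∑ χ : IrrCharacter G, (γ l χ : ℂ) * γ μ χ =
          2 + (if μ = l then 1 else 0) + if μ = l⁻¹ then 1 else 0 := by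
        rw [← e1]; split_ifs <;> norm_num
      exact_mod_cast e5)
  have b1 : ∀ l ψ, (∀ i, γ l i = @ite _ (i = χ) (Classical.propDecidable _) s 0 -
      @ite _ (i = ψ) (Classical.propDecidable _) s 0 - @ite _ (i = triv G) (Classical.propDecidable _) 1 0) →
      ∀ g, 1 + s * (ψ.1 g - χ.1 g) = -F l (pp 3 g) := fun l ψ hl g => by
    have := h1 l g
    simp only [hl, Int.cast_sub, Int.cast_ite, Int.cast_zero, Int.cast_one, sub_mul, ite_mul, zero_mul,
      Finset.sum_sub_distrib, Finset.sum_ite_eq', Finset.mem_univ, if_true, triv_apply] at this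
    linear_combination this
  have b2 : ∀ l, l ≠ 1 → γ l χ = s := fun l hl => by
    obtain ⟨ψ, hψ, e⟩ := a6' l hl
    rw [e, if_pos rfl, if_neg a2, if_neg fun e' : χ = ψ => a4 (e' ▸ hψ)]; simp
  have hs0 : (s : ℂ) ≠ 0 := by rcases a1 with rfl | rfl <;> simp
  have b3 : B0 3 χ.1 := fun e => by
    have e1 : ∑ l, (γ l χ : ℂ) = 8 * s := by exact_mod_cast a7
    have e2 : ∀ g, ∑ l, F l (pp 3 g) = if Reg 3 g then 0 else -18 := fun g => by
      split_ifs with e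
      · simp [F4 _ g e]
      · obtain ⟨k, hk, -, -, -, -, e⟩ := sing_isConj R (not_not.1 e)
        have k1 : (⟨k, (mem_Rs.1 hk).1⟩ : (R : Subgroup G)) ≠ 1 := fun e => (mem_Rs.1 hk).2 (congrArg Subtype.val e)
        simp only [← class_eq_of_isConj (F1 _) e, F2 _ ⟨k, (mem_Rs.1 hk).1⟩, MonoidHom.inv_apply, ← map_inv,
          Finset.sum_sub_distrib, Finset.sum_add_distrib, sum_unitsHom_apply, regChar_of_ne k1,
          regChar_of_ne (inv_ne_one.2 k1), Finset.sum_const, Finset.card_univ, ← Nat.card_eq_fintype_card,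
          card_unitsHom, h9]
        norm_num
    have e3 := inner_irr_ne χ.2 isIrr_one fun e => a2 (Subtype.ext e)
    rw [inner_one_right, mul_eq_zero, or_iff_right (inv_ne_zero natCard_ne_zero)] at e3
    simp only [← hγ, classInner, ← Finset.mul_sum] at e1
    rw [Finset.sum_comm] at e1
    simp only [← Finset.sum_mul, e2] at e1
    rw [Finset.sum_congr rfl (g := fun g => -18 * conj (χ.1 g - regP 3 χ.1 g)) fun g _ => by
      simp only [regP]; split_ifs <;> simp, ← Finset.mul_sum, ← map_sum, Finset.sum_sub_distrib, e, e3] at e1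
    simp [hs0] at e1
  have b4 : ∀ k ∈ Rs (R : Subgroup G), ∀ y, Commute k y → Reg 3 y → χ.1 (k * y) = χ.1 k := fun k hk y c hy => by
    obtain ⟨K, k1, k2⟩ := exists_K2 R h9 he hk
    refine b0_section ⟨2, pow9 R h9 (mem_Rs.1 hk).1⟩ (inB_irr χ.2 b3) (fun y hy => ((k1 y).1 hy).1)
      (fun c hc y hy => (k1 _).2 ⟨(hc.mul_right ((k1 y).1 hy).1).mul_right hc.inv_right,
        (reg_conj _ _).2 ((k1 y).1 hy).2⟩) (fun e => ?_) ((k1 y).2 ⟨c, hy⟩)
    obtain ⟨y, hy⟩ := exists_prime_orderOf_dvd_card' 3 e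
    exact (reg_coe y).1 ((k1 y).1 y.2).2 hy.symm.dvd
  choose m hm using fun l : R →* ℂˣ => exists_nat_inner (isChar_restrict R (ch χ)) (isChar_of_irr (isIrr_unitsHom l))
  have b5 : ∀ k : (R : Subgroup G), χ.1 (k⁻¹ : (R : Subgroup G)) = χ.1 k := fun k => by
    by_cases e : k = 1
    · simp [e]
    · exact (conj_eq χ ((he k (mem_Rs.2 ⟨k.2, by simpa using e⟩) _ k⁻¹.2).2 (Or.inr rfl))).symm
  have b6 : ∀ l, l ≠ 1 → (m l : ℂ) = m 1 + s := fun l hl => by
    have e1 := hγ l χ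
    rw [b2 l hl, classInner, sec_sum R h9 he (Φ := fun g => F l (pp 3 g) * conj (χ.1 g))
      (fun g c => by simp only [pp_conj, F1 _ _ c, isClass_of_irr χ.2 g c]) (fun g hg => by simp [F4 l g hg])
      fun k hk y c hy => by simp only [F5 _ k hk y c hy, b4 k hk y c hy]] at e1
    have e2 := hm l
    have e3 := hm 1
    have e4 : ∑ k : (R : Subgroup G), (l k : ℂ) * χ.1 k = ∑ k : (R : Subgroup G), (l⁻¹ k : ℂ) * χ.1 k := by
      refine Fintype.sum_equiv (Equiv.inv _) _ _ fun k => ?_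
      simp only [Equiv.inv_apply, b5, map_inv, MonoidHom.inv_apply, inv_inv]
    simp only [F6, ← char_inv (ch χ), ← InvMemClass.coe_inv, b5, sub_mul, add_mul, Finset.sum_sub_distrib,
      Finset.sum_add_distrib, e4, ← Finset.mul_sum] at e1
    simp only [classInner, conj_unitsHom, h9, mul_comm (χ.1 _)] at e2
    simp only [classInner, h9, MonoidHom.one_apply, Units.val_one, map_one, mul_one] at e3
    push_cast at e2 e3
    linear_combination e1 - e2 + e3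
  have b7 : ∀ k : (R : Subgroup G), χ.1 k = (m 1 + s) * regChar R k - s := fun k => by
    have := apply_eq_sum_unitsHom (fun k : (R : Subgroup G) => χ.1 k) k
    simp only [hm] at this
    rw [this, ← sum_unitsHom_apply, ← Finset.add_sum_erase _ _ (Finset.mem_univ 1),
      ← Finset.add_sum_erase _ _ (Finset.mem_univ 1), Finset.sum_congr rfl fun l hl => by
        rw [b6 l (Finset.mem_erase.1 hl).1], ← Finset.mul_sum]
    simp; ring
  have b8 : ∀ g, 3 ∣ orderOf g → χ.1 g = -s := fun g hg => by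
    obtain ⟨k, hk, y, c1, c2, c3, -⟩ := sing_isConj R hg
    rw [← conj_eq χ c3, b4 k hk y c1 c2, b7 ⟨k, (mem_Rs.1 hk).1⟩,
      regChar_of_ne fun e => (mem_Rs.1 hk).2 (congrArg Subtype.val e)]
    ring
  refine ⟨s, χ, L, a1, a2, a3, a4, a5, fun ψ hψ g hg => ?_, ?_, b8, fun g => ?_, fun v hv => ?_⟩
  · obtain ⟨l, hl⟩ := a6 ψ hψ
    rw [b1 l ψ hl, F4 l g hg, neg_zero]
  · have := b7 1
    rw [regChar_one, h9, OneMemClass.coe_one, apply_one] at this
    exact ⟨m 1, by exact_mod_cast (by linear_combination this : (dg χ : ℂ) - 8 * s = 9 * m 1)⟩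
  · obtain ⟨ψ, hψ⟩ : L.Nonempty := Finset.card_pos.1 (by omega)
    obtain ⟨l, hl⟩ := a6 ψ hψ
    let χ' : IrrCharacter G := ⟨_, isIrr_conj χ.2⟩
    have e1 : γ l χ' = γ l χ := by
      have : (γ l χ' : ℂ) = conj (γ l χ : ℂ) := by
        rw [← hγ, ← hγ]
        simp only [classInner, map_mul, map_sum, F7, χ', map_inv₀, map_natCast]
      rw [map_intCast] at this
      exact_mod_cast this
    have e2 : χ' = χ := by
      by_contra e
      have e3 : χ' ≠ triv G := fun e => a2 (Subtype.ext (funext fun g => by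
        simpa [χ'] using congrArg (fun θ => conj (θ.1 g)) e))
      rw [hl, hl, if_neg e, if_neg e3, if_pos rfl, if_neg a2, if_neg fun e' : χ = ψ => a4 (e' ▸ hψ)] at e1
      split_ifs at e1 <;> omega
    rw [char_inv (ch χ)]
    exact congrArg (fun θ => θ.1 g) e2
  · obtain ⟨k, hk, e⟩ := pe_isConj R (g := v) ⟨1, by rw [pow_one, ← hv, pow_orderOf_eq_one]⟩
    let Z := Subgroup.zpowers (⟨k, hk⟩ : (R : Subgroup G))
    have : Nontrivial (R ⧸ Z) := by
      rw [← Finite.one_lt_card_iff_nontrivial, ← Subgroup.index_eq_card]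
      have := Z.index_mul_card
      rw [Nat.card_zpowers, ← Subgroup.orderOf_coe, orderOf_of_isConj e, hv, h9] at this
      omega
    obtain ⟨x, hx⟩ := exists_ne (1 : R ⧸ Z)
    have : IsMulCommutative (R ⧸ Z) := ⟨⟨fun a b => by
      obtain ⟨a, rfl⟩ := QuotientGroup.mk'_surjective Z a
      obtain ⟨b, rfl⟩ := QuotientGroup.mk'_surjective Z b
      rw [← map_mul, ← map_mul, mul_comm' a b]⟩⟩
    obtain ⟨l, hl⟩ := exists_unitsHom_ne_one hx
    obtain ⟨ψ, hψ, e1⟩ := a6' (l.comp (QuotientGroup.mk' Z)) fun e => hl (by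
      obtain ⟨y, rfl⟩ := QuotientGroup.mk'_surjective Z x
      exact DFunLike.congr_fun e y)
    have e2 : QuotientGroup.mk' Z ⟨k, hk⟩ = 1 := (QuotientGroup.eq_one_iff _).2 (Subgroup.mem_zpowers _)
    have e3 := b1 _ ψ e1 k
    rw [F6 _ ⟨k, hk⟩, b8 k (by rw [orderOf_of_isConj e, hv])] at e3
    simp only [MonoidHom.inv_apply, MonoidHom.comp_apply, e2, map_one, inv_one, Units.val_one] at e3
    have e4 : ψ.1 k = -2 * s := by
      rcases a1 with rfl | rfl <;> push_cast at e3 ⊢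
      · linear_combination e3
      · linear_combination -e3
    refine ⟨ψ, hψ, conj_eq ψ e ▸ e4, ?_⟩
    rw [char_inv (ch ψ), ← conj_eq ψ e, e4, map_mul, map_neg, map_ofNat, map_intCast]

end

end Cfsg.Agent.Nine
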