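import Cfsg.Agent.Lib.Nine.T

/-! Automizer of order two: the Sylow `3`-subgroup is strongly self-centralizing. -/

set_option autoImplicit false
set_option linter.unusedSectionVars false

open Cfsg Cfsg.Agent.Char Cfsg.Agent.Blk
open scoped ComplexConjugate Classical

namespace Cfsg.Agent.Nine

universe u

variable {G : Type u} [Group G]

theorem sing_mul {p : ℕ} [Fact p.Prime] {r y : G} (c : Commute r y) (hr : p ∣ orderOf r) (hy : Reg p y) :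
    p ∣ orderOf (r * y) := by
  by_contra e
  exact reg_mul (c.mul_left (Commute.refl y)).inv_right e ((reg_inv y).2 hy) (by simpa using hr)

theorem fpf3 [Finite G] {K : Subgroup G} {ρ : G} (h1 : Nz ρ K) (h2 : ∀ k ∈ K, Commute ρ k → k = 1)
    (h3 : ∀ k ∈ K, Commute (ρ ^ 3) k) {k : G} (hk : k ∈ K) :
    k * (ρ * k * ρ⁻¹) * (ρ * (ρ * k * ρ⁻¹) * ρ⁻¹) = 1 := by
  let f : K → K := fun a => ⟨(a : G)⁻¹ * (ρ * a * ρ⁻¹), mul_mem (inv_mem a.2) (h1 a a.2)⟩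
  have hf : Function.Injective f := fun a b e => by
    have e1 : (a : G)⁻¹ * (ρ * a * ρ⁻¹) = (b : G)⁻¹ * (ρ * b * ρ⁻¹) := congrArg Subtype.val e
    refine Subtype.ext (mul_inv_eq_one.1 (h2 _ (mul_mem b.2 (inv_mem a.2)) ?_)).symm
    have e2 : ρ * (b * (a : G)⁻¹) = b * ((b : G)⁻¹ * (ρ * b * ρ⁻¹)) * ρ * (a : G)⁻¹ := by group
    rw [Commute, SemiconjBy, e2, ← e1]; group
  obtain ⟨a, ha⟩ := Finite.injective_iff_surjective.1 hf ⟨k, hk⟩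
  have e : (a : G)⁻¹ * (ρ * a * ρ⁻¹) = k := congrArg Subtype.val ha
  rw [← e, show (a : G)⁻¹ * (ρ * a * ρ⁻¹) * (ρ * ((a : G)⁻¹ * (ρ * a * ρ⁻¹)) * ρ⁻¹) *
    (ρ * (ρ * ((a : G)⁻¹ * (ρ * a * ρ⁻¹)) * ρ⁻¹) * ρ⁻¹) = (a : G)⁻¹ * (ρ ^ 3 * a) * (ρ ^ 3)⁻¹ by
      simp only [pow_succ, pow_zero]; group, (h3 a a.2).eq]
  group

theorem cent9 [Fintype G] [IsSimpleGroup G] (hG : ¬ IsMulCommutative G) {θ : IrrCharacter G} (hθ : dg θ = 9)
    (h0 : ∀ g, 3 ∣ orderOf g → θ.1 g = 0) {S : Subgroup G} (hS : Nat.card S = 9) {y : G} (hy : Reg 3 y)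
    (hc : ∀ r ∈ S, Commute r y) : y = 1 := by
  have h1 : ∀ r ∈ Rs S, 3 ∣ orderOf r := fun r hr => by
    by_contra e
    exact (mem_Rs.1 hr).2 (eq_one_of_reg_pe (p := 3) e ⟨2, congrArg Subtype.val
      (hS ▸ pow_card_eq_one' (x := (⟨r, (mem_Rs.1 hr).1⟩ : S)))⟩)
  exact eq_one_of_vanish hG (fun e => by rw [e, dg_triv] at hθ; omega) (hS.trans hθ.symm)
    (Nz.mem_normalizer fun k hk => by rwa [← (hc k hk).eq, mul_inv_cancel_right]) (fun r hr => h0 r (h1 r hr))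
    fun r hr => h0 _ (sing_mul (hc r (mem_Rs.1 hr).1) (h1 r hr) hy)

theorem pair_deg [Fintype G] [IsSimpleGroup G] (hG : ¬ IsMulCommutative G) {q a b : ℕ} (hq : q.Prime) (hq2 : q ≠ 2)
    (hq3 : q ≠ 3) (hc : Nat.card G = 9 * 2 ^ a * q ^ b) {A B : IrrCharacter G} (hA : A ≠ triv G) (hB : B ≠ triv G)
    (h : dg B = dg A + 1) (dA : dg A ∣ 2 ^ a * q ^ b) (dB : dg B ∣ 2 ^ a * q ^ b) :
    b = 1 ∧ (∀ g : G, q ∣ orderOf g → orderOf g = q) ∧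
      ∃ i ≤ a, (dg A = 2 ^ i ∧ dg B = q) ∨ (dg A = q ∧ dg B = 2 ^ i) := by
  obtain ⟨i, hi, j, -, -, hj, e⟩ := coprime_cases hq dA dB (two_le_dg hG hA) (two_le_dg hG hB) (by simp [h])
  obtain rfl : j = 1 := catalan (a := i) hq hq2 hq3 hj (by omega)
  rw [pow_one] at e
  have h1 : b = 1 ∧ ∀ g : G, q ∣ orderOf g → orderOf g = q := by
    rcases e with e | e
    · exact prime_deg hG hB hq e.2 hc (not_dvd_nine hq hq2 hq3)
    · exact prime_deg hG hA hq e.1 hc (not_dvd_nine hq hq2 hq3)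
  exact ⟨h1.1, h1.2, i, hi, e⟩

theorem exists_nine' [Fintype G] [IsSimpleGroup G] (hG : ¬ IsMulCommutative G) (R : Sylow 3 G) (h9 : Nat.card R = 9)
    {q a : ℕ} (hq : q.Prime) (hq2 : q ≠ 2) (hq3 : q ≠ 3) (hc : Nat.card G = 9 * 2 ^ a * q) :
    ∃ θ : IrrCharacter G, dg θ = 9 ∧ ∀ g, 3 ∣ orderOf g → θ.1 g = 0 := by
  obtain ⟨θ, hθ⟩ := exists_nine hG R h9 hq hq2 hq3 hc
  exact ⟨θ, hθ, fun g hg => zero_of_defect θ Nat.prime_three (k := 2) (m := 2 ^ a * q ^ 1)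
    (by rw [hc]; ring) (not_three_dvd hq hq3) (by simp [hθ]) hg⟩

theorem dg_dvd_of_not [Finite G] {n : ℕ} (hc : Nat.card G = 9 * n) {χ : IrrCharacter G} (h : ¬ 3 ∣ dg χ) :
    dg χ ∣ n :=
  (Nat.Coprime.pow_right 2 ((Nat.prime_three.coprime_iff_not_dvd.2 h).symm)).dvd_of_dvd_mul_left (hc ▸ dg_dvd χ)

theorem exists_rho [Fintype G] (R : Sylow 3 G) (h9 : Nat.card R = 9) {u : G} (hu : u ∈ (R : Subgroup G))
    (h3 : orderOf u = 3) : ∃ ρ ∈ (R : Subgroup G), ρ ^ 3 ∈ Subgroup.zpowers u ∧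
      ∀ y, Commute u y → Commute ρ y → ∀ r ∈ (R : Subgroup G), Commute r y := by
  have := comm9 R h9
  let Z := Subgroup.zpowers (⟨u, hu⟩ : (R : Subgroup G))
  have h1 : Z.index = 3 := by
    have := Z.index_mul_card
    rw [Nat.card_zpowers, ← Subgroup.orderOf_coe, h3, h9] at this
    omega
  obtain ⟨ρ, hρ⟩ : ∃ ρ, ρ ∉ Z := by
    by_contra e
    push Not at e
    rw [(Subgroup.eq_top_iff' Z).2 e, Subgroup.index_top] at h1
    omega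
  refine ⟨ρ, ρ.2, ?_, fun y c1 c2 r hr => ?_⟩
  · obtain ⟨n, hn⟩ := h1 ▸ Z.pow_index_mem ρ
    exact ⟨n, congrArg Subtype.val hn⟩
  · let C := (Cz y).subgroupOf R
    have e1 : Z ≤ C := by rw [Subgroup.zpowers_le]; exact mem_Cz.2 c1.eq
    rcases (Nat.dvd_prime Nat.prime_three).1 (h1 ▸ Subgroup.index_dvd_of_le e1) with e | e
    · have : (⟨r, hr⟩ : (R : Subgroup G)) ∈ C := Subgroup.index_eq_one.1 e ▸ Subgroup.mem_top _
      exact mem_Cz.1 this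
    · have := Subgroup.relIndex_mul_index e1
      rw [e, h1] at this
      exact absurd (Subgroup.relIndex_eq_one.1 (by omega) (show ρ ∈ C from mem_Cz.2 c2.eq)) hρ

theorem inv_val [Finite G] [IsSimpleGroup G] {χ ψ : IrrCharacter G} (hχ : χ ≠ triv G)
    (h1 : ∀ g, 3 ∣ orderOf g → χ.1 g = -1) (h2 : ∀ g, ¬ 3 ∣ orderOf g → 1 + (ψ.1 g - χ.1 g) = 0)
    (hd : dg χ = 8 ∨ dg χ = 17) {u t s : G} (hu : orderOf u = 3) (ht : orderOf t = 2) (c : Commute u t)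
    (c1 : Commute t s) (e1 : IsConj t s) (e2 : IsConj t (t * s)) : dg χ = 17 ∧ ψ.1 t = 4 := by
  have t2 : t ^ 2 = 1 := ht ▸ pow_orderOf_eq_one t
  have s2 : s ^ 2 = 1 := ((orderOf_of_isConj e1).symm.trans ht) ▸ pow_orderOf_eq_one s
  have r1 : Reg 3 t := by rw [Reg, ht]; decide
  have u2 : 3 ∣ orderOf (u ^ 2) := by rw [orderOf_pow' _ two_ne_zero, hu]; decide
  obtain ⟨x, hx, -⟩ := exists_int_two χ t2
  have a0 := ne_dg hχ (ne_one_of_orderOf Nat.prime_two ht)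
  obtain ⟨d1, a1⟩ := wt2 (ch χ) c three_ne_zero two_ne_zero (hu ▸ pow_orderOf_eq_one u) t2 (one_pow 3) (neg_one_sq)
  obtain ⟨d2, a2⟩ := wt2 (ch ψ) c1 two_ne_zero two_ne_zero t2 s2 (one_pow 2) (one_pow 2)
  obtain ⟨d3, a3⟩ := wt2 (ch ψ) c1 two_ne_zero two_ne_zero t2 s2 (one_pow 2) neg_one_sq
  have b1 := h2 t r1
  have b2 := h2 1 reg_one
  simp only [Finset.sum_range_succ, Finset.sum_range_zero, pow_zero, pow_one, one_mul, mul_one, one_pow, zero_add,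
    h1 u hu.symm.dvd, h1 _ u2, h1 _ (sing_mul c hu.symm.dvd r1), h1 _ (sing_mul (c.pow_left 2) u2 r1),
    ← conj_eq ψ e1, ← conj_eq ψ e2, apply_one, hx] at a0 a1 a2 a3 b1 b2
  have f0 : x ≠ dg χ := fun e => a0 (by exact_mod_cast e)
  have f1 : (dg χ : ℤ) - x = 6 * d1 := by exact_mod_cast (by push_cast at a1; linear_combination a1 :
    (dg χ : ℂ) - x = 6 * d1)
  have f2 : (dg χ : ℤ) + 3 * x - 4 = 4 * d2 := by exact_mod_cast (by
    push_cast at a2; linear_combination a2 - b2 - 3 * b1 : (dg χ : ℂ) + 3 * x - 4 = 4 * d2)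
  have f3 : (dg χ : ℤ) - x = 4 * d3 := by exact_mod_cast (by
    push_cast at a3; linear_combination a3 - b2 + b1 : (dg χ : ℂ) - x = 4 * d3)
  obtain ⟨f4, rfl⟩ : dg χ = 17 ∧ x = 5 := by omega
  exact ⟨f4, by push_cast at b1; linear_combination b1⟩

theorem card_K_le [Fintype G] {ψ : IrrCharacter G} (hd : dg ψ = 16) {K : Subgroup G} {ρ : G} (h1 : Nz ρ K)
    (h2 : ∀ k ∈ K, Commute ρ k → k = 1) (h3 : ∀ k ∈ K, Commute k (ρ * k * ρ⁻¹)) (h4 : ∀ k ∈ K, PE 2 k)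
    (h5 : ∀ k ∈ K, ψ.1 k⁻¹ = ψ.1 k) (h6 : ∀ k ∈ K, k ≠ 1 → k ^ 2 = 1 → ψ.1 k = 4) : Nat.card K ≤ 4 := by
  have a0 : ∀ t ∈ K, t ≠ 1 → t ^ 2 = 1 → ρ * t * ρ⁻¹ ≠ 1 ∧ t * (ρ * t * ρ⁻¹) ≠ 1 ∧ (ρ * t * ρ⁻¹) ^ 2 = 1 :=
    fun t ht t1 t2 => ⟨by simpa using t1, fun e => t1 (h2 t ht (mul_inv_eq_iff_eq_mul.1
      (mul_left_cancel (e.trans (t2.symm.trans (sq t)))))), by rw [conj_pow, t2]; simp⟩
  have a1 : ∀ y ∈ K, y ^ 2 = 1 := fun y hy => by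
    by_contra e
    obtain ⟨j, hj⟩ : ∃ j, orderOf (y ^ j) = 4 := by
      obtain ⟨n, hn⟩ := h4 y hy
      obtain ⟨i, -, hi⟩ := (Nat.dvd_prime_pow Nat.prime_two).1 (orderOf_dvd_of_pow_eq_one hn)
      refine exists_pow_orderOf (hi ▸ pow_dvd_pow 2 (show 2 ≤ i from ?_))
      by_contra e'
      exact e (orderOf_dvd_iff_pow_eq_one.1 (hi ▸ pow_dvd_pow 2 (show i ≤ 1 by omega)))
    have hz := pow_mem hy j
    generalize y ^ j = z at hj hz
    have z4 : z ^ 4 = 1 := hj ▸ pow_orderOf_eq_one z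
    have z2 : z ^ 2 ≠ 1 := fun e => absurd (hj ▸ orderOf_dvd_of_pow_eq_one e) (by decide)
    have z3 : (z ^ 2) ^ 2 = 1 := by rw [← pow_mul, z4]
    obtain ⟨b1, b2, b3⟩ := a0 _ (pow_mem hz 2) z2 z3
    have b4 := h1 _ (pow_mem hz 2)
    have c : Commute z (ρ * z ^ 2 * ρ⁻¹) := by
      rw [← conj_pow]; exact (h3 z hz).pow_right 2
    generalize ρ * z ^ 2 * ρ⁻¹ = s at b1 b2 b3 b4 c
    obtain ⟨d, e⟩ := wt2 (ch ψ) c four_ne_zero two_ne_zero z4 b3 Complex.I_pow_four (one_pow 2)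
    have e1 : z ^ 3 = z⁻¹ := eq_inv_of_mul_eq_one_left ((pow_succ z 3).symm.trans z4)
    have e2 : z⁻¹ * s = (z * s)⁻¹ := by
      rw [c.eq, mul_inv_rev, inv_eq_of_mul_eq_one_right ((sq s).symm.trans b3)]
    simp only [Finset.sum_range_succ, Finset.sum_range_zero, pow_zero, pow_one, one_mul, mul_one, one_pow, zero_add,
      e1, e2, h5 z hz, h5 _ (mul_mem hz b4), h6 _ (pow_mem hz 2) z2 z3, h6 _ b4 b1 b3, apply_one, hd,
      h6 _ (mul_mem (pow_mem hz 2) b4) b2 (by rw [(c.pow_left 2).mul_pow, z3, b3, one_mul]), Complex.I_sq,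
      Complex.I_pow_three] at e
    have : (12 : ℤ) = 8 * d := by exact_mod_cast (by push_cast at e; linear_combination e : (12 : ℂ) = 8 * d)
    omega
  have a2 : ∀ x ∈ K, ∀ y ∈ K, Commute x y := fun x hx y hy => by
    have f : ∀ y ∈ K, y⁻¹ = y := fun y hy => inv_eq_of_mul_eq_one_right ((sq y).symm.trans (a1 y hy))
    rw [Commute, SemiconjBy, ← f _ (mul_mem hx hy), mul_inv_rev, f x hx, f y hy]
  by_contra e
  obtain ⟨⟨t, ht⟩, t1⟩ := (K.ne_bot_iff_exists_ne_one).1 fun e' => e (by simp [e'])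
  replace t1 : t ≠ 1 := by simpa using t1
  obtain ⟨b1, b2, b3⟩ := a0 t ht t1 (a1 t ht)
  have b4 := h1 t ht
  generalize ρ * t * ρ⁻¹ = s at b1 b2 b3 b4
  obtain ⟨y, hy, y1⟩ : ∃ y ∈ K, y⁻¹ ∉ ({1, t, s, t * s} : Finset G) := by
    by_contra e'
    push Not at e'
    refine e (le_trans ?_ (Finset.card_le_four (a := 1) (b := t) (c := s) (d := t * s)))
    rw [Nat.card_eq_fintype_card, Fintype.card_subtype]
    exact Finset.card_le_card fun y hy => by simpa using e' y⁻¹ (inv_mem (by simpa using hy))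
  simp only [Finset.mem_insert, Finset.mem_singleton, not_or, inv_eq_one] at y1
  obtain ⟨d, e⟩ := wt3 (ch ψ) (a2 t ht s b4) (a2 t ht y hy) (a2 s b4 y hy) two_ne_zero two_ne_zero two_ne_zero
    (a1 t ht) b3 (a1 y hy) (one_pow 2) (one_pow 2) (one_pow 2)
  have f : ∀ k ∈ K, k ≠ 1 → ψ.1 k = 4 := fun k hk k1 => h6 k hk k1 (a1 k hk)
  simp only [Finset.sum_range_succ, Finset.sum_range_zero, pow_zero, pow_one, one_mul, mul_one, one_pow, zero_add,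
    f t ht t1, f s b4 b1, f _ (mul_mem ht b4) b2, f y hy y1.1, apply_one, hd,
    f _ (mul_mem ht hy) fun e => y1.2.1 (eq_inv_of_mul_eq_one_left e).symm,
    f _ (mul_mem b4 hy) fun e => y1.2.2.1 (eq_inv_of_mul_eq_one_left e).symm,
    f _ (mul_mem ht (mul_mem b4 hy)) fun e => y1.2.2.2 (eq_inv_of_mul_eq_one_left ((mul_assoc _ _ _).trans e)).symm]
    at e
  have : (44 : ℤ) = 8 * d := by exact_mod_cast (by push_cast at e; linear_combination e : (44 : ℂ) = 8 * d)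
  omega

section
variable [Fintype G] [IsSimpleGroup G] (hG : ¬ IsMulCommutative G) {q a b : ℕ} (hq : q.Prime) (hq2 : q ≠ 2)
  (hq3 : q ≠ 3) (hc : Nat.card G = 9 * 2 ^ a * q ^ b) (R : Sylow 3 G) (h9 : Nat.card R = 9)
  (he : ∀ k ∈ Rs (R : Subgroup G), ∀ l ∈ (R : Subgroup G), IsConj k l ↔ l = k ∨ l = k⁻¹)
include hG hq hq2 hq3 hc h9 he

theorem caseI_num : ∃ (χ θ : IrrCharacter G) (L : Finset (IrrCharacter G)), b = 1 ∧
    (∀ g : G, q ∣ orderOf g → orderOf g = q) ∧ dg θ = 9 ∧ (∀ g, 3 ∣ orderOf g → θ.1 g = 0) ∧ χ ≠ triv G ∧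
    triv G ∉ L ∧ χ ∉ L ∧ L.card = 4 ∧ (∀ ψ ∈ L, ∀ g, ¬ 3 ∣ orderOf g → 1 + (ψ.1 g - χ.1 g) = 0) ∧
    (∀ g, 3 ∣ orderOf g → χ.1 g = -1) ∧ (∀ g, χ.1 g⁻¹ = χ.1 g) ∧ (dg χ = 8 ∨ dg χ = 17 ∧ q = 17) := by
  have := Fintype.ofFinite (IrrCharacter G)
  obtain ⟨s, χ, L, a1, a2, a3, a4, a5, a6, a7, a8, a9, -⟩ := star2 R h9 he
  obtain ⟨ψ, hψ⟩ : L.Nonempty := Finset.card_pos.1 (by omega)
  have b1 : ψ ≠ triv G := fun e => a3 (e ▸ hψ)
  have b2 := a6 ψ hψ 1 reg_one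
  simp only [apply_one] at b2
  have b3 : 1 + s * ((dg ψ : ℤ) - dg χ) = 0 := by exact_mod_cast b2
  have b4 := two_le_dg hG a2
  have key : ∀ A B : IrrCharacter G, A ≠ triv G → B ≠ triv G → (∀ g, ¬ 3 ∣ orderOf g → 1 + (A.1 g - B.1 g) = 0) →
      dg B = dg A + 1 → ¬ 3 ∣ dg A → ¬ 3 ∣ dg B → b = 1 ∧ (∀ g : G, q ∣ orderOf g → orderOf g = q) ∧
      (∃ θ : IrrCharacter G, dg θ = 9 ∧ ∀ g, 3 ∣ orderOf g → θ.1 g = 0) ∧
      ∃ i ≤ 6, (dg A = 2 ^ i ∧ dg B = q) ∨ (dg A = q ∧ dg B = 2 ^ i) := fun A B c1 c2 c3 c4 c5 c6 => by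
    obtain ⟨rfl, c7, i, -, c8⟩ := pair_deg hG hq hq2 hq3 hc c1 c2 c4 (dg_dvd_of_not (hc.trans (mul_assoc _ _ _)) c5)
      (dg_dvd_of_not (hc.trans (mul_assoc _ _ _)) c6)
    obtain ⟨θ, d1, d2⟩ := exists_nine' hG R h9 hq hq2 hq3 (pow_one q ▸ hc)
    obtain ⟨m, m1, m2, m3⟩ := mult_sq θ d2
    have m4 := Finset.single_le_sum (f := fun χ => m χ * dg χ) (fun _ _ => Nat.zero_le _) (Finset.mem_univ B)
    rw [m2, d1, m3 A B c3] at m4
    refine ⟨rfl, c7, ⟨θ, d1, d2⟩, i, ?_, c8⟩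
    by_contra e
    have : 2 ^ 7 ≤ 2 ^ i := Nat.pow_le_pow_right two_pos (by omega)
    have : dg B ≤ (1 + m A) * dg B := Nat.le_mul_of_pos_left _ (by omega)
    omega
  rcases a1 with rfl | rfl
  · simp only [Int.cast_one, one_mul] at a6 a8
    obtain ⟨c1, c2, ⟨θ, c3, c4⟩, i, hi, c5⟩ := key ψ χ b1 a2 (a6 ψ hψ) (by omega) (by omega) (by omega)
    refine ⟨χ, θ, L, c1, c2, c3, c4, a2, a3, a4, a5, a6, a8, a9, ?_⟩
    interval_cases i <;> omega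
  · obtain ⟨-, -, -, i, hi, c5⟩ := key χ ψ a2 b1 (fun g hg => by
      have := a6 ψ hψ g hg
      push_cast at this
      linear_combination this) (by omega) (by omega) (by omega)
    have : q ≠ 65 := by rintro rfl; norm_num at hq
    interval_cases i <;> omega

theorem caseI : ∀ k ∈ (R : Subgroup G), k ≠ 1 → Cz k = R := by
  have := Fintype.ofFinite (IrrCharacter G)
  have : Fact q.Prime := ⟨hq⟩
  obtain ⟨χ, θ, L, rfl, hQ, θ9, θ0, a2, a3, a4, a5, a6, a7, a8, a9⟩ := caseI_num hG hq hq2 hq3 hc R h9 he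
  rw [pow_one] at hc
  have a10 : ∀ ψ ∈ L, dg ψ + 1 = dg χ := fun ψ hψ => by
    have := a6 ψ hψ 1 reg_one
    simp only [apply_one] at this
    exact_mod_cast (by linear_combination this : (dg ψ : ℂ) + 1 = dg χ)
  obtain ⟨ψ, hψ⟩ : L.Nonempty := Finset.card_pos.1 (by omega)
  have key : ∀ u ∈ (R : Subgroup G), orderOf u = 3 → ∀ K : Subgroup G, (∀ y, y ∈ K ↔ Commute u y ∧ Reg 3 y) →
      (∀ k ∈ K, PE 2 k) ∧ (∀ t ∈ K, orderOf t = 2 → dg χ = 17 ∧ ∀ ψ ∈ L, ψ.1 t = 4) ∧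
      (dg χ = 17 → Nat.card K ≤ 4) := fun u hu u3 K hK => by
    obtain ⟨ρ, r1, r2, r3⟩ := exists_rho R h9 hu u3
    have b1 : Nz ρ K := fun k hk => (hK _).2 ⟨((comm9' R h9 hu r1).mul_right ((hK k).1 hk).1).mul_right
      (comm9' R h9 hu r1).inv_right, (reg_conj _ _).2 ((hK k).1 hk).2⟩
    have b2 : ∀ k ∈ K, Commute ρ k → k = 1 := fun k hk c =>
      cent9 hG θ9 θ0 h9 ((hK k).1 hk).2 (r3 k ((hK k).1 hk).1 c)
    have b3 : ∀ k ∈ K, k * (ρ * k * ρ⁻¹) = ρ * (ρ * k⁻¹ * ρ⁻¹) * ρ⁻¹ := fun k hk => by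
      rw [eq_inv_of_mul_eq_one_left (fpf3 b1 b2 (fun k hk => by
        obtain ⟨n, hn⟩ := r2
        exact hn ▸ ((hK k).1 hk).1.zpow_left n) hk)]
      simp [mul_assoc]
    have b4 : ∀ k ∈ K, Commute k (ρ * k * ρ⁻¹) := fun k hk => by
      rw [Commute, SemiconjBy, b3 k hk, show ρ * k * ρ⁻¹ * k = (k⁻¹ * (ρ * k⁻¹ * ρ⁻¹))⁻¹ by group,
        b3 _ (inv_mem hk)]
      simp [mul_assoc]
    have b5 : ∀ k ∈ K, PE 2 k := fun k hk => by
      obtain ⟨c1, c2⟩ := (hK k).1 hk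
      have c3 : ¬ q ∣ orderOf k := fun e => hq3 ((Nat.prime_dvd_prime_iff_eq Nat.prime_three hq).1 (by
        rw [← hQ _ (sing_mul c1.symm e fun e => hq3 ((Nat.prime_dvd_prime_iff_eq hq Nat.prime_three).1 (u3 ▸ e))),
          ← c1.eq]
        exact sing_mul c1 u3.symm.dvd c2)).symm
      exact ⟨a, orderOf_dvd_iff_pow_eq_one.1 ((Nat.Coprime.pow_right 2
        (Nat.prime_three.coprime_iff_not_dvd.2 c2).symm).dvd_of_dvd_mul_left
        ((hq.coprime_iff_not_dvd.2 c3).symm.dvd_of_dvd_mul_right (hc ▸ orderOf_dvd_natCard k)))⟩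
    have b6 : ∀ t ∈ K, orderOf t = 2 → ∀ ψ ∈ L, dg χ = 17 ∧ ψ.1 t = 4 := fun t ht t2 ψ hψ =>
      inv_val a2 a7 (a6 ψ hψ) (a9.imp_right And.left) u3 t2 ((hK t).1 ht).1 (b4 t ht) (isConj_iff.2 ⟨ρ, rfl⟩) (by
        rw [b3 t ht, inv_eq_of_mul_eq_one_right ((sq t).symm.trans (t2 ▸ pow_orderOf_eq_one t))]
        exact isConj_iff.2 ⟨ρ * ρ, by group⟩)
    refine ⟨b5, fun t ht t2 => ⟨(b6 t ht t2 ψ hψ).1, fun ψ hψ => (b6 t ht t2 ψ hψ).2⟩, fun e =>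
      card_K_le (ψ := ψ) (by have := a10 ψ hψ; omega) b1 b2 b4 b5 (fun k hk => ?_) fun k hk k1 k2 =>
        (b6 k hk (orderOf_eq_prime k2 k1) ψ hψ).2⟩
    linear_combination a6 ψ hψ _ ((reg_inv k).2 ((hK k).1 hk).2) - a6 ψ hψ _ ((hK k).1 hk).2 + a8 k
  intro k hk k1
  by_contra hne
  obtain ⟨K0, k2, k3⟩ := exists_K2 R h9 he (mem_Rs.2 ⟨hk, k1⟩)
  obtain ⟨⟨y, hy⟩, y1⟩ := (K0.ne_bot_iff_exists_ne_one).1 fun e => hne (Subgroup.eq_of_le_of_card_ge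
    (fun l hl => mem_Cz.2 (comm9' R h9 hl hk).eq) (by rw [← k3, e, h9]; simp)).symm
  replace y1 : y ≠ 1 := by simpa using y1
  obtain ⟨j, hj⟩ := exists_pow_orderOf (three_dvd9 R h9 (mem_Rs.2 ⟨hk, k1⟩))
  obtain ⟨K, k4, -⟩ := exists_K2 R h9 he (mem_Rs.2 ⟨pow_mem hk j, ne_one_of_orderOf Nat.prime_three hj⟩)
  obtain ⟨b1, b2, -⟩ := key _ (pow_mem hk j) hj K k4
  have b3 : y ∈ K := (k4 y).2 ⟨((k2 y).1 hy).1.pow_left j, ((k2 y).1 hy).2⟩
  obtain ⟨i, t2⟩ : ∃ i, orderOf (y ^ i) = 2 :=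
    exists_pow_orderOf (not_not.1 fun e => y1 (eq_one_of_reg_pe (p := 2) e (b1 y b3)))
  obtain ⟨b4, b5⟩ := b2 _ (pow_mem b3 i) t2
  have b6 := ((k4 _).1 (pow_mem b3 i)).1
  generalize y ^ i = t at t2 b5 b6
  generalize k ^ j = u at hj b6
  obtain rfl : q = 17 := by omega
  have b7 : ψ ≠ triv G := fun e => a3 (e ▸ hψ)
  have b8 : dg ψ = 2 ^ 4 := by have := a10 ψ hψ; omega
  have r1 : Reg 3 t := by rw [Reg, t2]; decide
  have t1 := ne_one_of_orderOf Nat.prime_two t2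
  have ha : a ≤ 6 := by
    by_contra e
    have := three_pow hG (Y := χ) b7 (Or.inl rfl) (n := 2 ^ (a - 2)) (fun g hg => by
      obtain ⟨j, hj⟩ := exists_pow_orderOf (not_not.1 fun e => hg (by simpa using a6 ψ hψ g e))
      obtain ⟨v, hv, e1⟩ := pe_isConj R (g := g ^ j) ⟨1, by rw [pow_one, ← hj, pow_orderOf_eq_one]⟩
      have v3 := (orderOf_of_isConj e1).trans hj
      obtain ⟨K, c1, c2⟩ := exists_K2 R h9 he (mem_Rs.2 ⟨hv, ne_one_of_orderOf Nat.prime_three v3⟩)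
      have c3 := (key v hv v3 K c1).2.2 b4
      have c4 : ¬ 3 ∣ Nat.card K := fun e => by
        obtain ⟨y, hy⟩ := exists_prime_orderOf_dvd_card' 3 e
        exact (reg_coe y).1 ((c1 y).1 y.2).2 hy.symm.dvd
      have c5 : 0 < Nat.card K := Nat.card_pos
      have c6 : Nat.card (Cz g) ∣ 36 := (Subgroup.card_dvd_of_le (show Cz g ≤ Cz (g ^ j) from fun x hx =>
        mem_Cz.2 (Commute.pow_right (mem_Cz.1 hx) j).eq)).trans (by
          rw [← card_Cz_conj e1, ← c2]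
          generalize Nat.card K = n at c3 c4 c5
          interval_cases n <;> simp at c4 ⊢)
      have c7 : 2 ^ (a - 2) * 36 ∣ (Cz g).index * 36 := by
        refine Dvd.dvd.trans ⟨17, ?_⟩ (Nat.mul_dvd_mul_left _ c6)
        rw [Subgroup.index_mul_card, hc, show a = a - 2 + 2 by omega]
        simp; ring
      exact Nat.dvd_of_mul_dvd_mul_right (by norm_num) c7) Nat.prime_two (by norm_num) b8 (by positivity)
      (dvd_pow_self 2 (by omega)) dvd_rfl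
    rw [b8, Nat.pow_dvd_pow_iff_le_right one_lt_two] at this
    omega
  have c1 := (Cz t).index_mul_card
  have c2 : 2 ∣ (Cz t).index := by
    by_contra e
    have := burnside hG b7 t1 (b8 ▸ Nat.Coprime.pow_left 4 (Nat.prime_two.coprime_iff_not_dvd.2 e))
    rw [b5 ψ hψ] at this
    norm_num at this
  have c3 : 17 ∣ (Cz t).index := ((Nat.Prime.dvd_mul hq).1 (c1 ▸ hc ▸ dvd_mul_left _ _)).resolve_right fun e => by
    obtain ⟨z, hz⟩ := exists_prime_orderOf_dvd_card' 17 e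
    rw [← Subgroup.orderOf_coe] at hz
    have c : Commute (z : G) t := mem_Cz.1 z.2
    have e1 := hQ _ (sing_mul c hz.symm.dvd (by rw [Reg, t2]; decide))
    have e2 := sing_mul (p := 2) c.symm t2.symm.dvd (by rw [Reg, hz]; decide)
    rw [← c.eq, e1] at e2
    omega
  have c4 : 3 ∣ (Cz t).index := by
    by_contra e
    obtain ⟨S, hS⟩ := Sylow.exists_subgroup_card_pow_prime (G := Cz t) 3 (n := 2) ((Nat.Coprime.pow_left 2
      (Nat.prime_three.coprime_iff_not_dvd.2 e)).dvd_of_dvd_mul_left (c1 ▸ hc ▸ mul_assoc 9 _ _ ▸ dvd_mul_right _ _))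
    refine t1 (cent9 hG θ9 θ0 (S := S.map (Cz t).subtype) (by rw [Subgroup.card_subtype, hS]; rfl) r1 ?_)
    rintro _ ⟨r, -, rfl⟩
    exact mem_Cz.1 r.2
  have c5 : Nat.card (Cz t) ≤ 96 := by
    have e1 : 102 ≤ (Cz t).index := Nat.le_of_dvd (Nat.pos_of_ne_zero Subgroup.index_ne_zero_of_finite) (by omega)
    have e2 : 2 ^ a ≤ 2 ^ 6 := Nat.pow_le_pow_right two_pos ha
    have e3 := Nat.mul_le_mul_right (Nat.card (Cz t)) e1
    omega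
  obtain ⟨d, hd⟩ := wt2 (ch θ) b6 three_ne_zero two_ne_zero (hj ▸ pow_orderOf_eq_one u) (t2 ▸ pow_orderOf_eq_one t)
    (one_pow 3) (neg_one_sq)
  have u2 : 3 ∣ orderOf (u ^ 2) := by rw [orderOf_pow' _ two_ne_zero, hj]; decide
  simp only [Finset.sum_range_succ, Finset.sum_range_zero, pow_zero, pow_one, one_mul, mul_one, one_pow, zero_add,
    θ0 u hj.symm.dvd, θ0 _ u2, θ0 _ (sing_mul b6 hj.symm.dvd r1), θ0 _ (sing_mul (b6.pow_left 2) u2 r1),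
    apply_one, θ9] at hd
  have d1 : θ.1 t = ((9 - 6 * d : ℤ) : ℂ) := by push_cast at hd ⊢; linear_combination -hd
  have d2 : χ.1 t = 5 := by linear_combination b5 ψ hψ - a6 ψ hψ t r1
  have d3 : θ ∉ L := fun e => by have := a10 θ e; omega
  have d4 : θ ≠ χ := fun e => by rw [e] at θ9; omega
  have d5 : θ ≠ triv G := fun e => by rw [e, dg_triv] at θ9; omega
  have d6 := Finset.sum_le_sum_of_subset_of_nonneg (f := fun φ : IrrCharacter G => ‖φ.1 t‖ ^ 2)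
    (Finset.subset_univ (insert θ (insert χ (insert (triv G) L)))) fun _ _ _ => by positivity
  rw [sum_normSq, Finset.sum_insert (by simp [*]), Finset.sum_insert (by simp [*]), Finset.sum_insert a3,
    Finset.sum_congr rfl (g := fun _ => 16) fun ψ hψ => by rw [b5 ψ hψ]; norm_num, d1, d2, Complex.norm_intCast,
    sq_abs, Finset.sum_const, a5, triv_apply] at d6
  have d7 : (9 : ℤ) ≤ (9 - 6 * d) ^ 2 := by
    rcases (show (3 : ℤ) ≤ 9 - 6 * d ∨ (9 : ℤ) - 6 * d ≤ -3 by omega) with e | e <;> nlinarith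
  have d8 : (9 : ℝ) ≤ ((9 - 6 * d : ℤ) : ℝ) ^ 2 := by exact_mod_cast d7
  have d9 : (Nat.card (Cz t) : ℝ) ≤ 96 := by exact_mod_cast c5
  rw [show ‖(5 : ℂ)‖ = 5 by simp, norm_one, nsmul_eq_mul] at d6
  push_cast at d6 d8
  linarith

end

end Cfsg.Agent.Nine
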