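import Cfsg.Agent.Lib.Nine.U

/-! Fusion pattern `2, 2, 4` in a Sylow `3`-subgroup of order nine. -/

set_option autoImplicit false
set_option linter.unusedSectionVars false

open Cfsg Cfsg.Agent.Char Cfsg.Agent.Blk
open scoped ComplexConjugate Classical

namespace Cfsg.Agent.Nine

universe u

variable {G : Type u} [Group G]

/-- the fusion pattern `2, 2, 4` -/
structure C2 [Fintype G] (R : Subgroup G) (x y z : G) : Prop where
  hx : x ∈ Rs R
  hy : y ∈ Rs R
  hz : z ∈ Rs R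
  cx : ∀ l ∈ R, IsConj x l ↔ l = x ∨ l = x⁻¹
  cy : ∀ l ∈ R, IsConj y l ↔ l = y ∨ l = y⁻¹
  x3 : x ^ 3 = 1
  y3 : y ^ 3 = 1
  z3 : z ^ 3 = 1
  xy : ¬ IsConj x y
  xz : ¬ IsConj x z
  yz : ¬ IsConj y z
  all : ∀ l ∈ Rs R, IsConj x l ∨ IsConj y l ∨ IsConj z l
  fix : ∀ n ∈ Nm R, Commute n z → ∀ k ∈ R, Commute n k
  sum : ∀ F : G → ℂ, IsClassFunction G F → ∑ k ∈ Rs R, F k = 2 * F x + 2 * F y + 4 * F z

theorem C2.symm [Fintype G] {R : Subgroup G} {x y z : G} (h : C2 R x y z) : C2 R y x z :=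
  ⟨h.hy, h.hx, h.hz, h.cy, h.cx, h.y3, h.x3, h.z3, fun e => h.xy e.symm, h.yz, h.xz,
    fun l hl => or_left_comm.1 (h.all l hl), h.fix, fun F hF => by rw [h.sum F hF]; ring⟩

section
variable [Fintype G] (R : Sylow 3 G) (h9 : Nat.card R = 9)
include h9

theorem gen9 {u v : G} (hu : u ∈ Rs (R : Subgroup G)) (hv : v ∈ Rs (R : Subgroup G)) (h1 : v ≠ u) (h2 : v ≠ u⁻¹)
    {y : G} (c1 : Commute u y) (c2 : Commute v y) {r : G} (hr : r ∈ (R : Subgroup G)) : Commute r y := by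
  have e1 : Nat.card ↥((R : Subgroup G) ⊓ Cz y) ∣ 3 ^ 2 :=
    (Subgroup.card_dvd_of_le inf_le_left).trans h9.dvd
  have e2 : 4 ≤ Nat.card ↥((R : Subgroup G) ⊓ Cz y) := by
    obtain ⟨u1, u2⟩ := mem_Rs.1 hu
    obtain ⟨v1, v2⟩ := mem_Rs.1 hv
    rw [Nat.card_eq_fintype_card, Fintype.card_subtype, ← Finset.card_eq_four.2 ⟨1, u, u⁻¹, v, u2.symm,
      by simpa using u2, v2.symm, ne_inv9 R h9 hu, h1.symm, h2.symm, rfl⟩]
    refine Finset.card_le_card fun k hk => ?_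
    simp only [Finset.mem_insert, Finset.mem_singleton] at hk
    rw [Finset.mem_filter, and_iff_right (Finset.mem_univ _)]
    rcases hk with rfl | rfl | rfl | rfl
    exacts [one_mem _, ⟨u1, mem_Cz.2 c1.eq⟩, ⟨Subgroup.inv_mem _ u1, mem_Cz.2 c1.inv_left.eq⟩, ⟨v1, mem_Cz.2 c2.eq⟩]
  obtain ⟨i, hi, e⟩ := (Nat.dvd_prime_pow Nat.prime_three).1 e1
  have e3 : (R : Subgroup G) ⊓ Cz y = R := Subgroup.eq_of_le_of_card_ge inf_le_left (by
    rw [h9, e]; rw [e] at e2; interval_cases i <;> omega)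
  exact mem_Cz.1 (e3.ge hr).2

theorem split9 [IsSimpleGroup G] (hG : ¬ IsMulCommutative G) {a b c : G} (ha : a ∈ Rs (R : Subgroup G))
    (hb : b ∈ Rs (R : Subgroup G)) (hc : c ∈ Rs (R : Subgroup G)) (ab : ¬ IsConj a b) (ac : ¬ IsConj a c)
    (bc : ¬ IsConj b c) : (∀ k ∈ Rs (R : Subgroup G), ∀ l ∈ (R : Subgroup G), IsConj k l ↔ l = k ∨ l = k⁻¹) ∨
      ∃ x y z, C2 (R : Subgroup G) x y z := by
  by_cases h : ∀ k ∈ Rs (R : Subgroup G), (cR R k).card = 2
  · exact Or.inl fun k hk => cR_two R h9 hG hk (h k hk)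
  push Not at h
  obtain ⟨k, hk, h1⟩ := h
  have h2 : 4 ≤ (cR R k).card := by
    have := two_le_cR R h9 hG hk
    have := not_three_dvd_cR R h9 (mem_Rs.1 hk).1
    omega
  obtain ⟨x, hx, y, hy, xy, xk, yk⟩ : ∃ x ∈ Rs (R : Subgroup G), ∃ y ∈ Rs (R : Subgroup G),
      ¬ IsConj x y ∧ ¬ IsConj x k ∧ ¬ IsConj y k := by
    by_cases e1 : IsConj a k
    · exact ⟨b, hb, c, hc, bc, fun e => ab (e1.trans e.symm), fun e => ac (e1.trans e.symm)⟩
    by_cases e2 : IsConj b k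
    · exact ⟨a, ha, c, hc, ac, e1, fun e => bc (e2.trans e.symm)⟩
    · exact ⟨a, ha, b, hb, ab, e1, e2⟩
  have d : ∀ {u v : G}, ¬ IsConj u v → Disjoint (cR (R : Subgroup G) u) (cR R v) := fun e =>
    Finset.disjoint_left.2 fun l e1 e2 => e ((mem_cR.1 e1).1.trans (mem_cR.1 e2).1.symm)
  have d1 := Finset.disjoint_union_right.2 ⟨d xy, d xk⟩
  have s1 : cR R x ∪ (cR R y ∪ cR R k) ⊆ Rs (R : Subgroup G) := Finset.union_subset (cR_sub (mem_Rs.1 hx).2)
    (Finset.union_subset (cR_sub (mem_Rs.1 hy).2) (cR_sub (mem_Rs.1 hk).2))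
  have s2 := Finset.card_le_card s1
  have s3 := Finset.card_union_of_disjoint d1
  have s4 := Finset.card_union_of_disjoint (d yk)
  have s5 := two_le_cR R h9 hG hx
  have s6 := two_le_cR R h9 hG hy
  have s7 := card_Rs9 R h9
  have s8 := Finset.eq_of_subset_of_card_le s1 (by omega)
  have cx := cR_two R h9 hG hx (by omega)
  have cy := cR_two R h9 hG hy (by omega)
  have p3 : ∀ x ∈ Rs (R : Subgroup G), (∀ l ∈ (R : Subgroup G), IsConj x l ↔ l = x ∨ l = x⁻¹) → x ^ 3 = 1 :=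
    fun x hx cx => by
      by_contra e
      have e1 : orderOf x = 3 ^ 2 := orderOf_eq_prime_pow (p := 3) (n := 1) (by simpa using e) (pow9 R h9 (mem_Rs.1 hx).1)
      have e2 : Subgroup.zpowers x = R := Subgroup.eq_of_le_of_card_ge (by simpa using (mem_Rs.1 hx).1)
        (by rw [Nat.card_zpowers, e1, h9]; rfl)
      obtain ⟨j, rfl⟩ := e2.ge (mem_Rs.1 hk).1
      refine absurd (h2.trans (Finset.card_le_card (t := {x ^ j, (x ^ j)⁻¹}) fun l hl => ?_))
        (not_le.2 (Finset.card_le_two.trans_lt (by norm_num)))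
      obtain ⟨n, hn, rfl⟩ := fusion9 R h9 (mem_Rs.1 hk).1 (mem_cR.1 hl).2 (mem_cR.1 hl).1
      rw [← conj_zpow]
      rcases (cx _ (nz_of_mem hn x (mem_Rs.1 hx).1)).1 (isConj_iff.2 ⟨n, rfl⟩) with e | e <;> simp [e]
  have x3 := p3 x hx cx
  have y3 := p3 y hy cy
  have c := comm9' R h9 (mem_Rs.1 hx).1 (mem_Rs.1 hy).1
  have hz := mul_mem (mem_Rs.1 hx).1 (mem_Rs.1 hy).1
  have n1 : y ≠ x := fun e => xy (e ▸ IsConj.refl _)
  have n2 : y ≠ x⁻¹ := fun e => xy ((cx y (mem_Rs.1 hy).1).2 (Or.inr e))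
  have hz' : x * y ∈ Rs (R : Subgroup G) := mem_Rs.2 ⟨hz, fun e => n2 (eq_inv_of_mul_eq_one_right e)⟩
  have xz : ¬ IsConj x (x * y) := fun e => ((cx _ hz).1 e).elim (fun e => (mem_Rs.1 hy).2 (by simpa using e))
    fun e => n1 (mul_left_cancel (e.trans (inv_eq_sq x3)))
  have yz : ¬ IsConj y (x * y) := fun e => ((cy _ hz).1 e).elim (fun e => (mem_Rs.1 hx).2 (by simpa using e))
    fun e => n1 (mul_right_cancel (e.trans (inv_eq_sq y3))).symm
  have all : ∀ l ∈ Rs (R : Subgroup G), IsConj x l ∨ IsConj y l ∨ IsConj k l := fun l hl => by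
    simp only [← s8, Finset.mem_union, mem_cR] at hl
    tauto
  have kz : IsConj k (x * y) := by have := all _ hz'; tauto
  refine Or.inr ⟨x, y, x * y, hx, hy, hz', cx, cy, x3, y3, by rw [c.mul_pow, x3, y3, one_mul], xy, xz, yz,
    fun l hl => (all l hl).imp_right (Or.imp_right kz.symm.trans), fun n hn c1 r hr => ?_, fun F hF => ?_⟩
  · have e : n * x * n⁻¹ * (n * y * n⁻¹) = x * y := by rw [conj_mul, c1.eq, mul_inv_cancel_right]
    have f : n * x * n⁻¹ = x ∧ n * y * n⁻¹ = y := by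
      rcases (cx _ (nz_of_mem hn x (mem_Rs.1 hx).1)).1 (isConj_iff.2 ⟨n, rfl⟩) with e1 | e1 <;>
      rcases (cy _ (nz_of_mem hn y (mem_Rs.1 hy).1)).1 (isConj_iff.2 ⟨n, rfl⟩) with e2 | e2 <;> rw [e1, e2] at e
      · exact ⟨e1, e2⟩
      · exact absurd (mul_left_cancel e).symm (ne_inv9 R h9 hy)
      · exact absurd (mul_right_cancel e).symm (ne_inv9 R h9 hx)
      · exact absurd (by rw [c.eq, mul_inv_rev, e, c.eq]) (ne_inv9 R h9 hz')
    exact (gen9 R h9 hx hy n1 n2 (mul_inv_eq_iff_eq_mul.1 f.1).symm (mul_inv_eq_iff_eq_mul.1 f.2).symm hr).symm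
  · have f : ∀ u, ∑ l ∈ cR (R : Subgroup G) u, F l = (cR (R : Subgroup G) u).card * F u := fun u => by
      rw [Finset.sum_congr rfl fun l hl => (class_eq_of_isConj hF (mem_cR.1 hl).1).symm, Finset.sum_const,
        nsmul_eq_mul]
    rw [← s8, Finset.sum_union d1, Finset.sum_union (d yk), f, f, f, class_eq_of_isConj hF kz,
      show (cR (R : Subgroup G) x).card = 2 by omega, show (cR (R : Subgroup G) y).card = 2 by omega,
      show (cR (R : Subgroup G) k).card = 4 by omega]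
    push_cast; ring

end

theorem three_abs {ι : Type*} [Fintype ι] {o : ι} {c : ι → ℤ} {D : ι → ℕ} (hD : ∀ i, 0 < D i) (ho : D o = 1)
    (h1 : c o = 1) (h2 : ∑ i, c i * c i = 3) (h3 : ∑ i, c i * D i = 0) : ∃ A B, A ≠ o ∧ B ≠ o ∧ A ≠ B ∧
      c A = 1 ∧ c B = -1 ∧ ∀ i, i ≠ o → i ≠ A → i ≠ B → c i = 0 := by
  rw [← Finset.add_sum_erase _ _ (Finset.mem_univ o), h1] at h2
  obtain ⟨A, hA, B, hB, hAB, a1, b1, h4⟩ := exists_two (s := Finset.univ.erase o) (f := c) (by simp only [sq]; omega)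
  replace hA := (Finset.mem_erase.1 hA).1
  replace hB := (Finset.mem_erase.1 hB).1
  have h5 : ∀ i, i ≠ o → i ≠ A → i ≠ B → c i = 0 := fun i e => h4 i (by simpa using e)
  rw [sum_eq_three hA hB hAB fun i e1 e2 e3 => by rw [h5 i e1 e2 e3, zero_mul], h1, ho] at h3
  have := hD A
  have := hD B
  rcases a1 with a1 | a1 <;> rcases b1 with b1 | b1 <;> rw [a1, b1] at h3
  · omega
  · exact ⟨A, B, hA, hB, hAB, a1, b1, h5⟩
  · exact ⟨B, A, hB, hA, hAB.symm, b1, a1, fun i e1 e2 e3 => h5 i e1 e3 e2⟩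
  · omega

theorem pi_abs {ι : Type*} [Fintype ι] {o : ι} {c1 c2 c3 : ι → ℤ} {D : ι → ℕ} (hD : ∀ i, 0 < D i) (ho : D o = 1)
    (o1 : c1 o = 1) (o2 : c2 o = 1) (o3 : c3 o = 1) (n1 : ∑ i, c1 i * c1 i = 3) (n2 : ∑ i, c2 i * c2 i = 3)
    (n3 : ∑ i, c3 i * c3 i = 9) (n12 : ∑ i, c1 i * c2 i = 1) (n13 : ∑ i, c1 i * c3 i = 3)
    (n23 : ∑ i, c2 i * c3 i = 3) (d1 : ∑ i, c1 i * D i = 0) (d2 : ∑ i, c2 i * D i = 0) (d3 : ∑ i, c3 i * D i = 0) :
    ∃ A1 B1 A2 B2, [o, A1, B1, A2, B2].Nodup ∧ (c1 A1 = 1 ∧ c1 B1 = -1 ∧ ∀ i, i ≠ o → i ≠ A1 → i ≠ B1 → c1 i = 0) ∧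
      (c2 A2 = 1 ∧ c2 B2 = -1 ∧ ∀ i, i ≠ o → i ≠ A2 → i ≠ B2 → c2 i = 0) ∧
      ((c3 A1 = 1 ∧ c3 B1 = -1) ∨ (c3 A2 = 1 ∧ c3 B2 = -1)) := by
  obtain ⟨A1, B1, a1, a2, a3, a4, a5, a6⟩ := three_abs hD ho o1 n1 d1
  obtain ⟨A2, B2, b1, b2, b3, b4, b5, b6⟩ := three_abs hD ho o2 n2 d2
  rw [sum_eq_three a1 a2 a3 fun i e1 e2 e3 => by rw [a6 i e1 e2 e3, zero_mul], o1, a4, a5] at n12 n13
  rw [sum_eq_three b1 b2 b3 fun i e1 e2 e3 => by rw [b6 i e1 e2 e3, zero_mul], o2, b4, b5] at n23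
  have e0 : c2 A1 = 0 ∧ c2 B1 = 0 := by
    by_contra e
    have f : ∀ i, i ≠ o → c2 i = 0 ∨ i = A2 ∨ i = B2 := fun i e => by by_contra e'; push Not at e'; tauto
    rcases f A1 a1 with e1 | rfl | rfl <;> rcases f B1 a2 with e2 | rfl | rfl <;> first | omega | exact a3 rfl
  have e1 : A1 ≠ A2 := fun e => by rw [e] at e0; omega
  have e2 : A1 ≠ B2 := fun e => by rw [e] at e0; omega
  have e3 : B1 ≠ A2 := fun e => by rw [e] at e0; omega
  have e4 : B1 ≠ B2 := fun e => by rw [e] at e0; omega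
  refine ⟨A1, B1, A2, B2, by simp [*, a1.symm, a2.symm, b1.symm, b2.symm], ⟨a4, a5, a6⟩, ⟨b4, b5, b6⟩, ?_⟩
  by_contra e
  rw [← Finset.sum_add_sum_compl {o, A1, B1, A2, B2}, Finset.sum_insert (by simp [a1.symm, a2.symm, b1.symm, b2.symm]),
    Finset.sum_insert (by simp [*]), Finset.sum_insert (by simp [*]), Finset.sum_pair b3, o3] at n3 d3
  have f0 : 0 ≤ ∑ i ∈ ({o, A1, B1, A2, B2} : Finset ι)ᶜ, c3 i * c3 i := Finset.sum_nonneg fun _ _ => mul_self_nonneg _
  have f1 : c3 A1 = c3 B1 + 2 := by omega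
  have f2 : c3 A2 = c3 B2 + 2 := by omega
  rw [f1, f2] at n3 d3 e
  have f3 : -3 < c3 B1 := by nlinarith [mul_self_nonneg (c3 B2 + 1)]
  have f4 : c3 B1 < 1 := by nlinarith [mul_self_nonneg (c3 B2 + 1)]
  have f5 : -3 < c3 B2 := by nlinarith [mul_self_nonneg (c3 B1 + 1)]
  have f6 : c3 B2 < 1 := by nlinarith [mul_self_nonneg (c3 B1 + 1)]
  have f7 : ∑ i ∈ ({o, A1, B1, A2, B2} : Finset ι)ᶜ, c3 i * c3 i = 0 := by
    generalize c3 B1 = u at *
    generalize c3 B2 = v at *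
    interval_cases u <;> interval_cases v <;> omega
  rw [Finset.sum_eq_zero fun i hi => by
    rw [mul_self_eq_zero.1 ((Finset.sum_eq_zero_iff_of_nonneg fun _ _ => mul_self_nonneg _).1 f7 i hi), zero_mul],
    ho] at d3
  generalize c3 B1 = u at *
  generalize c3 B2 = v at *
  interval_cases u <;> interval_cases v <;> omega

/-- indicator function of a `3`-section -/
noncomputable def E [Fintype G] (u g : G) : ℂ := if IsConj u (pp 3 g) then 1 else 0

theorem E_avg [Fintype G] (u : G) : (Nat.card G : ℂ)⁻¹ * ∑ g, E u g = Np u / Nat.card (Cz u) := by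
  simp only [E]
  rw [← Finset.sum_filter, Finset.sum_const, nsmul_eq_mul, mul_one, sec_eq, ← card_cl_mul u]
  have : ((cl u).card : ℂ) ≠ 0 := by exact_mod_cast (card_cl_pos u).ne'
  have := natCard_ne_zero (G := Cz u)
  push_cast; field_simp

theorem E_self [Fintype G] (u g : G) : E u g * E u g = E u g := by simp only [E]; split_ifs <;> simp

theorem E_ne [Fintype G] {u v : G} (h : ¬ IsConj u v) (g : G) : E u g * E v g = 0 := by
  simp only [E]; split_ifs with e1 e2 <;> first | exact absurd (e1.trans e2.symm) h | simp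

theorem conj_E [Fintype G] (u g : G) : conj (E u g) = E u g := by simp only [E]; split_ifs <;> simp

theorem E_reg [Fintype G] {u g : G} (hu : u ≠ 1) (hg : Reg 3 g) : E u g = 0 :=
  if_neg (by rwa [pp_of_reg hg, isConj_one_left])

theorem E_pe [Fintype G] {u g : G} (hg : g ^ 3 = 1) : E u g = if IsConj u g then 1 else 0 := by
  rw [E, pp_of_pe ⟨1, by simpa using hg⟩]

theorem isClass_E [Fintype G] (u : G) : IsClassFunction G (E u) := fun g c => by
  simp only [E, pp_conj, Fix.isConj_conj_iff]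

namespace C2
variable [Fintype G] {R : Sylow 3 G} {x y z : G} (h : C2 (R : Subgroup G) x y z) (h9 : Nat.card R = 9)
include h h9

theorem gen : IsGeneralizedCharacter G fun g => 3 * (E x g + E z g) := by
  have := comm9 R h9
  let Z := Subgroup.zpowers (⟨y, (mem_Rs.1 h.hy).1⟩ : (R : Subgroup G))
  have h1 : Z.index = 3 := by
    have := Z.index_mul_card
    rw [Nat.card_zpowers, ← Subgroup.orderOf_coe, orderOf_three h.y3 (mem_Rs.1 h.hy).2, h9] at this
    omega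
  simp only [E]
  refine lift_gen R (F := fun g => 3 * ((if IsConj x g then 1 else 0) + if IsConj z g then 1 else 0))
    (fun g c => by simp only [Fix.isConj_conj_iff]) ?_
  convert isGen_sub (isGen_natCast_smul isGen_one 3) (isGen_indFun Z isGen_one) using 2 with k
  by_cases e : k ∈ Z
  · have e1 : k = 1 ∨ IsConj y k := by
      obtain ⟨n, hn⟩ := e
      rcases mem_zpowers_three (g := (k : G)) h.y3 ⟨n, congrArg Subtype.val hn⟩ with e | e
      · exact Or.inl (Subtype.ext e)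
      · exact Or.inr ((h.cy k k.2).2 e)
    rw [Pi.sub_apply, indFun_apply_central Z 1 (Subgroup.mem_center_iff.2 fun g => mul_comm' _ _) e, h1, if_neg, if_neg]
    · simp
    · exact fun e2 => e1.elim (fun e => (mem_Rs.1 h.hz).2 (by simpa [e] using e2)) fun e => h.yz (e.trans e2.symm)
    · exact fun e2 => e1.elim (fun e => (mem_Rs.1 h.hx).2 (by simpa [e] using e2)) fun e => h.xy (e2.trans e.symm)
  · rw [Pi.sub_apply, indFun_eq_zero_of_normal Z 1 e]
    rcases h.all k (mem_Rs.2 ⟨k.2, fun e1 => e ((Subtype.ext e1 : k = (1 : (R : Subgroup G))) ▸ one_mem Z)⟩)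
      with e1 | e1 | e1
    · rw [if_pos e1, if_neg fun e2 => h.xz (e1.trans e2.symm)]; simp
    · refine absurd ?_ e
      rcases (h.cy k k.2).1 e1 with e2 | e2
      · exact (Subtype.ext e2 : k = (⟨y, (mem_Rs.1 h.hy).1⟩ : (R : Subgroup G))) ▸ Subgroup.mem_zpowers _
      · exact (Subtype.ext e2 : k = (⟨y, (mem_Rs.1 h.hy).1⟩ : (R : Subgroup G))⁻¹) ▸ inv_mem (Subgroup.mem_zpowers _)
    · rw [if_pos e1, if_neg fun e2 => h.xz (e2.trans e1.symm)]; simp

theorem avg_z : (Nat.card G : ℂ)⁻¹ * ∑ g, E z g = 1 / 9 := by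
  obtain ⟨K, a1, a2⟩ := exists_K R h9 (mem_Rs.1 h.hz).1 h.fix
  rw [E_avg, Np_eq ⟨1, by simpa using h.z3⟩ a1, ← a2]
  have := natCard_ne_zero (G := K)
  push_cast; field_simp

theorem avg_x : (Nat.card G : ℂ)⁻¹ * ∑ g, E x g = 2 / 9 := by
  obtain ⟨n, hn⟩ := exists_int_inner (h.gen h9) isGen_one
  rw [inner_one_right, ← Finset.mul_sum, Finset.sum_add_distrib, mul_left_comm, mul_add, h.avg_z h9] at hn
  have a1 := two_Np_le (ne_inv9 R h9 h.hx)
  have a2 := Np_pos (u := x) ⟨1, by simpa using h.x3⟩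
  have a3 : (9 * Np x : ℤ) = (3 * n - 1) * Nat.card (Cz x) := by
    rw [E_avg] at hn
    have := natCard_ne_zero (G := Cz x)
    field_simp at hn
    exact_mod_cast (by linear_combination hn / 3 : (9 * Np x : ℂ) = (3 * n - 1) * Nat.card (Cz x))
  obtain rfl : n = 1 := by
    have a1' : (2 * Np x : ℤ) ≤ Nat.card (Cz x) := by exact_mod_cast a1
    have a2' : (0 : ℤ) < Np x := by exact_mod_cast a2
    have : 0 < n := by nlinarith
    have : n < 2 := by nlinarith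
    omega
  push_cast at hn
  linear_combination hn / 3

theorem pairs {n : ℕ} (hc : Nat.card G = 9 * n) : ∃ A1 B1 A2 B2 : IrrCharacter G, [triv G, A1, B1, A2, B2].Nodup ∧
    (∀ g, 1 + (A1.1 g - B1.1 g) = 3 * (E x g + E z g)) ∧ (∀ g, 1 + (A2.1 g - B2.1 g) = 3 * (E y g + E z g)) ∧
    (∀ θ : IrrCharacter G, (∀ g, 3 ∣ orderOf g → θ.1 g = 0) → θ ∉ [A1, B1, A2, B2]) ∧
    ((dg A1 ∣ n ∧ dg B1 ∣ n) ∨ (dg A2 ∣ n ∧ dg B2 ∣ n)) := by
  have := Fintype.ofFinite (IrrCharacter G)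
  have x1 := (mem_Rs.1 h.hx).2
  have y1 := (mem_Rs.1 h.hy).2
  have z1 := (mem_Rs.1 h.hz).2
  have g1 := h.gen h9
  have g2 := h.symm.gen h9
  have g3 : IsGeneralizedCharacter G fun g => 9 * E z g := by
    convert isGen_mul g1 g2 using 2 with g
    simp only [Pi.mul_apply]
    linear_combination -9 * (E_ne h.xy g + E_ne h.xz g + E_ne h.yz g + E_self z g)
  have ax := h.avg_x h9
  have ay := h.symm.avg_x h9
  have az := h.avg_z h9
  have key : ∀ {f : G → ℂ} (α β γ : ℂ), (∀ g, f g = α * E x g + β * E y g + γ * E z g) →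
      (Nat.card G : ℂ)⁻¹ * ∑ g, f g = (2 * α + 2 * β + γ) / 9 := fun α β γ e => by
    simp only [e, Finset.sum_add_distrib, ← Finset.mul_sum]
    linear_combination α * ax + β * ay + γ * az
  choose c1 hc1 using fun χ : IrrCharacter G => exists_int_inner g1 (isGen_of_irr χ.2)
  choose c2 hc2 using fun χ : IrrCharacter G => exists_int_inner g2 (isGen_of_irr χ.2)
  choose c3 hc3 using fun χ : IrrCharacter G => exists_int_inner g3 (isGen_of_irr χ.2)
  have k1 : ∀ {f : G → ℂ} {c : IrrCharacter G → ℤ}, (∀ χ : IrrCharacter G, classInner f χ.1 = c χ) → ∀ α β γ : ℂ,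
      (∀ g, f g = α * E x g + β * E y g + γ * E z g) → (2 * α + 2 * β + γ) / 9 = 1 → c (triv G) = 1 :=
    fun hc α β γ e e' => by
      have := hc (triv G)
      rw [show (triv G).1 = 1 from rfl, inner_one_right, key α β γ e, e'] at this
      exact_mod_cast this.symm
  have k2 : ∀ {f f' : G → ℂ} {c c' : IrrCharacter G → ℤ}, IsGeneralizedCharacter G f →
      (∀ χ : IrrCharacter G, classInner f χ.1 = c χ) → (∀ χ : IrrCharacter G, classInner f' χ.1 = c' χ) →
      ∀ (α β γ : ℂ) (r : ℤ), (∀ g, f g * conj (f' g) = α * E x g + β * E y g + γ * E z g) →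
      (2 * α + 2 * β + γ) / 9 = r → ∑ χ, c χ * c' χ = r := fun {f f' c c'} hf hc hc' α β γ r e e' => by
    have := inner_eq_sum_irr (isClass_of_isGen hf) f'
    simp only [hc, hc', map_intCast] at this
    rw [classInner, key α β γ e, e'] at this
    exact_mod_cast this.symm
  have k3 : ∀ {f : G → ℂ} {c : IrrCharacter G → ℤ}, IsGeneralizedCharacter G f →
      (∀ χ : IrrCharacter G, classInner f χ.1 = c χ) → ∀ g, f g = ∑ χ, c χ * χ.1 g := fun hf hc g => by
    simpa only [hc] using class_apply_eq_sum_irr (isClass_of_isGen hf) g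
  have k4 : ∀ {f : G → ℂ} {c : IrrCharacter G → ℤ}, IsGeneralizedCharacter G f →
      (∀ χ : IrrCharacter G, classInner f χ.1 = c χ) → f 1 = 0 → ∑ χ, c χ * dg χ = 0 := fun hf hc e => by
    have := k3 hf hc 1
    simp only [e, apply_one] at this
    exact_mod_cast this.symm
  obtain ⟨A1, B1, A2, B2, a0, ⟨a1, a2, a3⟩, ⟨b1, b2, b3⟩, a4⟩ := pi_abs dg_pos dg_triv
    (k1 hc1 3 0 3 (fun g => by ring) (by norm_num)) (k1 hc2 0 3 3 (fun g => by ring) (by norm_num))
    (k1 hc3 0 0 9 (fun g => by ring) (by norm_num))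
    (k2 g1 hc1 hc1 9 0 9 3 (fun g => by
      simp only [map_mul, map_add, conj_E, map_ofNat]
      linear_combination 9 * (E_self x g + 2 * E_ne h.xz g + E_self z g)) (by norm_num))
    (k2 g2 hc2 hc2 0 9 9 3 (fun g => by
      simp only [map_mul, map_add, conj_E, map_ofNat]
      linear_combination 9 * (E_self y g + 2 * E_ne h.yz g + E_self z g)) (by norm_num))
    (k2 g3 hc3 hc3 0 0 81 9 (fun g => by
      simp only [map_mul, conj_E, map_ofNat]
      linear_combination 81 * E_self z g) (by norm_num))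
    (k2 g1 hc1 hc2 0 0 9 1 (fun g => by
      simp only [map_mul, map_add, conj_E, map_ofNat]
      linear_combination 9 * (E_ne h.xy g + E_ne h.xz g + E_ne h.yz g + E_self z g)) (by norm_num))
    (k2 g1 hc1 hc3 0 0 27 3 (fun g => by
      simp only [map_mul, conj_E, map_ofNat]
      linear_combination 27 * (E_ne h.xz g + E_self z g)) (by norm_num))
    (k2 g2 hc2 hc3 0 0 27 3 (fun g => by
      simp only [map_mul, conj_E, map_ofNat]
      linear_combination 27 * (E_ne h.yz g + E_self z g)) (by norm_num))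
    (k4 g1 hc1 (by simp [E_reg x1 reg_one, E_reg z1 reg_one])) (k4 g2 hc2 (by simp [E_reg y1 reg_one, E_reg z1 reg_one]))
    (k4 g3 hc3 (by simp [E_reg z1 reg_one]))
  have a5 := a0
  simp only [List.nodup_cons, List.mem_cons, not_or] at a5
  have k5 : ∀ χ : IrrCharacter G, c3 χ = 1 ∨ c3 χ = -1 → dg χ ∣ n := fun χ e => by
    have e1 := isIntegral_sum_div (isIrr_conj χ.2) (isClass_E z) fun g => by
      simp only [E]; split_ifs; exacts [isIntegral_one, isIntegral_zero]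
    have e2 := hc3 χ
    simp only [classInner, mul_assoc, ← Finset.mul_sum, hc] at e2
    have e3 : (n : ℂ) ≠ 0 := fun e => natCard_ne_zero (G := G) (by rw [hc, Nat.cast_mul, e, mul_zero])
    rw [show ∑ g, E z g * conj (χ.1 g) = ((n * c3 χ : ℤ) : ℂ) by push_cast at e2 ⊢; rw [← e2]; field_simp,
      apply_one, map_natCast, ← Int.cast_natCast] at e1
    have e4 := dvd_of_isIntegral_div (by exact_mod_cast (dg_pos χ).ne') e1
    rcases e with e | e <;> rw [e] at e4 <;> simpa [Int.natCast_dvd_natCast] using e4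
  have k6 : ∀ {f : G → ℂ} {c : IrrCharacter G → ℤ}, (∀ χ : IrrCharacter G, classInner f χ.1 = c χ) →
      (∀ g, Reg 3 g → f g = 0) → ∀ θ : IrrCharacter G, (∀ g, 3 ∣ orderOf g → θ.1 g = 0) → c θ = 0 :=
    fun hc e θ e' => by
      have := hc θ
      rw [classInner, Finset.sum_eq_zero fun g _ => by
        by_cases e1 : Reg 3 g
        · rw [e g e1, zero_mul]
        · rw [e' g (not_not.1 e1), map_zero, mul_zero], mul_zero] at this
      exact_mod_cast this.symm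
  refine ⟨A1, B1, A2, B2, a0, fun g => ?_, fun g => ?_, fun θ e => ?_,
    a4.imp (fun e => ⟨k5 _ (Or.inl e.1), k5 _ (Or.inr e.2)⟩) fun e => ⟨k5 _ (Or.inl e.1), k5 _ (Or.inr e.2)⟩⟩
  · rw [k3 g1 hc1 g, sum_eq_three (o := triv G) (a := A1) (b := B1) (by tauto) (by tauto) (by tauto) fun i e1 e2 e3 => by
      rw [a3 i e1 e2 e3]; simp, k1 hc1 3 0 3 (fun g => by ring) (by norm_num), a1, a2]
    simp; ring
  · rw [k3 g2 hc2 g, sum_eq_three (o := triv G) (a := A2) (b := B2) (by tauto) (by tauto) (by tauto) fun i e1 e2 e3 => by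
      rw [b3 i e1 e2 e3]; simp, k1 hc2 0 3 3 (fun g => by ring) (by norm_num), b1, b2]
    simp; ring
  · have e1 := k6 hc1 (fun g hg => by simp [E_reg x1 hg, E_reg z1 hg]) θ e
    have e2 := k6 hc2 (fun g hg => by simp [E_reg y1 hg, E_reg z1 hg]) θ e
    simp only [List.mem_cons, List.not_mem_nil, or_false]
    rintro (rfl | rfl | rfl | rfl) <;> omega

end C2

end Cfsg.Agent.Nine
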