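import Cfsg.Agent.Lib.Nine.V

/-! The fusion pattern `2, 2, 4` does not occur. -/

set_option autoImplicit false
set_option linter.unusedSectionVars false

open Cfsg Cfsg.Agent.Char Cfsg.Agent.Blk
open scoped ComplexConjugate Classical

namespace Cfsg.Agent.Nine

universe u

variable {G : Type u} [Group G]

theorem int3 [Finite G] [IsSimpleGroup G] {χ : IrrCharacter G} (hχ : χ ≠ triv G) {x : G} (h1 : x ≠ 1)
    (h3 : x ^ 3 = 1) (hr : IsConj x x⁻¹) : ∃ c : ℤ, χ.1 x = c ∧ c < dg χ ∧ ∃ m : ℕ, dg χ + 2 * c = 3 * m := by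
  obtain ⟨c, hc, -⟩ := exists_int_three χ h3 hr
  obtain ⟨m, hm⟩ := sum_pow_char (ch χ) h3
  refine ⟨c, hc, lt_of_le_of_ne ?_ fun e => ne_dg hχ h1 (by rw [hc, e, Int.cast_natCast]), m, ?_⟩
  · have := norm_char_le (ch χ) x
    rw [hc, apply_one, Complex.norm_intCast, Complex.norm_natCast] at this
    exact_mod_cast (le_abs_self _).trans this
  · simp only [Finset.sum_range_succ, Finset.sum_range_zero, pow_zero, pow_one, sq, ← inv_eq_sq h3, ← conj_eq χ hr,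
      hc, apply_one] at hm
    exact_mod_cast (by push_cast at hm; linear_combination hm : (dg χ : ℂ) + 2 * c = 3 * m)

theorem two_pow_mod_seven (a : ℕ) : 2 ^ a % 7 = 1 ∨ 2 ^ a % 7 = 2 ∨ 2 ^ a % 7 = 4 := by
  induction a with
  | zero => simp
  | succ a ih => rw [pow_succ]; omega

theorem dvd_list {a d : ℕ} (h : d ∣ 9 * 2 ^ a * 17) (h1 : d ≤ 63) :
    d ∈ [1, 2, 3, 4, 6, 8, 9, 12, 16, 17, 18, 24, 32, 34, 36, 48, 51] := by
  obtain ⟨u, v, hu, hv, rfl⟩ := (Nat.dvd_mul (m := 153) (n := 2 ^ a)).1 (by convert h using 1; ring)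
  obtain ⟨j, -, rfl⟩ := (Nat.dvd_prime_pow Nat.prime_two).1 hv
  have h2 : 0 < u := Nat.pos_of_dvd_of_pos hu (by norm_num)
  have h3 : j ≤ 5 := by
    by_contra e
    have : 2 ^ 6 ≤ 2 ^ j := Nat.pow_le_pow_right two_pos (by omega)
    nlinarith
  have h4 : u ∈ Nat.divisors 153 := Nat.mem_divisors.2 ⟨hu, by norm_num⟩
  rw [show Nat.divisors 153 = {1, 3, 9, 17, 51, 153} by decide] at h4
  simp only [Finset.mem_insert, Finset.mem_singleton] at h4
  rcases h4 with rfl | rfl | rfl | rfl | rfl | rfl <;> interval_cases j <;> first | decide | omega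

set_option maxHeartbeats 2000000 in
theorem caseII_aux [Fintype G] [IsSimpleGroup G] (hG : ¬ IsMulCommutative G) {q a b : ℕ} (hq : q.Prime) (hq2 : q ≠ 2)
    (hq3 : q ≠ 3) (hc : Nat.card G = 9 * 2 ^ a * q ^ b) {R : Sylow 3 G} {x y z : G} (h : C2 (R : Subgroup G) x y z)
    (h9 : Nat.card R = 9) {A1 B1 A2 B2 : IrrCharacter G} (a0 : [triv G, A1, B1, A2, B2].Nodup)
    (a1 : ∀ g, 1 + (A1.1 g - B1.1 g) = 3 * (E x g + E z g)) (a2 : ∀ g, 1 + (A2.1 g - B2.1 g) = 3 * (E y g + E z g))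
    (a3 : ∀ θ : IrrCharacter G, (∀ g, 3 ∣ orderOf g → θ.1 g = 0) → θ ≠ A2 ∧ θ ≠ B2)
    (d1 : dg A1 ∣ 2 ^ a * q ^ b) (d2 : dg B1 ∣ 2 ^ a * q ^ b) : False := by
  have := Fintype.ofFinite (IrrCharacter G)
  have : Fact q.Prime := ⟨hq⟩
  simp only [List.nodup_cons, List.mem_cons, List.not_mem_nil, not_or, or_false] at a0
  obtain ⟨⟨n1, n2, n3, n4⟩, -, ⟨n5, n6⟩, n7, -⟩ := a0
  have x1 := (mem_Rs.1 h.hx).2
  have y1 := (mem_Rs.1 h.hy).2
  have z1 := (mem_Rs.1 h.hz).2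
  have v1 : ∀ g, Reg 3 g → 1 + (A1.1 g - B1.1 g) = 0 := fun g hg => by simp [a1, E_reg x1 hg, E_reg z1 hg]
  have v2 : ∀ g, Reg 3 g → 1 + (A2.1 g - B2.1 g) = 0 := fun g hg => by simp [a2, E_reg y1 hg, E_reg z1 hg]
  have v3 : ∀ A B : IrrCharacter G, 1 + (A.1 1 - B.1 1) = 0 → dg B = dg A + 1 := fun A B e => by
    simp only [apply_one] at e
    exact_mod_cast (by linear_combination -e : (dg B : ℂ) = dg A + 1)
  have e1 := v3 _ _ (v1 1 reg_one)
  have e2 := v3 _ _ (v2 1 reg_one)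
  obtain ⟨rfl, hQ, i, -, e3⟩ := pair_deg hG hq hq2 hq3 hc (Ne.symm n1) (Ne.symm n2) e1 d1 d2
  rw [pow_one] at hc
  obtain ⟨θ, θ9, θ0⟩ := exists_nine' hG R h9 hq hq2 hq3 hc
  obtain ⟨μ, m1, m2, m3⟩ := mult_sq θ θ0
  rw [← Finset.sum_add_sum_compl {triv G, B1, B2}, Finset.sum_insert (by simp [*]), Finset.sum_pair n6, m1, dg_triv,
    m3 A1 B1 v1, m3 A2 B2 v2, θ9, add_mul, add_mul] at m2
  have e4 := two_le_dg hG (Ne.symm n3)
  have e5 : i ≤ 6 := by
    by_contra e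
    have : 2 ^ 7 ≤ 2 ^ i := Nat.pow_le_pow_right two_pos (by omega)
    omega
  have e6 : (q = 5 ∧ dg A1 = 4) ∨ (q = 7 ∧ dg A1 = 7) ∨ (q = 17 ∧ dg A1 = 16) ∨ q = 31 := by
    have : q ≠ 1 ∧ q ≠ 9 ∧ q ≠ 15 ∧ q ≠ 33 ∧ q ≠ 63 ∧ q ≠ 65 ∧ q ≠ 0 := by
      refine ⟨?_, ?_, ?_, ?_, ?_, ?_, ?_⟩ <;> rintro rfl <;> norm_num at hq
    interval_cases i <;> omega
  obtain ⟨Q⟩ : Nonempty (Sylow q G) := inferInstance
  obtain ⟨q1, q2, m, q3, q4, q5⟩ := exists_m hc (not_dvd_nine hq hq2 hq3) hQ Q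
  have q6 := card_sylow_modEq_one q G
  have o1 : ∀ y ∈ Rs (Q : Subgroup G), orderOf y = q := fun y hy =>
    orderOf_eq_prime (congrArg Subtype.val (q1 ▸ pow_card_eq_one' (x := (⟨y, (mem_Rs.1 hy).1⟩ : (Q : Subgroup G)))))
      (mem_Rs.1 hy).2
  have o2 : ∀ y ∈ Rs (Q : Subgroup G), Subgroup.zpowers y = Q := fun y hy => Subgroup.eq_of_le_of_card_ge
    (by simpa using (mem_Rs.1 hy).1) (by rw [Nat.card_zpowers, o1 y hy, q1])
  have o3 : ∀ y ∈ Rs (Q : Subgroup G), Cz y = Q := fun y hy => by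
    rw [← q2, Cz, ← Subgroup.centralizer_closure, ← Subgroup.zpowers_eq_closure, o2 y hy]; rfl
  have o4 : ∀ y ∈ Rs (Q : Subgroup G), Reg 3 y := fun y hy e =>
    hq3 ((Nat.prime_dvd_prime_iff_eq Nat.prime_three hq).1 (o1 y hy ▸ e)).symm
  have o5 : 1 + (Rs (Q : Subgroup G)).card = q := by
    have := sum_sub (Q : Subgroup G) fun _ => 1
    simp only [Finset.sum_const, Finset.card_univ, smul_eq_mul, mul_one, ← Nat.card_eq_fintype_card, q1] at this
    omega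
  have q7 : Nat.card (Nm (Q : Subgroup G)) = m * Nat.card (Q : Subgroup G) := by rw [q1]; exact q4
  have t1 := sum_t_sq o3 q7
  have t2 := fun (φ : IrrCharacter G) (hφ : φ ≠ triv G) => exists_t o3 q7 hG (by rw [q1]; exact hq.one_lt) hφ
  have : IsMulCommutative (Q : Subgroup G) := (isCyclic_of_prime_card q1).isMulCommutative
  have t3 := (sum_Rs_ge (Q : Subgroup G) θ 0).trans (sum_Rs_le o2 θ)
  rw [q7, θ9] at t3
  rw [q1] at t1 t2 t3
  rcases e6 with ⟨rfl, e6⟩ | ⟨rfl, e6⟩ | ⟨rfl, e6⟩ | rfl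
  · have rx := (h.cx _ (inv_mem (mem_Rs.1 h.hx).1)).2 (Or.inr rfl)
    have ry := (h.cy _ (inv_mem (mem_Rs.1 h.hy).1)).2 (Or.inr rfl)
    have rz : IsConj z z⁻¹ := by
      have i1 : ∀ {u}, IsConj u u⁻¹ → IsConj u z⁻¹ → IsConj u z := fun e e' => by
        obtain ⟨c, hc⟩ := isConj_iff.1 e'
        exact e.trans (isConj_iff.2 ⟨c, by rw [← conj_inv, hc, inv_inv]⟩)
      rcases h.all z⁻¹ (mem_Rs.2 ⟨inv_mem (mem_Rs.1 h.hz).1, by simpa using z1⟩) with e | e | e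
      exacts [absurd (i1 rx e) h.xz, absurd (i1 ry e) h.yz, e]
    obtain ⟨β, b1, b2, _, b3⟩ := int3 (Ne.symm n1) x1 h.x3 rx
    obtain ⟨α, c1, c2, _, c3⟩ := int3 (Ne.symm n1) y1 h.y3 ry
    obtain ⟨γ, f1, f2, _, f3⟩ := int3 (Ne.symm n1) z1 h.z3 rz
    obtain ⟨β', b4, -, _, b5⟩ := int3 (Ne.symm n2) x1 h.x3 rx
    obtain ⟨γ', f4, -, _, f5⟩ := int3 (Ne.symm n2) z1 h.z3 rz
    have g1 := a1 x
    have g2 := a1 z
    rw [E_pe h.x3, E_pe h.x3, if_pos (IsConj.refl _), if_neg fun e => h.xz e.symm, b1, b4] at g1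
    rw [E_pe h.z3, E_pe h.z3, if_pos (IsConj.refl _), if_neg h.xz, f1, f4] at g2
    obtain ⟨n, hn⟩ := exists_nat_inner (isChar_restrict (R : Subgroup G) (ch A1)) isChar_one
    rw [inner_one_right, sum_sub, apply_one, inv_mul_eq_iff_eq_mul₀ natCard_ne_zero, h.sum _ (isClass_of_irr A1.2),
      b1, c1, f1, h9] at hn
    have g3 : β - β' = 2 := by exact_mod_cast (by linear_combination g1 : (β : ℂ) - β' = 2)
    have g4 : γ - γ' = 2 := by exact_mod_cast (by linear_combination g2 : (γ : ℂ) - γ' = 2)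
    have g5 : (dg A1 : ℤ) + (2 * β + 2 * α + 4 * γ) = 9 * n := by exact_mod_cast hn
    omega
  · have c1 : ∀ y ∈ Rs (Q : Subgroup G), B1.1 y = 1 := fun y hy => by
      have := v1 y (o4 y hy)
      rw [zero_of_defect A1 hq (k := 1) (m := 9 * 2 ^ a) (by rw [hc]; ring) (not_dvd_nine hq hq2 hq3) (by simp [e6])
        (o1 y hy).symm.dvd] at this
      linear_combination -this
    have c2 : (Rs (Q : Subgroup G)).card = 6 := by omega
    obtain ⟨n, -, c3, -⟩ := t2 A2 (Ne.symm n3)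
    generalize ((7 : ℕ) : ℤ) * n - dg A2 = τ at c3
    have c4 : ∑ y ∈ Rs (Q : Subgroup G), B2.1 y = ((τ + 6 : ℤ) : ℂ) := by
      rw [Finset.sum_congr rfl (g := fun y => A2.1 y + 1) fun y hy => by linear_combination -v2 y (o4 y hy),
        Finset.sum_add_distrib, c3, Finset.sum_const, c2]
      simp
    have c5 := Finset.sum_le_sum_of_subset_of_nonneg
      (f := fun φ : IrrCharacter G => ‖∑ y ∈ Rs (Q : Subgroup G), φ.1 y‖ ^ 2)
      (Finset.subset_univ {triv G, B1, A2, B2}) fun _ _ _ => by positivity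
    rw [t1, Finset.sum_insert (by simp [*]), Finset.sum_insert (by simp [*]), Finset.sum_pair n7, c3, c4,
      Finset.sum_congr rfl c1, Complex.norm_intCast, Complex.norm_intCast, sq_abs, sq_abs] at c5
    simp only [triv_apply, Finset.sum_const, c2, nsmul_eq_mul, mul_one, Complex.norm_natCast] at c5
    have c6 : (3 : ℝ) ≤ m ∨ (m : ℝ) ≤ 2 := by
      rcases le_or_gt 3 m with e | e
      · exact Or.inl (by exact_mod_cast e)
      · exact Or.inr (by exact_mod_cast Nat.lt_succ_iff.1 e)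
    push_cast at c5
    have c7 : 3 ≤ m := by exact_mod_cast c6.resolve_right fun e => by nlinarith [sq_nonneg ((τ : ℝ) + 3)]
    have c8 := Nat.le_of_dvd (by norm_num) q3
    have := two_pow_mod_seven a
    rw [Nat.ModEq] at q6
    interval_cases m <;> omega
  · have c1 : m = 8 ∨ m = 16 := by
      have c2 : (72 : ℝ) ≤ m * 17 := by push_cast at t3; linarith
      have c3 : 72 ≤ m * 17 := by exact_mod_cast c2
      have c4 := Nat.le_of_dvd (by norm_num) q3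
      have c5 : 5 ≤ m := by omega
      interval_cases m <;> omega
    have c2 : (Rs (Q : Subgroup G)).card = 16 := by omega
    have c3 : ∀ φ : IrrCharacter G, φ ≠ triv G → dg φ ≤ 63 →
        dg φ ∈ [8, 9, 16, 17, 18, 24, 32, 34, 36, 48, 51] := fun φ hφ e => by
      have f1 := dvd_list (hc ▸ dg_dvd φ) e
      obtain ⟨n, f2, f3, f4⟩ := t2 φ hφ
      have f5 := Finset.single_le_sum (f := fun φ : IrrCharacter G => ‖∑ y ∈ Rs (Q : Subgroup G), φ.1 y‖ ^ 2)
        (fun _ _ => by positivity) (Finset.mem_univ φ)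
      rw [t1, f3, Complex.norm_intCast, sq_abs, c2] at f5
      have f6 : (((17 : ℕ) : ℤ) * n - dg φ) ^ 2 ≤ 16 * (m * 17) := by exact_mod_cast f5
      have f7 := two_le_dg hG hφ
      have f8 : dg φ ≠ 12 := fun e => by
        rw [e] at f2 f4 f6
        rcases c1 with rfl | rfl
        · obtain rfl : n = 4 := by omega
          norm_num at f6
        · omega
      simp only [List.mem_cons, List.not_mem_nil, or_false] at f1 ⊢
      rcases c1 with rfl | rfl <;> omega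
    have c4 : ∀ φ : IrrCharacter G, φ = A2 ∨ φ = B2 → ¬ 9 ∣ dg φ := fun φ e e' => by
      have := a3 φ fun g hg => zero_of_defect φ Nat.prime_three (k := 2) (m := 2 ^ a * 17 ^ 1)
        (by rw [hc]; ring) (not_three_dvd hq hq3) e' hg
      tauto
    have c5 := c3 A2 (Ne.symm n3) (by omega)
    have c6 := c3 B2 (Ne.symm n4) (by omega)
    have c7 := c4 A2 (Or.inl rfl)
    have c8 := c4 B2 (Or.inr rfl)
    simp only [List.mem_cons, List.not_mem_nil, or_false] at c5 c6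
    have c9 : dg B2 = 17 := by omega
    obtain ⟨u, v, e⟩ : ∃ u v, ∑ φ ∈ ({triv G, B1, B2} : Finset (IrrCharacter G))ᶜ, μ φ * dg φ = 8 * u + 9 * v := by
      refine Finset.sum_induction _ (fun n => ∃ u v, n = 8 * u + 9 * v)
        (fun _ _ ⟨u, v, e⟩ ⟨u', v', e'⟩ => ⟨u + u', v + v', by omega⟩) ⟨0, 0, rfl⟩ fun φ hφ => ?_
      have f1 := Finset.single_le_sum (f := fun φ => μ φ * dg φ) (fun _ _ => Nat.zero_le _) hφ
      rcases Nat.eq_zero_or_pos (μ φ) with e | e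
      · exact ⟨0, 0, by simp [e]⟩
      have f2 : dg φ ≤ μ φ * dg φ := Nat.le_mul_of_pos_left _ e
      have f3 := c3 φ (fun e => by simp [e] at hφ) (by omega)
      obtain ⟨u, v, e⟩ : ∃ u v, dg φ = 8 * u + 9 * v := ⟨(dg φ - 9 * (dg φ % 8)) / 8, dg φ % 8, by
        simp only [List.mem_cons, List.not_mem_nil, or_false] at f3
        omega⟩
      exact ⟨μ φ * u, μ φ * v, by rw [e]; ring⟩
    rw [e1, e6, c9, e] at m2
    omega
  · have c2 : (198 : ℝ) ≤ m * 31 := by push_cast at t3; linarith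
    have c3 : 198 ≤ m * 31 := by exact_mod_cast c2
    have c4 := Nat.le_of_dvd (by norm_num) q3
    have c5 : 7 ≤ m := by omega
    refine not_dvd_nine (a := a) Nat.prime_five (by norm_num) (by norm_num) (q5 ▸ Dvd.dvd.mul_left ?_ _)
    interval_cases m <;> omega

theorem caseII [Fintype G] [IsSimpleGroup G] (hG : ¬ IsMulCommutative G) {q a b : ℕ} (hq : q.Prime) (hq2 : q ≠ 2)
    (hq3 : q ≠ 3) (hc : Nat.card G = 9 * 2 ^ a * q ^ b) {R : Sylow 3 G} {x y z : G} (h : C2 (R : Subgroup G) x y z)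
    (h9 : Nat.card R = 9) : False := by
  obtain ⟨A1, B1, A2, B2, a0, a1, a2, a3, a4 | a4⟩ := h.pairs h9 (hc.trans (mul_assoc _ _ _))
  · exact caseII_aux hG hq hq2 hq3 hc h h9 a0 a1 a2 (fun θ e => by have := a3 θ e; simp at this; tauto) a4.1 a4.2
  · exact caseII_aux hG hq hq2 hq3 hc h.symm h9 (by simp at a0 ⊢; tauto) a2 a1
      (fun θ e => by have := a3 θ e; simp at this; tauto) a4.1 a4.2

end Cfsg.Agent.Nine
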